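import Cfsg.Agent.FS.Real.PermM
import Cfsg.Agent.S0242
import Cfsg.Agent.S0245

/-!
# The classical groups used as models, with their orders (helper83, project FS, part C)
-/

set_option autoImplicit false

namespace Cfsg.Agent.FS.Real

open Matrix

/-- `ℤ/2` -/
def k2 : RM (ZMod 2) := rmZ 2 1 (by norm_num) (by norm_num)
/-- `ℤ/3` -/
def k3 : RM (ZMod 3) := rmZ 3 2 (by norm_num) (by norm_num)
/-- `ℤ/5` -/
def k5 : RM (ZMod 5) := rmZ 5 3 (by norm_num) (by norm_num)
/-- `ℤ/7` -/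
def k7 : RM (ZMod 7) := rmZ 7 3 (by norm_num) (by norm_num)
/-- `ℤ/17` -/
def k17 : RM (ZMod 17) := rmZ 17 5 (by norm_num) (by norm_num)
/-- `ℤ/31` -/
def k31 : RM (ZMod 31) := rmZ 31 5 (by norm_num) (by norm_num)

theorem card_SL_zmod (p n N : ℕ) (hp : p.Prime) (hn : 1 ≤ n) (h : ∏ i : Fin n, (p ^ n - p ^ (i : ℕ)) = (p - 1) * N) :
    Nat.card (SpecialLinearGroup (Fin n) (ZMod p)) = N := by
  have : Fact p.Prime := ⟨hp⟩
  have h1 := S0242.result (F := ZMod p) (ZMod.card p) n hn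
  rw [h] at h1
  exact Nat.eq_of_mul_eq_mul_left (by have := hp.two_le; omega) h1

theorem card_Sp_zmod (p m : ℕ) (hp : p.Prime) :
    Nat.card (symplecticGroup (Fin m) (ZMod p)) = p ^ (m ^ 2) * ∏ i ∈ Finset.range m, (p ^ (2 * (i + 1)) - 1) := by
  have : Fact p.Prime := ⟨hp⟩
  exact S0245.result (F := ZMod p) (ZMod.card p) m

theorem card_F4 : Nat.card (GaloisField 2 2) = 4 := GaloisField.card 2 2 (by norm_num)

theorem card_SL34 : Nat.card (SpecialLinearGroup (Fin 3) (GaloisField 2 2)) = 60480 := by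
  have := Fintype.ofFinite (GaloisField 2 2)
  have h1 := S0242.result (F := GaloisField 2 2) (q := 4) (by rw [← Nat.card_eq_fintype_card, card_F4]) 3 (by norm_num)
  rw [show ∏ i : Fin 3, (4 ^ 3 - 4 ^ (i : ℕ)) = 181440 by decide] at h1
  omega

theorem card_GL34 : Nat.card (GL (Fin 3) (GaloisField 2 2)) = 181440 := by
  have := Fintype.ofFinite (GaloisField 2 2)
  rw [Matrix.card_GL_field, ← Nat.card_eq_fintype_card, card_F4]
  decide

theorem card_Sp44 : Nat.card (symplecticGroup (Fin 2) (GaloisField 2 2)) = 979200 := by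
  have := Fintype.ofFinite (GaloisField 2 2)
  rw [S0245.result (F := GaloisField 2 2) (q := 4) (by rw [← Nat.card_eq_fintype_card, card_F4]) 2]
  decide

theorem card_SL32 : Nat.card (SpecialLinearGroup (Fin 3) (ZMod 2)) = 168 :=
  card_SL_zmod 2 3 _ (by norm_num) (by norm_num) (by decide)
theorem card_SL42 : Nat.card (SpecialLinearGroup (Fin 4) (ZMod 2)) = 20160 :=
  card_SL_zmod 2 4 _ (by norm_num) (by norm_num) (by decide)
theorem card_SL33 : Nat.card (SpecialLinearGroup (Fin 3) (ZMod 3)) = 5616 :=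
  card_SL_zmod 3 3 _ (by norm_num) (by norm_num) (by decide)
theorem card_SL35 : Nat.card (SpecialLinearGroup (Fin 3) (ZMod 5)) = 372000 :=
  card_SL_zmod 5 3 _ (by norm_num) (by norm_num) (by decide)
theorem card_SL37 : Nat.card (SpecialLinearGroup (Fin 3) (ZMod 7)) = 5630688 :=
  card_SL_zmod 7 3 _ (by norm_num) (by norm_num) (by decide)
theorem card_SL43 : Nat.card (SpecialLinearGroup (Fin 4) (ZMod 3)) = 12130560 :=
  card_SL_zmod 3 4 _ (by norm_num) (by norm_num) (by decide)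
theorem card_SL45 : Nat.card (SpecialLinearGroup (Fin 4) (ZMod 5)) = 29016000000 :=
  card_SL_zmod 5 4 _ (by norm_num) (by norm_num) (by decide +kernel)
theorem card_SL217 : Nat.card (SpecialLinearGroup (Fin 2) (ZMod 17)) = 4896 :=
  card_SL_zmod 17 2 _ (by norm_num) (by norm_num) (by decide)
theorem card_SL231 : Nat.card (SpecialLinearGroup (Fin 2) (ZMod 31)) = 29760 :=
  card_SL_zmod 31 2 _ (by norm_num) (by norm_num) (by decide)
theorem card_Sp43 : Nat.card (symplecticGroup (Fin 2) (ZMod 3)) = 51840 :=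
  (card_Sp_zmod 3 2 (by norm_num)).trans (by decide)
theorem card_Sp47 : Nat.card (symplecticGroup (Fin 2) (ZMod 7)) = 276595200 :=
  (card_Sp_zmod 7 2 (by norm_num)).trans (by decide +kernel)

/-- a scalar matrix in `SL` -/
noncomputable def RM.czSL {F : Type} [CommRing F] (K : RM F) (n c s e : ℕ)
    (h : (Nat.beq c (K.msc n s) && ((K.mSL n).ok c 0 && (K.mSL n).eqv ((K.mSL n).pw c (2 ^ (e + 1))) (K.mSL n).one &&
      (K.mSL n).neq ((K.mSL n).pw c (2 ^ e)) (K.mSL n).one)) = true) : CZ (K.mSL n) c e :=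
  (K.mSL n).cz c e (K.mdl_comm _ _ _ _ _ (Bool.and_eq_true_iff.1 h).1) (Bool.and_eq_true_iff.1 h).2

/-- a scalar matrix in `Sp` -/
noncomputable def RM.czSp {F : Type} [CommRing F] (K : RM F) (n c s e : ℕ)
    (h : (Nat.beq c (K.msc (n + n) s) && ((K.mSp n).ok c 0 &&
      (K.mSp n).eqv ((K.mSp n).pw c (2 ^ (e + 1))) (K.mSp n).one &&
      (K.mSp n).neq ((K.mSp n).pw c (2 ^ e)) (K.mSp n).one)) = true) : CZ (K.mSp n) c e :=
  (K.mSp n).cz c e (K.mdl_comm _ _ _ _ _ (Bool.and_eq_true_iff.1 h).1) (Bool.and_eq_true_iff.1 h).2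

/-- the centre of `SL₂(17)` -/
noncomputable def zL217 : CZ (k17.mSL 2) 524304 0 := k17.czSL 2 _ 16 _ (by decide +kernel)
/-- the centre of `SL₂(31)` -/
noncomputable def zL231 : CZ (k31.mSL 2) 983070 0 := k31.czSL 2 _ 30 _ (by decide +kernel)
/-- the centre of `SL₄(3)` -/
noncomputable def zL43 : CZ (k3.mSL 4) 2149582850 0 := k3.czSL 4 _ 2 _ (by decide +kernel)
/-- the centre of `SL₄(5)` -/
noncomputable def zL45 : CZ (k5.mSL 4) 70370891726850 1 := k5.czSL 4 _ 2 _ (by decide +kernel)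
/-- the centre of `Sp₄(3)` -/
noncomputable def zS43 : CZ (k3.mSp 2) 2149582850 0 := k3.czSp 2 _ 2 _ (by decide +kernel)
/-- the centre of `Sp₄(7)` -/
noncomputable def zS47 : CZ (k7.mSp 2) 211112675180550 0 := k7.czSp 2 _ 6 _ (by decide +kernel)

theorem card_L217 : Nat.card (_ ⧸ zL217.sub) = 2448 := zL217.card_eq card_SL217 (by norm_num)
theorem card_L231 : Nat.card (_ ⧸ zL231.sub) = 14880 := zL231.card_eq card_SL231 (by norm_num)
theorem card_L43 : Nat.card (_ ⧸ zL43.sub) = 6065280 := zL43.card_eq card_SL43 (by norm_num)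
theorem card_L45 : Nat.card (_ ⧸ zL45.sub) = 7254000000 := zL45.card_eq card_SL45 (by norm_num)
theorem card_S43 : Nat.card (_ ⧸ zS43.sub) = 25920 := zS43.card_eq card_Sp43 (by norm_num)
theorem card_S47 : Nat.card (_ ⧸ zS47.sub) = 138297600 := zS47.card_eq card_Sp47 (by norm_num)

theorem bdSL {F : Type} [CommRing F] (K : RM F) (n : ℕ) : (K.mSL n).Bd (K.w * (n * n)) := K.mdl_bd _ _ _ _ _

theorem bd32 : (k2.mSL 3).Bd 9 := bdSL k2 3
theorem bd33 : (k3.mSL 3).Bd 18 := bdSL k3 3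
theorem bd217 : zL217.mdl.Bd 20 := zL217.bd (bdSL k17 2)

theorem card_prod_eq {G H : Type} {a b : ℕ} (h1 : Nat.card G = a) (h2 : Nat.card H = b) : Nat.card (G × H) = a * b := by
  rw [Nat.card_prod, h1, h2]

end Cfsg.Agent.FS.Real
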