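import Cfsg.Agent.FS.Real.Mat
import Cfsg.Prelude.Def_G2

/-!
# The model of `G₂` (helper83, project FS, part C)
-/

set_option autoImplicit false

namespace Cfsg.Agent.FS.Real

open Matrix Cfsg.Lie

/-- Zorn's product as a bilinear map. -/
def zornB (F : Type) [CommRing F] : (Fin 8 → F) →ₗ[F] (Fin 8 → F) →ₗ[F] (Fin 8 → F) :=
  LinearMap.mk₂ F zornMul
    (fun x x' y => by
      ext k
      fin_cases k <;> simp [zornMul, dot3, cross3] <;> ring)
    (fun c x y => by
      ext k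
      fin_cases k <;> simp [zornMul, dot3, cross3] <;> ring)
    (fun x y y' => by
      ext k
      fin_cases k <;> simp [zornMul, dot3, cross3] <;> ring)
    (fun c x y => by
      ext k
      fin_cases k <;> simp [zornMul, dot3, cross3] <;> ring)

theorem zorn_of_basis {F : Type} [CommRing F] {A : Matrix (Fin 8) (Fin 8) F}
    (h : ∀ i j : Fin 8, A *ᵥ zornMul (Pi.single i 1) (Pi.single j 1) = zornMul (fun k => A k i) fun k => A k j)
    (x y : Fin 8 → F) : A *ᵥ zornMul x y = zornMul (A *ᵥ x) (A *ᵥ y) := by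
  have h1 : (zornB F).compr₂ (Matrix.mulVecLin A) = (zornB F).compl₁₂ (Matrix.mulVecLin A) (Matrix.mulVecLin A) := by
    refine LinearMap.ext_basis (Pi.basisFun F (Fin 8)) (Pi.basisFun F (Fin 8)) fun i j => ?_
    rw [Pi.basisFun_apply, Pi.basisFun_apply]
    show A *ᵥ zornMul (Pi.single i 1) (Pi.single j 1) = zornMul (A *ᵥ Pi.single i 1) (A *ᵥ Pi.single j 1)
    rw [h, Matrix.mulVec_single_one, Matrix.mulVec_single_one]
    rfl
  exact congrArg (fun B : (Fin 8 → F) →ₗ[F] (Fin 8 → F) →ₗ[F] (Fin 8 → F) => B x y) h1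

namespace RM

variable {F : Type} [Field F] (K : RM F)

/-- sums of four products -/
def z4 (a b c d e f g h : ℕ) : ℕ := K.fma (K.fma (K.fma (K.fma 0 a b) c d) e f) g h

theorem val_z4 (a b c d e f g h : ℕ) : K.val (K.z4 a b c d e f g h) =
    K.val a * K.val b + K.val c * K.val d + K.val e * K.val f + K.val g * K.val h := by
  unfold z4
  rw [K.val_fma, K.val_fma, K.val_fma, K.val_fma, K.val_zero, zero_add]

/-- negation -/
def ng (a : ℕ) : ℕ := K.fma 0 K.m1 a

theorem val_ng (a : ℕ) : K.val (K.ng a) = -K.val a := by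
  unfold ng
  rw [K.val_fma, K.val_zero, K.val_m1, zero_add, neg_one_mul]

/-- Zorn's product on codes -/
def zc (x y : ℕ → ℕ) (k : ℕ) : ℕ :=
  bif Nat.blt k 4 then
    bif Nat.blt k 2 then
      bif Nat.beq k 0 then K.z4 (x 0) (y 0) (x 1) (y 4) (x 2) (y 5) (x 3) (y 6)
      else K.z4 (x 0) (y 1) (x 1) (y 7) (x 6) (y 5) (K.ng (x 5)) (y 6)
    else
      bif Nat.beq k 2 then K.z4 (x 0) (y 2) (x 2) (y 7) (x 4) (y 6) (K.ng (x 6)) (y 4)
      else K.z4 (x 0) (y 3) (x 3) (y 7) (x 5) (y 4) (K.ng (x 4)) (y 5)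
  else
    bif Nat.blt k 6 then
      bif Nat.beq k 4 then K.z4 (x 4) (y 0) (x 7) (y 4) (x 2) (y 3) (K.ng (x 3)) (y 2)
      else K.z4 (x 5) (y 0) (x 7) (y 5) (x 3) (y 1) (K.ng (x 1)) (y 3)
    else
      bif Nat.beq k 6 then K.z4 (x 6) (y 0) (x 7) (y 6) (x 1) (y 2) (K.ng (x 2)) (y 1)
      else K.z4 (x 4) (y 1) (x 5) (y 2) (x 6) (y 3) (x 7) (y 7)

theorem val_zc (x y : ℕ → ℕ) (k : Fin 8) :
    K.val (K.zc x y k) = zornMul (fun i : Fin 8 => K.val (x i)) (fun i : Fin 8 => K.val (y i)) k := by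
  fin_cases k
  · show K.val (K.z4 _ _ _ _ _ _ _ _) = _
    rw [val_z4]
    simp [zornMul, dot3]
    ring
  all_goals
    show K.val (K.z4 _ _ _ _ _ _ _ _) = _
    rw [val_z4]
    try rw [val_ng]
    simp [zornMul, dot3, cross3]
    try ring

/-- basis vectors -/
def ev (i k : ℕ) : ℕ := bif Nat.beq k i then 1 else 0

theorem val_ev (i : Fin 8) : (fun k : Fin 8 => K.val (ev i k)) = Pi.single i 1 := by
  ext k
  unfold ev
  by_cases h : k = i
  · rw [h, Nat.beq_refl, cond_true, K.val_one, Pi.single_eq_same]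
  · rw [beq_false fun h2 => h (Fin.ext h2), cond_false, K.val_zero, Pi.single_eq_of_ne h]

/-- check: an automorphism of Zorn's algebra -/
noncomputable def isZ (a : ℕ) : Bool :=
  force a fun a => allB 8 fun i => allB 8 fun j => force (pack K.w 8 fun l => K.nrm (K.zc (ev i) (ev j) l)) fun P =>
    allB 8 fun k => Nat.beq (K.nrm (K.dot 8 (K.ent 8 a k) (get K.w P)))
      (K.nrm (K.zc (fun l => K.ent 8 a l i) (fun l => K.ent 8 a l j) k))

/-- The model of `G₂`; the witness is the inverse. -/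
noncomputable def mG2 : Mdl (G2 F) :=
  K.mdl (Equiv.refl _) ((Units.coeHom _).comp (G2 F).subtype) (Units.val_injective.comp Subtype.val_injective)
    (fun a w => Nat.beq (K.mmul 8 a w) (K.msc 8 1) && K.isZ a) fun a w h => by
      rw [Bool.and_eq_true] at h
      obtain ⟨g, hg⟩ := K.exists_unit (Equiv.refl _) h.1
      refine ⟨⟨g, ?_⟩, hg⟩
      have h2 := h.2
      unfold isZ at h2
      rw [force_eq] at h2
      intro x y
      show (g : Matrix (Fin 8) (Fin 8) F) *ᵥ _ = zornMul ((g : Matrix (Fin 8) (Fin 8) F) *ᵥ x)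
        ((g : Matrix (Fin 8) (Fin 8) F) *ᵥ y)
      rw [hg]
      refine zorn_of_basis (fun i j => ?_) x y
      ext k
      have h3 := allB_spec (allB_spec h2 i.2) j.2
      rw [force_eq] at h3
      have h4 := congrArg K.val (beq_eq (allB_spec h3 k.2))
      rw [K.val_nrm, K.val_nrm, val_zc, val_dot, ← Fin.sum_univ_eq_sum_range (fun l => K.val (K.ent 8 a k l) *
        K.val (get K.w (pack K.w 8 fun l => K.nrm (K.zc (ev i) (ev j) l)) l))] at h4
      refine Eq.trans ?_ h4
      show ∑ l : Fin 8, K.val (K.ent 8 a k l) * zornMul (Pi.single i 1) (Pi.single j 1) l = _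
      refine Finset.sum_congr rfl fun l _ => ?_
      rw [get_pack (fun _ => K.nrm_lt _) _ l.2, K.val_nrm, val_zc, val_ev, val_ev]

end RM

end Cfsg.Agent.FS.Real
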