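import Cfsg.Agent.FS.Real.PermM
import Cfsg.Agent.SporadicA.GolayPerm
import Cfsg.Prelude.Def_Spor_Mathieu

/-!
# Models of the Mathieu groups (helper83, project FS, part C)
-/

set_option autoImplicit false

namespace Cfsg.Agent.FS.Real

open Cfsg Cfsg.Agent.SporadicA.GolayBase Cfsg.Agent.SporadicA.GolayPerm
open scoped Pointwise

/-- The model of a subgroup of `M₂₄`. -/
noncomputable def mGol (H : Subgroup (Equiv.Perm GolayPt)) (ok : ℕ → Bool)
    (hok : ∀ (a : ℕ) (ha : isPerm a = true), permOf a ha ∈ M24 → ok a = true → permOf a ha ∈ H) : Mdl H :=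
  pmdl 5 24 (by norm_num) idx idx_lt idx_injective (fun k hk => ⟨pt k, idx_pt hk⟩) H.subtype Subtype.val_injective
    (fun a _ => force a fun a => isPerm a && isAut a && ok a) fun a _ h => by
      rw [force_eq, Bool.and_eq_true, Bool.and_eq_true] at h
      exact ⟨⟨permOf a h.1.1, hok a h.1.1 (permOf_mem_M24 h.1.1 h.1.2) h.2⟩, fun p => idx_permOf h.1.1 p⟩

theorem permOf_fix {a : ℕ} (ha : isPerm a = true) {p : GolayPt} (h : Nat.beq (papp a (idx p)) (idx p) = true) :
    permOf a ha ∈ MulAction.stabilizer (Equiv.Perm GolayPt) p :=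
  idx_injective ((idx_permOf ha p).trans (beq_eq h))

/-- `M₂₃` -/
noncomputable def mM23 : Mdl Spor.M23 :=
  mGol _ (fun a => Nat.beq (papp a 23) 23) fun _ ha h1 h2 => ⟨h1, permOf_fix ha h2⟩

/-- `M₂₂` -/
noncomputable def mM22 : Mdl Spor.M22 :=
  mGol _ (fun a => Nat.beq (papp a 23) 23 && Nat.beq (papp a 0) 0) fun _ ha h1 h2 => by
    rw [Bool.and_eq_true] at h2
    exact ⟨⟨h1, permOf_fix ha h2.1⟩, permOf_fix ha h2.2⟩

theorem squareDodecad_eq_fin : Spor.squareDodecad = fin 340831 := by decide +kernel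

/-- `M₁₂` -/
noncomputable def mM12 : Mdl Spor.M12 :=
  mGol _ (fun a => Nat.beq (pimg a 340831) 340831) fun a ha h1 h2 => by
    refine ⟨h1, ?_⟩
    show permOf a ha ∈ MulAction.stabilizer (Equiv.Perm GolayPt) Spor.squareDodecad
    rw [MulAction.mem_stabilizer_iff, squareDodecad_eq_fin, smul_fin, beq_eq h2]

end Cfsg.Agent.FS.Real
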