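import Cfsg.Agent.FS.Real.Tab
import Cfsg.Agent.FS.Real.Grp
import Cfsg.Agent.FS.Real.MatG2
import Cfsg.Agent.FS.Real.Math
import Cfsg.Agent.H638.G2Iso
import Cfsg.Agent.MTwelveType.SylowModel

/-!
# `G₂(3)`, `G₂(7)` and `M₁₂` (helper83, project FS, part C; generated)
-/

set_option autoImplicit false

namespace Cfsg.Agent.FS.Real

instance fact7 : Fact (Nat.Prime 7) := ⟨by norm_num⟩

theorem card_G23 : Nat.card (Cfsg.Lie.G2 (ZMod 3)) = 4245696 := by
  rw [H638.G2Iso.card_G2, Nat.card_zmod]
  norm_num

theorem card_G27 : Nat.card (Cfsg.Lie.G2 (ZMod 7)) = 664376138496 := by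
  rw [H638.G2Iso.card_G2, Nat.card_zmod]
  norm_num

namespace GG27

/-- the codes of the generators -/
def X : ℕ → ℕ := get 192 0x52344641ecf53566ce003c4084c14384b68371cd9ccdcb82434b26ac6c8a83644b81324b031600db6191874d9bc0b4dab824eb0dc6a8ab634a4da205b13ae29a6123262416645b1541eb064592152cc5368ddaf39936db19c25838b35ec214c20000010004880005500002980e10001120000510002000002318009b4db3016c0001dc00000c00c18c992049ae00e601d8a52a54ed1d9198cba18672d60b013032de41cc45475ad63180001800180300180e16c08a8c1b7501a40000080e0001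

theorem ex : ∃ x, (RM.mG2 (F := ZMod 7) k7).RX dG27 X x := Mdl.exists_RX (W := get 192 0x52344641ecf53566ce003c4084c14384b68371cd9ccdcb82434b26ac6c8a83644b81324b031600db6191874d9bc0b4dab6115354264d6e0544b22a42d316990a47984f299569e0ad501466ac92aa8cd11b0db5b01b62d869965cce3329cc6b9a0000010004880005500002980e10001120000510002000002318009b4db3016c0001dc00000c00c18c992049ae00e601d8a52a54ed1d9198cba18672d60b013032de41cc45475ad63180001800180300180e16c08a8c1b7501a40000080e0001) (by decide +kernel)

/-- the generators -/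
noncomputable def x := Classical.choose ex

theorem hx : (RM.mG2 (F := ZMod 7) k7).RX dG27 X x := Classical.choose_spec ex

theorem rels : (RM.mG2 (F := ZMod 7) k7).rels dG27 X = true := by decide +kernel

theorem cores : (RM.mG2 (F := ZMod 7) k7).cores dG27 X [⟨128, 1, 109, 0x938c19b124336a1063243ae836813ab487200338036c700, 0x12884992120b60e3340b0028410d655b0d657a32a42d07b0, 0x291958d4e099a9879a29ecae554b75508c05da4c1916e6a1, 0x296d489760f3b405927836ec566a9548c2dd304c361692b1⟩] = true := by decide +kernel

theorem ress : (RM.mG2 (F := ZMod 7) k7).ress dG27 X [⟨1, 0x53572e686bacb04562cd445924c21e49b59d2dcaf6cca8d2, 0x451776655a94833d4badeb1a85351bc5b011b1cd22dae88a, 2, 7⟩,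
    ⟨2, 0x386720b24b926b423451c46d2233460826203204f60418d9, 0x241ad065aa54943c0b8265abc148a1104998cd0921186529, 2, 7⟩,
    ⟨4, 0x26123068551cb94a8a0eb0000610581759604c3c5519ec09, 0x202740226546069880ce264126b59e9300ab26bb1e005881, 2, 7⟩] = true := by decide +kernel

theorem card : Nat.card (RM.mG2 (F := ZMod 7) k7).T = 664376138496 := card_G27

theorem fin : Finite (RM.mG2 (F := ZMod 7) k7).T :=  Nat.finite_of_card_ne_zero (by rw [card]; norm_num)

theorem rz : Rz dG27 _ x :=
  haveI := fin
  hx.rz dG27_ok (m := 2595219291) card (by norm_num) rels cores ress (l := [(1, 2), (1, 4), (2, 1), (2, 4), (2, 3), (2, 5), (4, 3), (4, 5), (4, 109), (4, 107), (1, 207), (1, 151), (1, 241), (1, 89), (1, 63), (2, 240), (4, 150), (4, 88), (4, 62), (4, 242), (3, 206), (3, 146), (3, 92), (3, 58), (3, 246), (5, 145), (5, 95), (5, 57), (5, 245), (207, 10), (6, 228), (6, 140), (109, 205), (109, 229), (109, 226), (109, 138), (107, 47), (107, 71), (241, 184), (89, 73)]) (by decide +kernel)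

end GG27

theorem models_G27 : Models dG27 1 := models_one GG27.rz

namespace GG23

/-- the codes of the generators -/
def X : ℕ → ℕ := get 128 0x4680a6550a4001400080446282a509415584922522846956666a510a66a62a4905250a64aa9555521a2461a666a64a1805a5a261a495581211a4481a52824a58056559aaa195529214645082415a4a982259690a581a96a9999524a4924951a4

theorem ex : ∃ x, (RM.mG2 (F := ZMod 3) k3).RX dM12 X x := Mdl.exists_RX (W := get 127 0x2340532a852000a000402231415284a0d584922522846956666a510a66a62a490a4a14c9552aaaa43448c34ccd4c94301696898692556048469120694a0929602b2acd550caa9490a32284120ad254c2259690a581a96a9999524a4924951a4) (by decide +kernel)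

/-- the generators -/
noncomputable def x := Classical.choose ex

theorem hx : (RM.mG2 (F := ZMod 3) k3).RX dM12 X x := Classical.choose_spec ex

theorem rels : (RM.mG2 (F := ZMod 3) k3).rels dM12 X = true := by decide +kernel

theorem cores : (RM.mG2 (F := ZMod 3) k3).cores dM12 X [⟨32, 1, 29, 0xa65aa045928199590a641614956999a6, 0x82aa5166660696498595650aa9258156, 0x824a1110814908400880828522108186, 0x8822681601408421024020088a518412⟩] = true := by decide +kernel

theorem ress : (RM.mG2 (F := ZMod 3) k3).ress dM12 X [⟨1, 0x91522458959996a9604224a4a909a2a2, 0x922a586a485a06a86a960654411aa116, 2, 3⟩,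
    ⟨2, 0x60181000a421612a5a62101010041025, 0x50241000642a81099569201020042019, 2, 3⟩,
    ⟨4, 0x9846255086216a6621a84296a619a48a, 0x8626684625686606628a81591a68891a, 2, 7⟩] = true := by decide +kernel

theorem card : Nat.card (RM.mG2 (F := ZMod 3) k3).T = 4245696 := card_G23

theorem fin : Finite (RM.mG2 (F := ZMod 3) k3).T :=  Nat.finite_of_card_ne_zero (by rw [card]; norm_num)

theorem rz : Rz dM12 _ x :=
  haveI := fin
  hx.rz dM12_ok (m := 66339) card (by norm_num) rels cores ress (l := [(1, 2), (1, 4), (2, 1), (2, 4), (2, 5), (4, 63), (4, 6), (4, 27), (1, 11), (2, 34), (2, 10), (3, 47)]) (by decide +kernel)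

theorem pos : Pos dM12 x 7 0x28382010183008 0x60504030201 0x60504030201 0 :=
  hx.pos 0x64a411585a568851a2158a118a851859 0x6a18825594555192a0514a2a2a601525 0x64a411585a568851a2158a118a851859 0x6a18825594555192a0514a2a2a601525 (by decide +kernel)

end GG23

namespace GM12

/-- the codes of the generators -/
def X : ℕ → ℕ := get 120 0xb5eb19ca8273c0c59468399414c08dbd8f45a22273da699532ab1411c080b5e74a9a2273da83a86c5c8a44c0208d276ab2e12a9323b9a65a1e2012035166eaa1e08d0463dc325b2c323530bdab15ca81515a69bc683b1c249200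

theorem ex : ∃ x, (mM12).RX dM12 X x := Mdl.exists_RX (W := get 1 0x0) (by decide +kernel)

/-- the generators -/
noncomputable def x := Classical.choose ex

theorem hx : (mM12).RX dM12 X x := Classical.choose_spec ex

theorem rels : (mM12).rels dM12 X = true := by decide +kernel

theorem cores : (mM12).cores dM12 X [⟨32, 1, 29, 0x2baf4b022453d923cc28ab56980866, 0, 0xb514e2c1e3bc4c85d532988e10348c, 0⟩] = true := by decide +kernel

theorem ress : (mM12).ress dM12 X [⟨1, 0xbda872a141abdb29ad867262218090, 0, 4, 3⟩,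
    ⟨2, 0x8aa87b41c92dc617ce46a896c0208d, 0, 2, 3⟩,
    ⟨4, 0xb4574299e075c629d58d3a54484828, 0, 4, 3⟩] = true := by decide +kernel

theorem card : Nat.card (mM12).T = 95040 := MTwelveType.SylowModel.card_M12

theorem fin : Finite (mM12).T :=  Nat.finite_of_card_ne_zero (by rw [card]; norm_num)

theorem rz : Rz dM12 _ x :=
  haveI := fin
  hx.rz dM12_ok (m := 1485) card (by norm_num) rels cores ress (l := [(1, 2), (1, 4), (2, 1), (2, 4), (2, 5), (4, 63), (4, 6), (4, 27), (1, 11), (2, 34), (2, 10), (3, 47)]) (by decide +kernel)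

end GM12

theorem models_M12 : Models dM12 2 :=
  haveI := GM12.fin
  models_two GG23.rz GM12.rz (GG23.pos.sep_card (by decide +kernel) (by rw [GM12.card]; norm_num))

end Cfsg.Agent.FS.Real
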