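import Cfsg.Agent.FS.Real.Mdl
import Cfsg.Agent.R10.TEval
import Cfsg.Agent.TypeM.Two

/-!
# The model of an involution centralizer `2.A_n` (helper83, project FS, part C)
-/

set_option autoImplicit false

namespace Cfsg.Agent.FS.Real

open Equiv Subgroup
open Cfsg.Agent.CharactersDeep.DoubleCover Cfsg.Agent.R10.TCalc Cfsg.Agent.R10.TEval Cfsg.Agent.TypeM.Two

section

variable {n : ℕ}

/-- the code of a word -/
noncomputable def enc (L : List (Fin n × Fin n)) : ℕ :=
  List.rec 1 (fun p _ r => (p.1.val + 16 * p.2.val) + 256 * r) L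

/-- the word of a code -/
noncomputable def decF (n : ℕ) [NeZero n] (f : ℕ) : ℕ → List (Fin n × Fin n) :=
  Nat.rec (fun _ => []) (fun _ r c => force c fun c => bif Nat.ble c 1 then [] else
    force (c % 16) fun a => force (c / 16 % 16) fun b => (Fin.ofNat n a, Fin.ofNat n b) :: r (c / 256)) f

theorem enc_pos (L : List (Fin n × Fin n)) : L.length < enc L := by
  induction L with
  | nil => exact Nat.one_pos
  | cons p L ih =>
    show L.length + 1 < (p.1.val + 16 * p.2.val) + 256 * enc L
    omega

theorem decF_enc [NeZero n] (hn : n ≤ 16) (L : List (Fin n × Fin n)) : ∀ f, L.length ≤ f → decF n f (enc L) = L := by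
  induction L with
  | nil =>
    intro f _
    cases f <;> rfl
  | cons p L ih =>
    intro f hf
    obtain ⟨f, rfl⟩ : ∃ g, f = g + 1 := ⟨f - 1, by rw [List.length_cons] at hf; omega⟩
    have h1 : enc (p :: L) = (p.1.val + 16 * p.2.val) + 256 * enc L := rfl
    have h2 : ∀ c, decF n (f + 1) c = force c fun c => bif Nat.ble c 1 then [] else
      force (c % 16) fun a => force (c / 16 % 16) fun b => (Fin.ofNat n a, Fin.ofNat n b) :: decF n f (c / 256) :=
      fun _ => rfl
    have h3 := enc_pos L
    have h4 := p.1.2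
    have h5 := p.2.2
    have h6 : Nat.ble (enc (p :: L)) 1 = false := by
      cases h : Nat.ble (enc (p :: L)) 1
      · rfl
      · have := Nat.le_of_ble_eq_true h
        omega
    rw [h2, force_eq, h6, cond_false, force_eq, force_eq, show enc (p :: L) % 16 = p.1.val by omega,
      show enc (p :: L) / 16 % 16 = p.2.val by omega, show enc (p :: L) / 256 = enc L by omega,
      ih f (by rw [List.length_cons] at hf; omega), Fin.ofNat_val_eq_self, Fin.ofNat_val_eq_self]

/-- the word of a code with sign -/
noncomputable def wd (n : ℕ) [NeZero n] (c : ℕ) : List (Fin n × Fin n) := decF n c (c / 2)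

/-- the code of a word with sign -/
noncomputable def cd (s : Bool) (L : List (Fin n × Fin n)) : ℕ := (bif s then 1 else 0) + 2 * enc L

theorem wd_cd [NeZero n] (hn : n ≤ 16) (s : Bool) (L : List (Fin n × Fin n)) : wd n (cd s L) = L := by
  have h1 := enc_pos L
  unfold wd cd
  cases s
  · rw [cond_false, show (0 + 2 * enc L) / 2 = enc L by omega, decF_enc hn L _ (by omega)]
  · rw [cond_true, show (1 + 2 * enc L) / 2 = enc L by omega, decF_enc hn L _ (by omega)]

theorem tb_cd (s : Bool) (L : List (Fin n × Fin n)) : tb (cd s L) 0 = s := by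
  unfold tb cd
  rw [Nat.shiftRight_zero, Nat.add_mul_mod_self_left]
  cases s <;> rfl

theorem NF_eq_val (L : List (Fin n × Fin n)) : NF L = val L.reverse := by
  induction L with
  | nil => rfl
  | cons p L ih =>
    rw [List.reverse_cons, val_append, ← ih, val_cons, val_nil, mul_one]
    rfl

/-- parity -/
noncomputable def par (L : List (Fin n × Fin n)) : Bool :=
  List.rec false (fun p _ r => bif Nat.beq p.1.val p.2.val then r else !r) L

theorem sign_pm (L : List (Fin n × Fin n)) : Perm.sign (pm L) = bif par L then -1 else 1 := by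
  induction L with
  | nil => exact map_one _
  | cons p L ih =>
    have h1 : pm (p :: L) = swap p.1 p.2 * pm L := by simp [pm]
    have h2 : par (p :: L) = bif Nat.beq p.1.val p.2.val then par L else !par L := rfl
    rw [h1, map_mul, ih, h2]
    by_cases h : p.1 = p.2
    · rw [h, Nat.beq_refl, cond_true, swap_self, Perm.sign_refl, one_mul]
    · have h3 : Nat.beq p.1.val p.2.val = false := by
        cases h4 : Nat.beq p.1.val p.2.val
        · rfl
        · exact absurd (Fin.ext (beq_eq h4)) h
      rw [h3, cond_false, Perm.sign_swap h]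
      cases par L <;> simp

end

/-- The model of the centralizer of `L.t`. -/
noncomputable def mCov (n : ℕ) [NeZero n] (hn : n ≤ 16) {G : Type} [Group G] (L : MT n G)
    (E : centralizer ({L.t} : Set G) →* cover n) (hE : Function.Injective E) (hp : ∀ x, proj n (E x) = L.K.π x)
    (hz : E L.K.z = zz n) : Mdl G where
  R c g := EV E g (tb c 0) (wd n c)
  mul a b := force a fun a => force b fun b =>
    cd (xor (xor (tb a 0) (tb b 0)) (nf (wd n a ++ wd n b)).1) (nf (wd n a ++ wd n b)).2.reverse
  one := cd false (start n).reverse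
  eqv := Nat.beq
  neq a b := force a fun a => force b fun b => Nat.beq a (cd (!tb b 0) (wd n b))
  ok a _ := !par (wd n a)
  R_one := by
    rw [tb_cd, wd_cd hn]
    obtain ⟨h1, h2⟩ := EV.one (E := E)
    refine ⟨h1, ?_⟩
    rw [h2, ← NF_eq_val, NF_start, val_nil]
  R_mul := by
    intro a b g h ha hb
    rw [force_eq, force_eq, tb_cd, wd_cd hn]
    obtain ⟨h1, h2⟩ := ha.mul hb
    refine ⟨h1, ?_⟩
    rw [h2, val_eq, ← NF_eq_val, ← mul_assoc, sg_mul]
  eq_of := by
    intro a b g h ha hb he
    rw [beq_eq he] at ha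
    exact ha.eq hE hb rfl
  ne_of := by
    intro a b g h ha hb he hgh
    rw [force_eq, force_eq] at he
    rw [beq_eq he, tb_cd, wd_cd hn] at ha
    have h1 := ha.sign hb hgh rfl zz_ne_one
    revert h1
    cases tb b 0 <;> cases (nf (wd n b)).1 <;> simp
  ex_of := by
    intro a w h
    have h1 : pm (wd n a) ∈ alternatingGroup (Fin n) := by
      rw [Perm.mem_alternatingGroup, sign_pm]
      revert h
      cases par (wd n a) <;> simp
    obtain ⟨x, hx⟩ := L.K.exists_lift h1
    obtain ⟨s, hs⟩ := EV.exists (E := E) x.2 (w := wd n a) ((hp x).trans hx)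
    have h2 : EV E (L.K.z : G) true [] := ⟨L.K.z.2, by rw [val_nil, mul_one]; exact hz⟩
    by_cases h3 : s = tb a 0
    · exact ⟨x, h3 ▸ hs⟩
    · refine ⟨L.K.z * x, ?_⟩
      have h4 := h2.mul hs
      rw [List.nil_append] at h4
      have h5 : xor true s = tb a 0 := by
        revert h3
        cases s <;> cases tb a 0 <;> simp
      exact h5 ▸ h4

/-- The model of the centralizer of `L.t`. -/
noncomputable def mMT (n : ℕ) [NeZero n] (h5 : 5 ≤ n) (hn : n ≤ 16) {G : Type} [Group G] (L : MT n G) : Mdl G :=
  mCov n hn L (Classical.choose (exists_E h5 L.K)) (Classical.choose_spec (exists_E h5 L.K)).1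
    (Classical.choose_spec (exists_E h5 L.K)).2.1 (Classical.choose_spec (exists_E h5 L.K)).2.2

theorem MT_class {n : ℕ} {G : Type*} [Group G] (L : MT n G) (a b : G) (a1 : a ≠ 1) (a2 : a * a = 1) (b1 : b ≠ 1)
    (b2 : b * b = 1) : IsConj a b :=
  (isConj_iff.2 (L.one a a2 a1)).symm.trans (isConj_iff.2 (L.one b b2 b1))

end Cfsg.Agent.FS.Real
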