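import Cfsg.Agent.FS.Real.Tab
import Cfsg.Agent.FS.Real.Cov
import Cfsg.Agent.TypeM.FactsLy

/-!
# `Ly` (helper83, project FS, part C; generated)
-/

set_option autoImplicit false

namespace Cfsg.Agent.FS.Real

namespace GLy

theorem facts : Finite Cfsg.Spor.Ly ∧ IsSimpleGroup Cfsg.Spor.Ly ∧ Nat.card Cfsg.Spor.Ly = 51765179004000000 ∧
    Nonempty (TypeM.Two.MT 11 Cfsg.Spor.Ly) := TypeM.FactsLy.facts ⟨MulEquiv.refl _⟩

/-- the involution centralizer -/
noncomputable def L : TypeM.Two.MT 11 Cfsg.Spor.Ly := Classical.choice facts.2.2.2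

/-- the model -/
noncomputable def M : Mdl Cfsg.Spor.Ly := mMT 11 (by norm_num) (by norm_num) L

/-- the codes of the generators -/
def X : ℕ → ℕ := get 90 0xd54cc43bb32aa219910880674f230ee4caa8866442200d54c8c3b932aa21991088033532d06eccaa88662422009d3cb43bb32aa2198908802f4f2d06e2caa88662422019d4c8c3b932a82199108802d513102eccaa8846442200

theorem ex : ∃ x, (M).RX dLy X x := Mdl.exists_RX (W := get 1 0x0) (by decide +kernel)

/-- the generators -/
noncomputable def x := Classical.choose ex

theorem hx : (M).RX dLy X x := Classical.choose_spec ex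

theorem rels : (M).rels dLy X = true := by decide +kernel

theorem rz : Rz dLy _ x := by
  obtain ⟨_, _, hc, -⟩ := facts
  obtain ⟨S, H⟩ := hx.gen dLy_ok rels
  refine rz_of H (m := 202207730484375) hc (by norm_num)
    (H.core_of_class (MT_class L) (a := 1) (b := 2) (by decide +kernel)) fun i _ => ?_
  rw [pResidual_eq_top (r := 3) (by norm_num) (by norm_num) (by rw [hc]; norm_num)]
  exact Subgroup.mem_top _

end GLy

theorem models_Ly : Models dLy 1 := models_one GLy.rz

end Cfsg.Agent.FS.Real
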