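import Cfsg.Agent.FS.Real.Tab
import Cfsg.Agent.FS.Real.Grp

/-!
# Classical groups (helper83, project FS, part C; generated)
-/

set_option autoImplicit false

namespace Cfsg.Agent.FS.Real

namespace GS47

/-- the codes of the generators -/
def X : ℕ → ℕ := get 48 0x46408182208b9ea31a5234879c65bcaa2403926132f4648874363a9e43238940ec75208172615b44b90130205a06198

theorem ex : ∃ x, (zS47.mdl).RX dS47 X x := Mdl.exists_RX (W := get 1 0x0) (by decide +kernel)

/-- the generators -/
noncomputable def x := Classical.choose ex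

theorem hx : (zS47.mdl).RX dS47 X x := Classical.choose_spec ex

theorem rels : (zS47.mdl).rels dS47 X = true := by decide +kernel

theorem cores : (zS47.mdl).cores dS47 X [⟨128, 28, 132, 0x519aa86d8b9a, 0, 0xa93866b96b42, 0⟩] = true := by decide +kernel

theorem ress : (zS47.mdl).ress dS47 X [⟨1, 0xb9c1a3d98d4a, 0, 2, 5⟩,
    ⟨2, 0x21b14b0081a1, 0, 2, 5⟩,
    ⟨4, 0xb7158c85d212, 0, 2, 5⟩] = true := by decide +kernel

theorem card : Nat.card (zS47.mdl).T = 138297600 := card_S47

theorem fin : Finite (zS47.mdl).T :=  Nat.finite_of_card_ne_zero (by rw [card]; norm_num)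

theorem rz : Rz dS47 _ x :=
  haveI := fin
  hx.rz dS47_ok (m := 540225) card (by norm_num) rels cores ress (l := [(1, 2), (1, 4), (2, 4), (2, 5), (4, 1), (4, 2), (4, 3), (4, 5), (4, 6), (4, 7), (1, 53), (1, 49), (1, 74), (1, 91), (2, 52), (2, 48), (4, 75), (4, 90), (4, 54), (4, 50), (3, 23), (3, 22), (3, 122), (3, 126), (5, 54), (5, 20), (5, 121), (5, 125), (6, 123), (6, 17), (6, 12), (7, 167), (7, 10), (53, 21), (53, 37), (53, 69), (78, 248), (159, 182), (1, 129)]) (by decide +kernel)

end GS47

theorem models_S47 : Models dS47 1 := models_one GS47.rz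

namespace GS44

/-- the codes of the generators -/
def X : ℕ → ℕ := get 32 0x501034c50810c011dc107ce560101449cc104c010810c001c1f43fc382681942

theorem ex : ∃ x, (rmF4.mSp 2).RX dS44 X x := Mdl.exists_RX (W := get 1 0x0) (by decide +kernel)

/-- the generators -/
noncomputable def x := Classical.choose ex

theorem hx : (rmF4.mSp 2).RX dS44 X x := Classical.choose_spec ex

theorem rels : (rmF4.mSp 2).rels dS44 X = true := by decide +kernel

theorem cores : (rmF4.mSp 2).cores' dS44 X [(64, 48, 1787586830), (80, 48, 1277198387), (96, 48, 1387043185), (112, 48, 739288269), (128, 16, 3425729742), (144, 16, 1250701671), (160, 48, 323508891), (176, 48, 3401364936), (192, 48, 3953924731), (208, 32, 2922190688), (224, 48, 3854846973), (240, 32, 4161804493), (16, 1, 3099746284), (16, 1, 0), (17, 20, 2416372795), (32, 4, 2532631033), (32, 4, 0), (36, 17, 3210178318), (48, 17, 3702623941), (48, 20, 3586401067)] [(20, 1), (17, 4), (17, 20)] = true := by decide +kernel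

theorem ress : (rmF4.mSp 2).ress dS44 X [⟨1, 0x2ec9b311, 0, 2, 3⟩,
    ⟨2, 0x749e8aa3, 0, 2, 3⟩,
    ⟨4, 0x3c10a449, 0, 2, 3⟩,
    ⟨8, 0x811f8d01, 0, 2, 5⟩] = true := by decide +kernel

theorem card : Nat.card (rmF4.mSp 2).T = 979200 := card_Sp44

theorem fin : Finite (rmF4.mSp 2).T :=  Nat.finite_of_card_ne_zero (by rw [card]; norm_num)

theorem rz : Rz dS44 _ x :=
  haveI := fin
  hx.rz' dS44_ok (m := 3825) card (by norm_num) rels cores ress (l := [(1, 2), (1, 4), (1, 8), (2, 4), (2, 5), (4, 9), (4, 7), (8, 5), (8, 6), (8, 61), (1, 67), (1, 206), (2, 109), (2, 85), (2, 66), (4, 207), (4, 111), (4, 87), (8, 139), (8, 43), (3, 19), (3, 35), (3, 131)]) (by decide +kernel)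

end GS44

theorem models_S44 : Models dS44 1 := models_one GS44.rz

namespace GL42

/-- the codes of the generators -/
def X : ℕ → ℕ := get 16 0xd1741de81db8e712b7121d28

theorem ex : ∃ x, (k2.mSL 4).RX dU42 X x := Mdl.exists_RX (W := get 1 0x0) (by decide +kernel)

/-- the generators -/
noncomputable def x := Classical.choose ex

theorem hx : (k2.mSL 4).RX dU42 X x := Classical.choose_spec ex

theorem rels : (k2.mSL 4).rels dU42 X = true := by decide +kernel

theorem cores : (k2.mSL 4).cores dU42 X [⟨32, 1, 2, 0x71a2, 0, 0x2841, 0⟩] = true := by decide +kernel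

theorem ress : (k2.mSL 4).ress dU42 X [⟨1, 0x6d21, 0, 2, 3⟩,
    ⟨2, 0xa8ed, 0, 2, 3⟩,
    ⟨4, 0xb5c4, 0, 2, 5⟩] = true := by decide +kernel

theorem card : Nat.card (k2.mSL 4).T = 20160 := card_SL42

theorem fin : Finite (k2.mSL 4).T :=  Nat.finite_of_card_ne_zero (by rw [card]; norm_num)

theorem rz : Rz dU42 _ x :=
  haveI := fin
  hx.rz dU42_ok (m := 315) card (by norm_num) rels cores ress (l := [(1, 2), (1, 4), (2, 3), (4, 3), (4, 5), (1, 9), (1, 55), (1, 17), (3, 54), (5, 53)]) (by decide +kernel)

theorem pos : Pos dU42 x 7 0x203e3818261e06 0x60504030201 0x60504030201 0 :=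
  hx.pos 0xb693 0x0 0xb693 0x0 (by decide +kernel)

end GL42

namespace GS43

/-- the codes of the generators -/
def X : ℕ → ℕ := get 32 0x925429450209504005042090a6488614226a821501082040

theorem ex : ∃ x, (zS43.mdl).RX dU42 X x := Mdl.exists_RX (W := get 1 0x0) (by decide +kernel)

/-- the generators -/
noncomputable def x := Classical.choose ex

theorem hx : (zS43.mdl).RX dU42 X x := Classical.choose_spec ex

theorem rels : (zS43.mdl).rels dU42 X = true := by decide +kernel

theorem cores : (zS43.mdl).cores' dU42 X [(32, 1, 2316699649), (32, 1, 0), (33, 2, 2300122516)] [(2, 1)] = true := by decide +kernel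

theorem ress : (zS43.mdl).ress dU42 X [⟨1, 0x88020954, 0, 4, 5⟩,
    ⟨2, 0x4018421, 0, 2, 5⟩,
    ⟨4, 0x14515a69, 0, 2, 5⟩] = true := by decide +kernel

theorem card : Nat.card (zS43.mdl).T = 25920 := card_S43

theorem fin : Finite (zS43.mdl).T :=  Nat.finite_of_card_ne_zero (by rw [card]; norm_num)

theorem rz : Rz dU42 _ x :=
  haveI := fin
  hx.rz' dU42_ok (m := 405) card (by norm_num) rels cores ress (l := [(1, 2), (1, 4), (2, 3), (4, 3), (4, 5), (1, 9), (1, 55), (1, 17), (3, 54), (5, 53)]) (by decide +kernel)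

end GS43

theorem models_U42 : Models dU42 2 :=
  haveI := GS43.fin
  models_two GL42.rz GS43.rz (GL42.pos.sep_card (by decide +kernel) (by rw [GS43.card]; norm_num))

namespace GL43

/-- the codes of the generators -/
def X : ℕ → ℕ := get 32 0x8a10182964254194080a40905605a844809941440485409469155189

theorem ex : ∃ x, (zL43.mdl).RX dA10 X x := Mdl.exists_RX (W := get 1 0x0) (by decide +kernel)

/-- the generators -/
noncomputable def x := Classical.choose ex

theorem hx : (zL43.mdl).RX dA10 X x := Classical.choose_spec ex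

theorem rels : (zL43.mdl).rels dA10 X = true := by decide +kernel

theorem cores : (zL43.mdl).cores dA10 X [⟨64, 14, 54, 0x261554a9, 0, 0x99295a91, 0⟩] = true := by decide +kernel

theorem ress : (zL43.mdl).ress dA10 X [⟨1, 0x4a6150a5, 0, 2, 5⟩,
    ⟨2, 0x86444090, 0, 4, 3⟩,
    ⟨4, 0xaa65889, 0, 4, 5⟩] = true := by decide +kernel

theorem card : Nat.card (zL43.mdl).T = 6065280 := card_L43

theorem fin : Finite (zL43.mdl).T :=  Nat.finite_of_card_ne_zero (by rw [card]; norm_num)

theorem rz : Rz dA10 _ x :=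
  haveI := fin
  hx.rz dA10_ok (m := 47385) card (by norm_num) rels cores ress (l := [(1, 2), (1, 4), (2, 1), (2, 4), (2, 3), (2, 5), (4, 5), (4, 6), (4, 55), (1, 17), (1, 9), (2, 34), (2, 59), (4, 105), (19, 101), (6, 102)]) (by decide +kernel)

theorem pos : Pos dA10 x 9 0x702079502849114801 0x50802070600040301 0x30108000706050402 64 :=
  hx.pos 0x64100411 0x0 0x44100421 0x0 (by decide +kernel)

end GL43

namespace GA10

/-- the codes of the generators -/
def X : ℕ → ℕ := get 40 0x9850734126985674312098567342109824160753982614375089567432109842375601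

theorem ex : ∃ x, (mAlt 4 10 (by norm_num)).RX dA10 X x := Mdl.exists_RX (W := get 79 0x1e0986514c0a01c65914f93241c882b8a131ac8459786420312581704693702ec8520a50c2ae8073508d81c66080c5619e5183b4a40a93c0b0249a924309618753265871904) (by decide +kernel)

/-- the generators -/
noncomputable def x := Classical.choose ex

theorem hx : (mAlt 4 10 (by norm_num)).RX dA10 X x := Classical.choose_spec ex

theorem rels : (mAlt 4 10 (by norm_num)).rels dA10 X = true := by decide +kernel

theorem cores : (mAlt 4 10 (by norm_num)).cores dA10 X [⟨64, 1, 121, 0x9812074536, 0x7695842133075821694, 0x8975024136, 0x29371406857234681059⟩] = true := by decide +kernel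

theorem ress : (mAlt 4 10 (by norm_num)).ress dA10 X [⟨1, 0x1736548920, 0x50283764914821706953, 2, 5⟩,
    ⟨2, 0x8574902136, 0x93640572812149753860, 2, 3⟩,
    ⟨4, 0x9806543271, 0x82465039172910573846, 2, 5⟩] = true := by decide +kernel

theorem card : Nat.card (mAlt 4 10 (by norm_num)).T = 1814400 := card_A10

theorem fin : Finite (mAlt 4 10 (by norm_num)).T :=  Nat.finite_of_card_ne_zero (by rw [card]; norm_num)

theorem rz : Rz dA10 _ x :=
  haveI := fin
  hx.rz dA10_ok (m := 14175) card (by norm_num) rels cores ress (l := [(1, 2), (1, 4), (2, 1), (2, 4), (2, 3), (2, 5), (4, 5), (4, 6), (4, 55), (1, 17), (1, 9), (2, 34), (2, 59), (4, 105), (19, 101), (6, 102)]) (by decide +kernel)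

theorem neg : ∀ w ∈ dA10.zl, ¬ 9 ∣ Nat.card (Subgroup.centralizer {el x dA10.n w} : Subgroup _) := by
  intro w hw
  have h1 := rz.orderOf_z (by decide +kernel) hw
  obtain rfl : w = 64 := List.mem_singleton.1 hw
  refine cent_A10 (by rw [← pow_two, ← h1, pow_orderOf_eq_one]) fun p hp h => ?_
  have h2 := hx.el 64 p
  rw [show (mAlt 4 10 (by norm_num)).elc X dA10.n 64 = 0x9850734126 by decide +kernel] at h2
  have h3 : (p : ℕ) = get 4 0x9850734126 p := (congrArg Fin.val h).symm.trans h2
  clear h h2
  revert p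
  decide +kernel

end GA10

theorem models_A10 : Models dA10 2 :=
  haveI := GA10.fin
  models_two GL43.rz GA10.rz (GL43.pos.sep_cent (by decide +kernel) (by decide +kernel) GA10.neg)

namespace GL45

/-- the codes of the generators -/
def X : ℕ → ℕ := get 48 0x5810248100111210268000144b1118d84895086596c948944b4e102000164820489168804c100201101

theorem ex : ∃ x, (zL45.mdl).RX dM22 X x := Mdl.exists_RX (W := get 1 0x0) (by decide +kernel)

/-- the generators -/
noncomputable def x := Classical.choose ex

theorem hx : (zL45.mdl).RX dM22 X x := Classical.choose_spec ex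

theorem rels : (zL45.mdl).rels dM22 X = true := by decide +kernel

theorem cores : (zL45.mdl).cores dM22 X [⟨64, 1, 2, 0x82914491321, 0, 0x8944c38d8901, 0⟩] = true := by decide +kernel

theorem ress : (zL45.mdl).ress dM22 X [⟨1, 0x6906c8481319, 0, 2, 5⟩,
    ⟨2, 0x10110c223289, 0, 2, 5⟩,
    ⟨4, 0x4e130b7102a1, 0, 2, 5⟩] = true := by decide +kernel

theorem card : Nat.card (zL45.mdl).T = 7254000000 := card_L45

theorem fin : Finite (zL45.mdl).T :=  Nat.finite_of_card_ne_zero (by rw [card]; norm_num)

theorem rz : Rz dM22 _ x :=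
  haveI := fin
  hx.rz dM22_ok (m := 56671875) card (by norm_num) rels cores ress (l := [(1, 2), (1, 4), (2, 1), (2, 4), (2, 3), (2, 5), (4, 2), (4, 6), (4, 71), (1, 65), (1, 22), (2, 18), (2, 91), (4, 23), (4, 25), (3, 117), (5, 54), (67, 11), (67, 35)]) (by decide +kernel)

theorem pos : Pos dM22 x 9 0x6c14102028081c7004 0x50802070600040301 0x30108000706050402 64 :=
  hx.pos 0x4e46a20246e1 0x0 0x2c2463318001 0x0 (by decide +kernel)

end GL45

end Cfsg.Agent.FS.Real
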