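import Cfsg.Agent.FS.Real.Tab
import Cfsg.Agent.FS.Real.Cov
import Cfsg.Agent.FS.Real.Class
import Cfsg.Agent.FS.Real.Math
import Cfsg.Agent.TypeM.FactsMcL
import Cfsg.Agent.H992.Stages.Mathieu
import Cfsg.Agent.SporadicA.MathieuRecog

/-!
# `M₂₂`, `M₂₃`, `L₄(5)` and `McL` (helper83, project FS, part C; generated)
-/

set_option autoImplicit false

namespace Cfsg.Agent.FS.Real

namespace GMcL

theorem facts : Finite Cfsg.Spor.McL ∧ IsSimpleGroup Cfsg.Spor.McL ∧ Nat.card Cfsg.Spor.McL = 898128000 ∧
    Nonempty (TypeM.Two.MT 8 Cfsg.Spor.McL) := TypeM.FactsMcL.facts ⟨MulEquiv.refl _⟩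

/-- the involution centralizer -/
noncomputable def L : TypeM.Two.MT 8 Cfsg.Spor.McL := Classical.choice facts.2.2.2

/-- the model -/
noncomputable def M : Mdl Cfsg.Spor.McL := mMT 8 (by norm_num) (by norm_num) L

/-- the codes of the generators -/
def X : ℕ → ℕ := get 66 0x2eeccaa8866442201939b22a21991008022eacaa68660422008ba31aa21981088024e8c6a8866440200b3b30a82119108802cecc0a2846442200

theorem ex : ∃ x, (M).RX dM22 X x := Mdl.exists_RX (W := get 1 0x0) (by decide +kernel)

/-- the generators -/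
noncomputable def x := Classical.choose ex

theorem hx : (M).RX dM22 X x := Classical.choose_spec ex

theorem rels : (M).rels dM22 X = true := by decide +kernel

theorem rz : Rz dM22 _ x := by
  obtain ⟨_, _, hc, -⟩ := facts
  obtain ⟨S, H⟩ := hx.gen dM22_ok rels
  refine rz_of H (m := 7016625) hc (by norm_num)
    (H.core_of_class (MT_class L) (a := 1) (b := 2) (by decide +kernel)) fun i _ => ?_
  rw [pResidual_eq_top (r := 3) (by norm_num) (by norm_num) (by rw [hc]; norm_num)]
  exact Subgroup.mem_top _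

theorem p7 : Pos dM22 x 7 0x30505262326002 0x60504030201 0x60504030201 64 :=
  hx.pos 0x24e2c2a4826242200 0x0 0x24e2c2a4826242200 0x0 (by decide +kernel)

theorem p9 : Pos dM22 x 9 0x106c2808141c702004 0x50802070600040301 0x30108000706050402 64 :=
  hx.pos 0x2ee6c6a8866442201 0x0 0x20eccaa8866440201 0x0 (by decide +kernel)

end GMcL

namespace GM23

/-- the codes of the generators -/
def X : ℕ → ℕ := get 120 0xbb56941a30796c7aaa93649c418440b992b0b63079e45a2aa2759841a260b88e594e307a42b629c6aa2841d9a0bb69599a2019ec54a9687498478830b8974321501b827ac53264ca47d9a0bb9015b2307d8b29a85531da41a680b99699b6230324eaaa882d8e48082f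

theorem ex : ∃ x, (mM23).RX dM22 X x := Mdl.exists_RX (W := get 1 0x0) (by decide +kernel)

/-- the generators -/
noncomputable def x := Classical.choose ex

theorem hx : (mM23).RX dM22 X x := Classical.choose_spec ex

theorem rels : (mM23).rels dM22 X = true := by decide +kernel

theorem cores : (mM23).cores dM22 X [⟨64, 1, 2, 0xbbaafa3661895865a809b48e810e04, 0, 0xbb8b21180a7d2d36918959c2385511, 0⟩] = true := by decide +kernel

theorem ress : (mM23).ress dM22 X [⟨1, 0xb9ea2b502d8b0801a968998b04c9ee, 0, 2, 5⟩,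
    ⟨2, 0xbb8af00e95885a692a6838a045b2c9, 0, 2, 5⟩,
    ⟨4, 0xbd864aa0cf546805c1213b8ad9b242, 0, 2, 5⟩] = true := by decide +kernel

theorem card : Nat.card (mM23).T = 10200960 := SporadicA.MathieuRecog.card_M23

theorem fin : Finite (mM23).T :=  Nat.finite_of_card_ne_zero (by rw [card]; norm_num)

theorem rz : Rz dM22 _ x :=
  haveI := fin
  hx.rz dM22_ok (m := 79695) card (by norm_num) rels cores ress (l := [(1, 2), (1, 4), (2, 1), (2, 4), (2, 3), (2, 5), (4, 2), (4, 6), (4, 71), (1, 65), (1, 22), (2, 18), (2, 91), (4, 23), (4, 25), (3, 117), (5, 54), (67, 11), (67, 35)]) (by decide +kernel)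

theorem pos : Pos dM22 x 7 0x12725020623002 0x60504030201 0x60504030201 64 :=
  hx.pos 0xb88b4ad811198287112b9b65051d8f 0x0 0xb88b4ad811198287112b9b65051d8f 0x0 (by decide +kernel)

theorem neg : ∀ w ∈ dM22.zl, ¬ 9 ∣ Nat.card (Subgroup.centralizer {el x dM22.n w} : Subgroup _) := fun w hw => by
  rw [H992.Stages.card_cent_m23 (rz.orderOf_z (by decide +kernel) hw)]
  norm_num

end GM23

namespace GM22

/-- the codes of the generators -/
def X : ℕ → ℕ := get 120 0xbc4949aeca31da19406873cb548980bbd349b0c7b29b20baa8844a320960bbc6d2c8cab1e8c5c08874669a8820bd6d499c8c4adb0705e890cb130940b8df42ad2aab9ac9422239266b2020bc533a4ace340ac59ea853da320820bb2149bc3590db6310e84acaa70a20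

theorem ex : ∃ x, (mM22).RX dM22 X x := Mdl.exists_RX (W := get 1 0x0) (by decide +kernel)

/-- the generators -/
noncomputable def x := Classical.choose ex

theorem hx : (mM22).RX dM22 X x := Classical.choose_spec ex

theorem rels : (mM22).rels dM22 X = true := by decide +kernel

theorem cores : (mM22).cores dM22 X [⟨64, 1, 2, 0xbca0d299ec1aa675da28238550d120, 0, 0xbd9485ce2581055a35f21b82733120, 0⟩] = true := by decide +kernel

theorem ress : (mM22).ress dM22 X [⟨1, 0xbb2838b5e89c02932ace390aba8a40, 0, 2, 3⟩,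
    ⟨2, 0xb8eb44cd11b1dcc51a506ac8279420, 0, 2, 5⟩,
    ⟨4, 0xbd9aa5c9910b9102a69538e6623c40, 0, 2, 3⟩] = true := by decide +kernel

theorem card : Nat.card (mM22).T = 443520 := SporadicA.MathieuRecog.card_M22

theorem fin : Finite (mM22).T :=  Nat.finite_of_card_ne_zero (by rw [card]; norm_num)

theorem rz : Rz dM22 _ x :=
  haveI := fin
  hx.rz dM22_ok (m := 3465) card (by norm_num) rels cores ress (l := [(1, 2), (1, 4), (2, 1), (2, 4), (2, 3), (2, 5), (4, 2), (4, 6), (4, 71), (1, 65), (1, 22), (2, 18), (2, 91), (4, 23), (4, 25), (3, 117), (5, 54), (67, 11), (67, 35)]) (by decide +kernel)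

theorem neg7 : ∀ w ∈ dM22.zl, ¬ 7 ∣ Nat.card (Subgroup.centralizer {el x dM22.n w} : Subgroup _) := fun w hw => by
  rw [H992.Stages.card_cent_m22 (rz.orderOf_z (by decide +kernel) hw)]
  norm_num

theorem neg9 : ∀ w ∈ dM22.zl, ¬ 9 ∣ Nat.card (Subgroup.centralizer {el x dM22.n w} : Subgroup _) := fun w hw => by
  rw [H992.Stages.card_cent_m22 (rz.orderOf_z (by decide +kernel) hw)]
  norm_num

end GM22

theorem models_M22 : Models dM22 4 := by
  have := GM23.fin
  have := GL45.fin
  have := GM22.fin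
  exact models_four GMcL.rz GM23.rz GL45.rz GM22.rz
    (GMcL.p9.sep_cent (by decide +kernel) (by decide +kernel) GM23.neg)
    (GMcL.p7.sep_card (by decide +kernel) (by rw [GL45.card]; norm_num))
    (GMcL.p7.sep_cent (by decide +kernel) (by decide +kernel) GM22.neg7)
    (GM23.pos.sep_card (by decide +kernel) (by rw [GL45.card]; norm_num))
    (GM23.pos.sep_cent (by decide +kernel) (by decide +kernel) GM22.neg7)
    (GL45.pos.sep_cent (by decide +kernel) (by decide +kernel) GM22.neg9)

end Cfsg.Agent.FS.Real
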