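import Cfsg.Agent.FS.Real.Tab
import Cfsg.Agent.FS.Real.TabS
import Cfsg.Agent.FS.Real.Grp

/-!
# Dihedral, semidihedral and wreathed Sylow subgroups (helper83, project FS, part C; generated)
-/

set_option autoImplicit false

namespace Cfsg.Agent.FS.Real

namespace GD8

/-- the codes of the generators -/
def X : ℕ → ℕ := get 9 0x42b952e

theorem ex : ∃ x, (k2.mSL 3).RX dD8 X x := Mdl.exists_RX (W := get 1 0x0) (by decide +kernel)

/-- the generators -/
noncomputable def x := Classical.choose ex

theorem hx : (k2.mSL 3).RX dD8 X x := Classical.choose_spec ex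

theorem rels : (k2.mSL 3).rels dD8 X = true := by decide +kernel

theorem cores : (k2.mSL 3).cores dD8 X [⟨4, 1, 2, 498, 0, 117, 0⟩] = true := by decide +kernel

theorem ress : (k2.mSL 3).ress dD8 X [⟨1, 93, 0, 2, 3⟩,
    ⟨2, 423, 0, 2, 3⟩] = true := by decide +kernel

theorem card : Nat.card (k2.mSL 3).T = 168 := card_SL32

theorem fin : Finite (k2.mSL 3).T :=  Nat.finite_of_card_ne_zero (by rw [card]; norm_num)

theorem rz : Rz dD8 _ x :=
  haveI := fin
  hx.rz dD8_ok (m := 21) card (by norm_num) rels cores ress (l := [(1, 2), (2, 3), (1, 5)]) (by decide +kernel)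

end GD8

theorem models_D8 : Models dD8 1 := models_one GD8.rz

namespace GD16

/-- the codes of the generators -/
def X : ℕ → ℕ := get 20 0x4a8483b4c48294184041

theorem ex : ∃ x, (zL217.mdl).RX dD16 X x := Mdl.exists_RX (W := get 1 0x0) (by decide +kernel)

/-- the generators -/
noncomputable def x := Classical.choose ex

theorem hx : (zL217.mdl).RX dD16 X x := Classical.choose_spec ex

theorem rels : (zL217.mdl).rels dD16 X = true := by decide +kernel

theorem cores : (zL217.mdl).cores dD16 X [⟨8, 1, 5, 0x495c6, 0, 0x61045, 0⟩] = true := by decide +kernel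

theorem ress : (zL217.mdl).ress dD16 X [⟨1, 0x7ad21, 0, 2, 3⟩,
    ⟨2, 0x59485, 0, 2, 3⟩] = true := by decide +kernel

theorem card : Nat.card (zL217.mdl).T = 2448 := card_L217

theorem fin : Finite (zL217.mdl).T :=  Nat.finite_of_card_ne_zero (by rw [card]; norm_num)

theorem rz : Rz dD16 _ x :=
  haveI := fin
  hx.rz dD16_ok (m := 153) card (by norm_num) rels cores ress (l := [(1, 2), (2, 1), (2, 3), (1, 15), (1, 5), (3, 14), (5, 13)]) (by decide +kernel)

end GD16

theorem models_D16 : Models dD16 1 := models_one GD16.rz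

namespace GD32

/-- the codes of the generators -/
def X : ℕ → ℕ := get 20 0xa77cb4a08e2964c05c80929cd

theorem ex : ∃ x, (zL231.mdl).RX dD32 X x := Mdl.exists_RX (W := get 1 0x0) (by decide +kernel)

/-- the generators -/
noncomputable def x := Classical.choose ex

theorem hx : (zL231.mdl).RX dD32 X x := Classical.choose_spec ex

theorem rels : (zL231.mdl).rels dD32 X = true := by decide +kernel

theorem cores : (zL231.mdl).cores dD32 X [⟨16, 1, 21, 0xc83a5, 0, 0x858e0, 0⟩] = true := by decide +kernel

theorem ress : (zL231.mdl).ress dD32 X [⟨1, 0xebdc3, 0, 2, 5⟩,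
    ⟨2, 0xb7968, 0, 2, 3⟩] = true := by decide +kernel

theorem card : Nat.card (zL231.mdl).T = 14880 := card_L231

theorem fin : Finite (zL231.mdl).T :=  Nat.finite_of_card_ne_zero (by rw [card]; norm_num)

theorem rz : Rz dD32 _ x :=
  haveI := fin
  hx.rz dD32_ok (m := 465) card (by norm_num) rels cores ress (l := [(1, 2), (2, 1), (2, 3), (1, 15), (1, 21), (2, 20), (3, 14), (3, 20), (15, 22), (21, 13), (21, 23), (1, 9), (1, 24), (1, 10), (2, 25), (2, 11), (15, 7), (15, 29), (14, 30)]) (by decide +kernel)

end GD32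

theorem models_D32 : Models dD32 1 := models_one GD32.rz

namespace GQ16

/-- the codes of the generators -/
def X : ℕ → ℕ := get 18 0x8085448112200a8909

theorem ex : ∃ x, (k3.mSL 3).RX dQ16 X x := Mdl.exists_RX (W := get 1 0x0) (by decide +kernel)

/-- the generators -/
noncomputable def x := Classical.choose ex

theorem hx : (k3.mSL 3).RX dQ16 X x := Classical.choose_spec ex

theorem rels : (k3.mSL 3).rels dQ16 X = true := by decide +kernel

theorem cores : (k3.mSL 3).cores dQ16 X [⟨8, 2, 14, 0x112a8, 0, 0x24a61, 0⟩] = true := by decide +kernel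

theorem ress : (k3.mSL 3).ress dQ16 X [⟨2, 0x6844, 0, 2, 3⟩,
    ⟨1, 0x18101, 0, 2, 3⟩] = true := by decide +kernel

theorem card : Nat.card (k3.mSL 3).T = 5616 := card_SL33

theorem fin : Finite (k3.mSL 3).T :=  Nat.finite_of_card_ne_zero (by rw [card]; norm_num)

theorem rz : Rz dQ16 _ x :=
  haveI := fin
  hx.rz dQ16_ok (m := 351) card (by norm_num) rels cores ress (l := [(2, 1), (1, 1), (1, 15), (2, 6)]) (by decide +kernel)

end GQ16

theorem models_Q16 : Models dQ16 1 := models_one GQ16.rz

namespace GQ32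

/-- the codes of the generators -/
def X : ℕ → ℕ := get 27 0x568bb156269b63b510e482ba25167124c0

theorem ex : ∃ x, (k7.mSL 3).RX dQ32 X x := Mdl.exists_RX (W := get 1 0x0) (by decide +kernel)

/-- the generators -/
noncomputable def x := Classical.choose ex

theorem hx : (k7.mSL 3).RX dQ32 X x := Classical.choose_spec ex

theorem rels : (k7.mSL 3).rels dQ32 X = true := by decide +kernel

theorem cores : (k7.mSL 3).cores dQ32 X [⟨16, 2, 30, 0x2d434c4, 0, 0x36dc3a1, 0⟩] = true := by decide +kernel

theorem ress : (k7.mSL 3).ress dQ32 X [⟨2, 0x1a2d151, 0, 2, 3⟩,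
    ⟨1, 0x3766575, 0, 2, 3⟩] = true := by decide +kernel

theorem card : Nat.card (k7.mSL 3).T = 5630688 := card_SL37

theorem fin : Finite (k7.mSL 3).T :=  Nat.finite_of_card_ne_zero (by rw [card]; norm_num)

theorem rz : Rz dQ32 _ x :=
  haveI := fin
  hx.rz dQ32_ok (m := 175959) card (by norm_num) rels cores ress (l := [(2, 1), (1, 2), (1, 1), (1, 31), (2, 3), (2, 16), (1, 18), (31, 5), (3, 19), (14, 22)]) (by decide +kernel)

end GQ32

theorem models_Q32 : Models dQ32 1 := models_one GQ32.rz

namespace GW32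

/-- the codes of the generators -/
def X : ℕ → ℕ := get 27 0x18e22c985030092380b300220203644403

theorem ex : ∃ x, (k5.mSL 3).RX dW32 X x := Mdl.exists_RX (W := get 1 0x0) (by decide +kernel)

/-- the generators -/
noncomputable def x := Classical.choose ex

theorem hx : (k5.mSL 3).RX dW32 X x := Classical.choose_spec ex

theorem rels : (k5.mSL 3).rels dW32 X = true := by decide +kernel

theorem cores : (k5.mSL 3).cores dW32 X [⟨16, 2, 14, 0x100b463, 0, 0x27088d4, 0⟩] = true := by decide +kernel

theorem ress : (k5.mSL 3).ress dW32 X [⟨2, 0x3850322, 0, 2, 3⟩,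
    ⟨1, 0x489a014, 0, 2, 3⟩] = true := by decide +kernel

theorem card : Nat.card (k5.mSL 3).T = 372000 := card_SL35

theorem fin : Finite (k5.mSL 3).T :=  Nat.finite_of_card_ne_zero (by rw [card]; norm_num)

theorem rz : Rz dW32 _ x :=
  haveI := fin
  hx.rz dW32_ok (m := 11625) card (by norm_num) rels cores ress (l := [(2, 1), (1, 1), (1, 31), (2, 8), (2, 6), (1, 10), (31, 11)]) (by decide +kernel)

end GW32

theorem models_W32 : Models dW32 1 := models_one GW32.rz

namespace GD64

/-- the field -/
def K : RM (ZMod 193) := rmZ 193 8 (by norm_num) (by norm_num)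

/-- the centre -/
noncomputable def Z : CZ (K.mSL 2) 3221225664 0 := K.czSL 2 _ 192 _ (by decide +kernel)

/-- the codes of the generators -/
def X : ℕ → ℕ := get 32 0x839b193e63aa472a93c05745b84d380e5f7b6b27b7bc880a

theorem ex : ∃ x, (Z.mdl).RX dD64 X x := Mdl.exists_RX (W := get 1 0x0) (by decide +kernel)

/-- the generators -/
noncomputable def x := Classical.choose ex

theorem hx : (Z.mdl).RX dD64 X x := Classical.choose_spec ex

theorem rels : (Z.mdl).rels dD64 X = true := by decide +kernel

theorem cores : (Z.mdl).cores dD64 X [⟨32, 1, 61, 0xc0162217, 0, 0x9f63841e, 0⟩] = true := by decide +kernel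

theorem ress : (Z.mdl).ress dD64 X [⟨1, 0x922e7d2e, 0, 2, 3⟩,
    ⟨3, 0x9c97a524, 0, 2, 97⟩] = true := by decide +kernel

theorem card : Nat.card (Z.mdl).T = 3594432 := Z.card_eq (card_SL_zmod 193 2 7188864 (by norm_num) (by norm_num) (by decide +kernel)) (by norm_num)

theorem fin : Finite (Z.mdl).T :=  Nat.finite_of_card_ne_zero (by rw [card]; norm_num)

theorem rz : Rz dD64 _ x :=
  haveI := fin
  hx.rz dD64_ok (m := 56163) card (by norm_num) rels cores ress (l := [(1, 3), (3, 1), (3, 2), (1, 62), (1, 5), (3, 4), (2, 63), (2, 4), (62, 7), (5, 6), (1, 9), (1, 11), (3, 10), (2, 10), (62, 13), (5, 12), (63, 15), (63, 17), (4, 18), (7, 22), (61, 29)]) (by decide +kernel)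

end GD64

theorem models_D64 : Models dD64 1 := models_one GD64.rz

namespace GD128

/-- the field -/
def K : RM (ZMod 127) := rmZ 127 7 (by norm_num) (by norm_num)

/-- the centre -/
noncomputable def Z : CZ (K.mSL 2) 264241278 0 := K.czSL 2 _ 126 _ (by decide +kernel)

/-- the codes of the generators -/
def X : ℕ → ℕ := get 28 0xe35348ef16989731bf5bd84ed5018abcd80c98ee06ea5070a

theorem ex : ∃ x, (Z.mdl).RX dD128 X x := Mdl.exists_RX (W := get 1 0x0) (by decide +kernel)

/-- the generators -/
noncomputable def x := Classical.choose ex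

theorem hx : (Z.mdl).RX dD128 X x := Classical.choose_spec ex

theorem rels : (Z.mdl).rels dD128 X = true := by decide +kernel

theorem cores : (Z.mdl).cores dD128 X [⟨64, 1, 125, 0xbe12ea0, 0, 0x4c30db4, 0⟩] = true := by decide +kernel

theorem ress : (Z.mdl).ress dD128 X [⟨1, 0xaee14a9, 0, 2, 3⟩,
    ⟨3, 0xc74fe1b, 0, 2, 3⟩] = true := by decide +kernel

theorem card : Nat.card (Z.mdl).T = 1024128 := Z.card_eq (card_SL_zmod 127 2 2048256 (by norm_num) (by norm_num) (by decide +kernel)) (by norm_num)

theorem fin : Finite (Z.mdl).T :=  Nat.finite_of_card_ne_zero (by rw [card]; norm_num)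

theorem rz : Rz dD128 _ x :=
  haveI := fin
  hx.rz dD128_ok (m := 8001) card (by norm_num) rels cores ress (l := [(1, 3), (3, 1), (3, 2), (1, 126), (1, 5), (3, 4), (2, 127), (2, 4), (126, 7), (5, 125), (5, 6), (1, 9), (1, 11), (3, 10), (2, 10), (126, 13), (5, 12), (127, 15), (127, 17), (4, 18), (7, 22), (125, 29), (6, 32), (9, 38), (120, 47), (1, 55), (3, 54), (126, 57), (127, 59), (4, 60)]) (by decide +kernel)

end GD128

theorem models_D128 : Models dD128 1 := models_one GD128.rz

namespace GD256

/-- the field -/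
def K : RM (ZMod 257) := rmZ 257 9 (by norm_num) (by norm_num)

/-- the centre -/
noncomputable def Z : CZ (K.mSL 2) 34359738624 0 := K.czSL 2 _ 256 _ (by decide +kernel)

/-- the codes of the generators -/
def X : ℕ → ℕ := get 36 0x54a4c18586c8a4ce644fbe01e7a119e072642b1adf445790451e703b3910c71001f44a00

theorem ex : ∃ x, (Z.mdl).RX dD256 X x := Mdl.exists_RX (W := get 1 0x0) (by decide +kernel)

/-- the generators -/
noncomputable def x := Classical.choose ex

theorem hx : (Z.mdl).RX dD256 X x := Classical.choose_spec ex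

theorem rels : (Z.mdl).rels dD256 X = true := by decide +kernel

theorem cores : (Z.mdl).cores dD256 X [⟨128, 1, 253, 0x29af89a47, 0, 0x360e84449, 0⟩] = true := by decide +kernel

theorem ress : (Z.mdl).ress dD256 X [⟨1, 0x79219e40e, 0, 2, 3⟩,
    ⟨3, 0x48a047e6f, 0, 2, 3⟩] = true := by decide +kernel

theorem card : Nat.card (Z.mdl).T = 8487168 := Z.card_eq (card_SL_zmod 257 2 16974336 (by norm_num) (by norm_num) (by decide +kernel)) (by norm_num)

theorem fin : Finite (Z.mdl).T :=  Nat.finite_of_card_ne_zero (by rw [card]; norm_num)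

theorem rz : Rz dD256 _ x :=
  haveI := fin
  hx.rz dD256_ok (m := 33153) card (by norm_num) rels cores ress (l := [(1, 3), (3, 1), (3, 2), (1, 254), (1, 5), (3, 255), (3, 4), (2, 255), (2, 4), (254, 252), (254, 7), (5, 253), (5, 6), (1, 250), (1, 9), (1, 248), (1, 11), (3, 10), (2, 249), (2, 10), (254, 13), (5, 247), (5, 12), (255, 15), (255, 242), (255, 17), (4, 241), (4, 18), (7, 237), (7, 22), (253, 230), (253, 29), (6, 227), (6, 32), (9, 221), (9, 38), (248, 212), (248, 47), (1, 204), (1, 55), (3, 54), (2, 205), (254, 57), (5, 203), (255, 59), (255, 198), (4, 60), (7, 197), (253, 190), (6, 187), (9, 181), (248, 172), (251, 164), (8, 159), (10, 151), (13, 141)]) (by decide +kernel)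

end GD256

theorem models_D256 : Models dD256 1 := models_one GD256.rz

namespace GQ64

/-- the field -/
def K : RM (ZMod 47) := rmZ 47 6 (by norm_num) (by norm_num)

/-- the codes of the generators -/
def X : ℕ → ℕ := get 54 0xaa84c34158098e8ad10ed2270ca98769940c44705c2440607cbae6764497baca8f4d374db8eb2460d

theorem ex : ∃ x, (K.mSL 3).RX dQ64 X x := Mdl.exists_RX (W := get 1 0x0) (by decide +kernel)

/-- the generators -/
noncomputable def x := Classical.choose ex

theorem hx : (K.mSL 3).RX dQ64 X x := Classical.choose_spec ex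

theorem rels : (K.mSL 3).rels dQ64 X = true := by decide +kernel

theorem cores : (K.mSL 3).cores dQ64 X [⟨32, 1, 29, 0x77d9219a49a6b, 0, 0x2ab8e801755326, 0⟩] = true := by decide +kernel

theorem ress : (K.mSL 3).ress dQ64 X [⟨1, 0xf6aaa47207019, 0, 2, 3⟩,
    ⟨3, 0x64cf3927da8d7, 0, 2, 3⟩] = true := by decide +kernel

theorem card : Nat.card (K.mSL 3).T = 23800278205248 := card_SL_zmod 47 3 _ (by norm_num) (by norm_num) (by decide +kernel)

theorem fin : Finite (K.mSL 3).T :=  Nat.finite_of_card_ne_zero (by rw [card]; norm_num)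

theorem rz : Rz dQ64 _ x :=
  haveI := fin
  hx.rz dQ64_ok (m := 371879346957) card (by norm_num) rels cores ress (l := [(1, 3), (3, 1), (3, 3), (3, 2), (1, 30), (1, 5), (3, 4), (2, 4), (30, 7), (5, 6), (1, 9), (1, 11), (3, 10), (30, 13), (31, 15)]) (by decide +kernel)

end GQ64

theorem models_Q64 : Models dQ64 1 := models_one GQ64.rz

namespace GQ128

/-- the field -/
def K : RM (ZMod 31) := rmZ 31 5 (by norm_num) (by norm_num)

/-- the codes of the generators -/
def X : ℕ → ℕ := get 45 0x6030b430f6d731d3e77536787790c832d3e02228f55eba5ab6ef685c53145970764204b31d4ea21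

theorem ex : ∃ x, (K.mSL 3).RX dQ128 X x := Mdl.exists_RX (W := get 1 0x0) (by decide +kernel)

/-- the generators -/
noncomputable def x := Classical.choose ex

theorem hx : (K.mSL 3).RX dQ128 X x := Classical.choose_spec ex

theorem rels : (K.mSL 3).rels dQ128 X = true := by decide +kernel

theorem cores : (K.mSL 3).cores dQ128 X [⟨64, 1, 61, 0x1b47b37872ef, 0, 0x18dadf6b239d, 0⟩] = true := by decide +kernel

theorem ress : (K.mSL 3).ress dQ128 X [⟨1, 0x4e178588a76, 0, 2, 3⟩,
    ⟨3, 0x1300708a3624, 0, 2, 3⟩] = true := by decide +kernel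

theorem card : Nat.card (K.mSL 3).T = 851974934400 := card_SL_zmod 31 3 _ (by norm_num) (by norm_num) (by decide +kernel)

theorem fin : Finite (K.mSL 3).T :=  Nat.finite_of_card_ne_zero (by rw [card]; norm_num)

theorem rz : Rz dQ128 _ x :=
  haveI := fin
  hx.rz dQ128_ok (m := 6656054175) card (by norm_num) rels cores ress (l := [(1, 3), (3, 1), (3, 3), (3, 2), (1, 62), (1, 5), (3, 64), (3, 63), (3, 4), (2, 63), (2, 4), (62, 7), (64, 6), (5, 6), (5, 70), (1, 9), (1, 11), (1, 75), (3, 10), (2, 74), (62, 13), (5, 76), (63, 15), (63, 81), (4, 82), (67, 86), (124, 25), (125, 29)]) (by decide +kernel)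

end GQ128

theorem models_Q128 : Models dQ128 1 := models_one GQ128.rz

namespace GQ256

/-- the field -/
def K : RM (ZMod 191) := rmZ 191 8 (by norm_num) (by norm_num)

/-- the codes of the generators -/
def X : ℕ → ℕ := get 72 0x9545aa0e24692790058eb1467b7f282f7b72a2986499816e988e95702b1232ad1e545177373608ab3b3d81a70d92b83935b827ad8e7fb8ab8a062755567d76294d292b2e5c20ba67

theorem ex : ∃ x, (K.mSL 3).RX dQ256 X x := Mdl.exists_RX (W := get 1 0x0) (by decide +kernel)

/-- the generators -/
noncomputable def x := Classical.choose ex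

theorem hx : (K.mSL 3).RX dQ256 X x := Classical.choose_spec ex

theorem rels : (K.mSL 3).rels dQ256 X = true := by decide +kernel

theorem cores : (K.mSL 3).cores dQ256 X [⟨128, 1, 125, 0xf0b6f9e82717189ac, 0, 0x69b94704a414b98025, 0⟩] = true := by decide +kernel

theorem ress : (K.mSL 3).ress dQ256 X [⟨1, 0x36821d2e0f46275d7a, 0, 2, 3⟩,
    ⟨3, 0x10540fa2b7387934b7, 0, 2, 3⟩] = true := by decide +kernel

theorem card : Nat.card (K.mSL 3).T = 1771148480238009600 := card_SL_zmod 191 3 _ (by norm_num) (by norm_num) (by decide +kernel)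

theorem fin : Finite (K.mSL 3).T :=  Nat.finite_of_card_ne_zero (by rw [card]; norm_num)

theorem rz : Rz dQ256 _ x :=
  haveI := fin
  hx.rz dQ256_ok (m := 6918548750929725) card (by norm_num) rels cores ress (l := [(1, 3), (3, 1), (3, 3), (3, 2), (1, 126), (1, 128), (1, 5), (3, 128), (3, 5), (3, 127), (3, 129), (3, 4), (2, 127), (2, 4), (2, 130), (2, 7), (126, 252), (126, 7), (128, 253), (128, 6), (5, 6), (5, 134), (1, 9), (1, 11), (1, 139), (3, 10), (2, 10), (2, 138), (126, 13), (5, 12), (5, 140), (127, 15), (127, 17), (127, 145), (4, 18), (4, 146), (131, 22), (131, 150), (252, 153), (252, 25), (254, 157), (253, 29), (253, 31), (6, 34), (132, 40), (133, 172), (122, 49), (125, 55), (134, 186)]) (by decide +kernel)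

end GQ256

theorem models_Q256 : Models dQ256 1 := models_one GQ256.rz

namespace GW128

/-- the field -/
def K : RM (ZMod 41) := rmZ 41 6 (by norm_num) (by norm_num)

/-- the codes of the generators -/
def X : ℕ → ℕ := get 54 0x2160d59d1854933086093840c538438b19d6147de88a8262214d70087861c372508b11c6849962626271165012cd780

theorem ex : ∃ x, (K.mSL 3).RX dW128 X x := Mdl.exists_RX (W := get 1 0x0) (by decide +kernel)

/-- the generators -/
noncomputable def x := Classical.choose ex

theorem hx : (K.mSL 3).RX dW128 X x := Classical.choose_spec ex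

theorem rels : (K.mSL 3).rels dW128 X = true := by decide +kernel

theorem cores : (K.mSL 3).cores dW128 X [⟨64, 1, 45, 0x1c543220047a26, 0, 0x1a2c39476645de, 0⟩] = true := by decide +kernel

theorem ress : (K.mSL 3).ress dW128 X [⟨1, 0xc9c47c16971dc, 0, 2, 3⟩,
    ⟨2, 0x100020d49161b, 0, 2, 3⟩] = true := by decide +kernel

theorem card : Nat.card (K.mSL 3).T = 7980059337600 := card_SL_zmod 41 3 _ (by norm_num) (by norm_num) (by decide +kernel)

theorem fin : Finite (K.mSL 3).T :=  Nat.finite_of_card_ne_zero (by rw [card]; norm_num)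

theorem rz : Rz dW128 _ x :=
  haveI := fin
  hx.rz dW128_ok (m := 62344213575) card (by norm_num) rels cores ress (l := [(1, 2), (2, 1), (2, 2), (2, 3), (1, 8), (1, 5), (2, 9), (2, 4), (3, 8), (3, 7), (3, 6), (47, 11), (8, 13), (5, 21)]) (by decide +kernel)

end GW128

theorem models_W128 : Models dW128 1 := models_one GW128.rz

end Cfsg.Agent.FS.Real
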