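import Cfsg.Agent.FS.Real.Mdl

/-!
# Matrix models (helper83, project FS, part C)
-/

set_option autoImplicit false

namespace Cfsg.Agent.FS.Real

open Matrix

/-- A computable model of a commutative ring; reduced codes have `w` bits. -/
structure RM (F : Type) [CommRing F] where
  /-- value -/
  val : ℕ → F
  /-- width -/
  w : ℕ
  /-- `r + a * b` -/
  fma : ℕ → ℕ → ℕ → ℕ
  /-- reduction -/
  nrm : ℕ → ℕ
  /-- the code of `-1` -/
  m1 : ℕ
  val_zero : val 0 = 0
  val_one : val 1 = 1
  val_m1 : val m1 = -1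
  val_fma : ∀ r a b, val (fma r a b) = val r + val a * val b
  val_nrm : ∀ a, val (nrm a) = val a
  nrm_lt : ∀ a, nrm a < 2 ^ w
  one_lt : 1 < 2 ^ w
  nrm_eq : ∀ {a b}, val a = val b → nrm a = nrm b

/-- The integers modulo `p`. -/
def rmZ (p w : ℕ) (hp : 1 < p) (hw : p ≤ 2 ^ w) : RM (ZMod p) where
  val a := (a : ZMod p)
  w := w
  fma r a b := r + a * b
  nrm a := a % p
  m1 := p - 1
  val_zero := Nat.cast_zero
  val_one := Nat.cast_one
  val_m1 := by
    rw [Nat.cast_sub hp.le, ZMod.natCast_self, Nat.cast_one, zero_sub]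
  val_fma r a b := by rw [Nat.cast_add, Nat.cast_mul]
  val_nrm a := ZMod.natCast_mod a p
  nrm_lt a := (Nat.mod_lt _ (by omega)).trans_le hw
  one_lt := hp.trans_le hw
  nrm_eq h := (ZMod.natCast_eq_natCast_iff' _ _ _).1 h

theorem cast_mod_two {F : Type} [CommRing F] (h2 : (2 : F) = 0) (a : ℕ) : ((a % 2 : ℕ) : F) = a := by
  conv_rhs => rw [← Nat.mod_add_div a 2]
  rw [Nat.cast_add, Nat.cast_mul, Nat.cast_two, h2, zero_mul, add_zero]

/-- The field with four elements. -/
def rm4 {F : Type} [Field F] (h2 : (2 : F) = 0) (ω : F) (hω : ω * ω = ω + 1) : RM F where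
  val a := ((a % 2 : ℕ) : F) + ((a / 2 : ℕ) : F) * ω
  w := 2
  fma r a b := (r + a % 2 * b + a / 2 * (b / 2)) % 2 + 2 * (r / 2 + a % 2 * (b / 2) + a / 2 * (b % 2 + b / 2))
  nrm a := a % 4
  m1 := 1
  val_zero := by simp
  val_one := by simp
  val_m1 := by
    rw [show (1 % 2 : ℕ) = 1 from rfl, show (1 / 2 : ℕ) = 0 from rfl, Nat.cast_one, Nat.cast_zero]
    linear_combination h2
  val_fma r a b := by
    rw [Nat.add_mul_mod_self_left, Nat.mod_mod, Nat.add_mul_div_left _ _ (by norm_num : 0 < 2),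
      Nat.div_eq_of_lt (Nat.mod_lt _ (by norm_num)), Nat.zero_add, cast_mod_two h2]
    push_cast
    simp only [cast_mod_two h2]
    linear_combination (-((a / 2 : ℕ) : F) * ((b / 2 : ℕ) : F)) * hω
  val_nrm a := by
    rw [show a % 4 % 2 = a % 2 by omega, show a % 4 / 2 = a / 2 % 2 by omega, cast_mod_two h2 (a / 2)]
  nrm_lt a := Nat.mod_lt _ (by norm_num)
  one_lt := by norm_num
  nrm_eq := by
    intro a b h
    have h0 : ω ≠ 0 := by
      rintro rfl
      simp at hω
    have h1 : ω ≠ 1 := by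
      rintro rfl
      simp at hω
    have h3 : (1 : F) + 1 = 0 := by rw [← h2]; norm_num
    rw [← cast_mod_two h2 (a / 2), ← cast_mod_two h2 (b / 2)] at h
    have key : a % 2 = b % 2 ∧ a / 2 % 2 = b / 2 % 2 := by
      rcases Nat.mod_two_eq_zero_or_one a with a0 | a0 <;> rcases Nat.mod_two_eq_zero_or_one b with b0 | b0 <;>
        rcases Nat.mod_two_eq_zero_or_one (a / 2) with a1 | a1 <;>
        rcases Nat.mod_two_eq_zero_or_one (b / 2) with b1 | b1 <;> rw [a0, b0, a1, b1] at h ⊢ <;>
        simp only [Nat.cast_zero, Nat.cast_one, zero_mul, one_mul, add_zero, zero_add] at h <;>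
        first
          | exact ⟨rfl, rfl⟩
          | exact absurd h.symm h0
          | exact absurd h h0
          | exact absurd h.symm h1
          | exact absurd h h1
          | exact absurd h zero_ne_one
          | exact absurd h one_ne_zero
          | exact absurd (show ω = 1 by linear_combination -h - h3) h1
          | exact absurd (show ω = 1 by linear_combination h - h3) h1
          | exact absurd (show ω = 0 by linear_combination h) h0
          | exact absurd (show ω = 0 by linear_combination -h) h0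
          | exact absurd (show (1 : F) = 0 by linear_combination h) one_ne_zero
          | exact absurd (show (1 : F) = 0 by linear_combination -h) one_ne_zero
    omega

theorem exists_omega : ∃ ω : GaloisField 2 2, ω * ω = ω + 1 := by
  have hc : Nat.card (GaloisField 2 2) = 2 ^ 2 := GaloisField.card 2 2 (by norm_num)
  have := Fintype.ofFinite (GaloisField 2 2)
  have hc' : Fintype.card (GaloisField 2 2) = 4 := by rw [← Nat.card_eq_fintype_card, hc]; rfl
  have h2 : (2 : GaloisField 2 2) = 0 := CharP.cast_eq_zero (GaloisField 2 2) 2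
  classical
  obtain ⟨ω, -, h⟩ := Finset.exists_mem_notMem_of_card_lt_card
    (s := ({0, 1} : Finset (GaloisField 2 2))) (t := Finset.univ) (by
      rw [Finset.card_univ, hc']
      exact (Finset.card_le_two).trans_lt (by norm_num))
  rw [Finset.mem_insert, Finset.mem_singleton, not_or] at h
  have h3 := FiniteField.pow_card ω
  rw [hc'] at h3
  have h4 : ω * (ω - 1) * (ω * ω + ω + 1) = 0 := by linear_combination h3
  refine ⟨ω, ?_⟩
  rcases mul_eq_zero.1 h4 with h5 | h5
  · rcases mul_eq_zero.1 h5 with h6 | h6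
    · exact absurd h6 h.1
    · exact absurd (sub_eq_zero.1 h6) h.2
  · linear_combination h5 - (ω + 1) * h2

/-- The model of the field with four elements. -/
noncomputable def rmF4 : RM (GaloisField 2 2) :=
  rm4 (CharP.cast_eq_zero (GaloisField 2 2) 2) (Classical.choose exists_omega) (Classical.choose_spec exists_omega)

/-- packing -/
noncomputable def pack (w N : ℕ) (f : ℕ → ℕ) : ℕ := Nat.rec 0 (fun k r => r + 2 ^ (w * k) * f k) N

theorem pack_succ (w N : ℕ) (f : ℕ → ℕ) : pack w (N + 1) f = pack w N f + 2 ^ (w * N) * f N := rfl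

theorem pack_lt {w : ℕ} {f : ℕ → ℕ} (hf : ∀ k, f k < 2 ^ w) : ∀ N, pack w N f < 2 ^ (w * N)
  | 0 => Nat.two_pow_pos _
  | N + 1 => by
    have h1 := pack_lt hf N
    have h2 : 2 ^ (w * N) * (f N + 1) ≤ 2 ^ (w * N) * 2 ^ w := Nat.mul_le_mul_left _ (hf N)
    rw [pack_succ, Nat.mul_succ, pow_add]
    rw [Nat.mul_succ] at h2
    omega

theorem get_pack {w : ℕ} {f : ℕ → ℕ} (hf : ∀ k, f k < 2 ^ w) {k : ℕ} : ∀ N, k < N → get w (pack w N f) k = f k
  | 0, h => by omega
  | N + 1, h => by
    rw [pack_succ]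
    rcases Nat.lt_succ_iff_lt_or_eq.1 h with h1 | h1
    · rw [← get_pack hf N h1]
      obtain ⟨d, rfl⟩ := Nat.exists_eq_add_of_lt h1
      unfold get
      rw [Nat.shiftRight_eq_div_pow, Nat.shiftRight_eq_div_pow,
        show 2 ^ (w * (k + d + 1)) * f (k + d + 1) = 2 ^ (w * k) * (2 ^ w * (2 ^ (w * d) * f (k + d + 1))) by ring,
        Nat.add_mul_div_left _ _ (Nat.two_pow_pos _), Nat.add_mul_mod_self_left]
    · subst h1
      unfold get
      rw [Nat.shiftRight_eq_div_pow, Nat.add_mul_div_left _ _ (Nat.two_pow_pos _), Nat.div_eq_of_lt (pack_lt hf k),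
        Nat.zero_add, Nat.mod_eq_of_lt (hf k)]

namespace RM

variable {F : Type} [CommRing F] (K : RM F)

/-- entries -/
def ent (n c i j : ℕ) : ℕ := get K.w c (n * i + j)

/-- sums of products -/
noncomputable def dot (n : ℕ) (u v : ℕ → ℕ) : ℕ := Nat.rec 0 (fun k r => K.fma r (u k) (v k)) n

theorem val_dot (u v : ℕ → ℕ) : ∀ n, K.val (K.dot n u v) = ∑ k ∈ Finset.range n, K.val (u k) * K.val (v k)
  | 0 => K.val_zero
  | n + 1 => by
    rw [Finset.sum_range_succ, ← val_dot u v n]
    exact K.val_fma _ _ _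

/-- the matrix with the given entries -/
noncomputable def mk' (n : ℕ) (f : ℕ → ℕ → ℕ) : ℕ :=
  pack K.w (n * n) fun k => force (k / n) fun i => force (k % n) fun j => K.nrm (f i j)

theorem mk'_lt (n : ℕ) (f : ℕ → ℕ → ℕ) : K.mk' n f < 2 ^ (K.w * (n * n)) :=
  pack_lt (fun k => by rw [force_eq, force_eq]; exact K.nrm_lt _) _

theorem ent_mk' {n i j : ℕ} (f : ℕ → ℕ → ℕ) (hi : i < n) (hj : j < n) : K.ent n (K.mk' n f) i j = K.nrm (f i j) := by
  unfold ent mk'
  rw [get_pack (fun k => by rw [force_eq, force_eq]; exact K.nrm_lt _) _ (by nlinarith), force_eq, force_eq,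
    Nat.mul_add_div (by omega), Nat.div_eq_of_lt hj, Nat.add_zero, Nat.mul_add_mod, Nat.mod_eq_of_lt hj]

/-- product -/
noncomputable def mmul (n a b : ℕ) : ℕ :=
  force a fun a => force b fun b => K.mk' n fun i j => K.dot n (fun k => K.ent n a i k) fun k => K.ent n b k j

/-- transpose -/
noncomputable def mtr (n a : ℕ) : ℕ := force a fun a => K.mk' n fun i j => K.ent n a j i

/-- scalar matrices -/
noncomputable def msc (n s : ℕ) : ℕ := K.mk' n fun i j => bif Nat.beq i j then s else 0

/-- inequality -/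
noncomputable def mne (n a b : ℕ) : Bool :=
  force a fun a => force b fun b => anyB n fun i => anyB n fun j =>
    !Nat.beq (K.nrm (K.ent n a i j)) (K.nrm (K.ent n b i j))

variable {ι : Type} {n : ℕ} (e : ι ≃ Fin n)

/-- the matrix of a code -/
def toM (c : ℕ) : Matrix ι ι F := Matrix.of fun i j => K.val (K.ent n c (e i) (e j))

theorem toM_mk' (f : ℕ → ℕ → ℕ) (i j : ι) : K.toM e (K.mk' n f) i j = K.val (f (e i) (e j)) := by
  show K.val _ = _
  rw [K.ent_mk' f (e i).2 (e j).2, K.val_nrm]

theorem toM_mmul [Fintype ι] (a b : ℕ) : K.toM e (K.mmul n a b) = K.toM e a * K.toM e b := by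
  ext i j
  unfold mmul
  rw [force_eq, force_eq, toM_mk', val_dot, Matrix.mul_apply, ← Fin.sum_univ_eq_sum_range
    (fun k => K.val (K.ent n a (e i) k) * K.val (K.ent n b k (e j))), ← Equiv.sum_comp e]
  rfl

theorem toM_mtr (a : ℕ) : K.toM e (K.mtr n a) = (K.toM e a)ᵀ := by
  ext i j
  unfold mtr
  rw [force_eq, toM_mk']
  rfl

theorem toM_msc [Fintype ι] [DecidableEq ι] (s : ℕ) : K.toM e (K.msc n s) = Matrix.scalar ι (K.val s) := by
  ext i j
  unfold msc
  rw [toM_mk', Matrix.scalar_apply, Matrix.diagonal_apply]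
  by_cases h : i = j
  · rw [if_pos h, h, Nat.beq_refl, cond_true]
  · have h1 : Nat.beq (e i) (e j) = false := by
      cases h2 : Nat.beq (e i) (e j)
      · rfl
      · exact absurd (e.injective (Fin.ext (beq_eq h2))) h
    rw [if_neg h, h1, cond_false, K.val_zero]

theorem toM_one [Fintype ι] [DecidableEq ι] : K.toM e (K.msc n 1) = 1 := by
  rw [toM_msc, K.val_one, map_one]

theorem toM_ne {a b : ℕ} (h : K.mne n a b = true) : K.toM e a ≠ K.toM e b := by
  intro h1
  unfold mne at h
  rw [force_eq, force_eq] at h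
  obtain ⟨i, hi, h⟩ := anyB_spec h
  obtain ⟨j, hj, h⟩ := anyB_spec h
  have h2 : K.val (K.ent n a (e (e.symm ⟨i, hi⟩)) (e (e.symm ⟨j, hj⟩))) =
      K.val (K.ent n b (e (e.symm ⟨i, hi⟩)) (e (e.symm ⟨j, hj⟩))) :=
    congrFun (congrFun h1 (e.symm ⟨i, hi⟩)) (e.symm ⟨j, hj⟩)
  rw [e.apply_symm_apply, e.apply_symm_apply] at h2
  exact nbeq_ne h (K.nrm_eq h2)

/-- The model of a group of matrices. -/
noncomputable def mdl [Fintype ι] [DecidableEq ι] {G : Type} [Group G] (φ : G →* Matrix ι ι F)
    (hφ : Function.Injective φ) (ok : ℕ → ℕ → Bool) (hok : ∀ a w, ok a w = true → ∃ g, φ g = K.toM e a) : Mdl G where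
  R c g := φ g = K.toM e c
  mul := K.mmul n
  one := K.msc n 1
  eqv := Nat.beq
  neq := K.mne n
  ok := ok
  R_one := by rw [map_one, toM_one]
  R_mul := by
    intro a b g h ha hb
    rw [map_mul, toM_mmul, ha, hb]
  eq_of := by
    intro a b g h ha hb he
    rw [beq_eq he, ← hb] at ha
    exact hφ ha
  ne_of := by
    intro a b g h ha hb he hgh
    exact K.toM_ne e he (by rw [← ha, ← hb, hgh])
  ex_of := fun h => hok _ _ h

theorem mdl_bd [Fintype ι] [DecidableEq ι] {G : Type} [Group G] (φ : G →* Matrix ι ι F)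
    (hφ : Function.Injective φ) (ok : ℕ → ℕ → Bool) (hok : ∀ a w, ok a w = true → ∃ g, φ g = K.toM e a) :
    (K.mdl e φ hφ ok hok).Bd (K.w * (n * n)) := by
  refine ⟨K.mk'_lt _ _, fun a b => ?_⟩
  show K.mmul n a b < _
  unfold mmul
  rw [force_eq, force_eq]
  exact K.mk'_lt _ _

theorem mdl_comm [Fintype ι] [DecidableEq ι] {G : Type} [Group G] (φ : G →* Matrix ι ι F)
    (hφ : Function.Injective φ) (ok : ℕ → ℕ → Bool) (hok : ∀ a w, ok a w = true → ∃ g, φ g = K.toM e a) {c s : ℕ}
    (hc : Nat.beq c (K.msc n s) = true) (g : G) (hg : (K.mdl e φ hφ ok hok).R c g) (h : G) : g * h = h * g := by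
  have h1 : φ g = K.toM e c := hg
  apply hφ
  rw [map_mul, map_mul, h1, beq_eq hc, toM_msc]
  exact (Matrix.scalar_commute _ (fun _ => Commute.all _ _) _).eq

/-! ### determinants -/

/-- Laplace expansion -/
noncomputable def det (n : ℕ) : (ℕ → ℕ → ℕ) → ℕ :=
  Nat.rec (fun _ => 1) (fun n r A => K.nrm (K.dot (n + 1)
    (fun j => bif Nat.beq (j % 2) 0 then A 0 j else K.fma 0 K.m1 (A 0 j))
    fun j => r fun i k => A (i + 1) (bif Nat.blt k j then k else k + 1))) n

theorem val_det : ∀ (n : ℕ) (A : ℕ → ℕ → ℕ),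
    K.val (K.det n A) = Matrix.det (Matrix.of fun i j : Fin n => K.val (A i j))
  | 0, _ => by
    rw [Matrix.det_fin_zero]
    exact K.val_one
  | n + 1, A => by
    have h1 : K.det (n + 1) A = K.nrm (K.dot (n + 1)
      (fun j => bif Nat.beq (j % 2) 0 then A 0 j else K.fma 0 K.m1 (A 0 j))
      fun j => K.det n fun i k => A (i + 1) (bif Nat.blt k j then k else k + 1)) := rfl
    rw [h1, K.val_nrm, val_dot, Matrix.det_succ_row_zero, ← Fin.sum_univ_eq_sum_range
      (fun j => K.val (bif Nat.beq (j % 2) 0 then A 0 j else K.fma 0 K.m1 (A 0 j)) *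
        K.val (K.det n fun i k => A (i + 1) (bif Nat.blt k j then k else k + 1)))]
    refine Finset.sum_congr rfl fun j _ => ?_
    rw [val_det n]
    congr 1
    · rcases Nat.mod_two_eq_zero_or_one j with h | h
      · rw [h, Even.neg_one_pow (Nat.even_iff.2 h), one_mul]
        rfl
      · rw [h, Odd.neg_one_pow (Nat.odd_iff.2 h)]
        show K.val (K.fma 0 K.m1 (A 0 j)) = _
        rw [K.val_fma, K.val_zero, K.val_m1, zero_add]
        rfl
    · congr 1
      ext i k
      show K.val (A (i + 1) _) = K.val (A (i + 1) (j.succAbove k))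
      congr 2
      by_cases h : (k : ℕ) < j
      · rw [Nat.blt_eq.mpr h, cond_true, Fin.succAbove_of_castSucc_lt _ _ h]
        rfl
      · have h2 : Nat.blt k j = false := by
          cases h3 : Nat.blt k j
          · rfl
          · exact absurd (blt_lt h3) h
        rw [h2, cond_false, Fin.succAbove_of_le_castSucc _ _ (not_lt.1 h)]
        rfl

/-- The model of `SL n`. -/
noncomputable def mSL (n : ℕ) : Mdl (Matrix.SpecialLinearGroup (Fin n) F) :=
  K.mdl (Equiv.refl _) Matrix.SpecialLinearGroup.coeMonoidHom Subtype.val_injective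
    (fun a _ => force a fun a => Nat.beq (K.det n (K.ent n a)) 1) fun a _ h => by
      rw [force_eq] at h
      refine ⟨⟨K.toM (Equiv.refl _) a, ?_⟩, rfl⟩
      have h1 := K.val_det n (K.ent n a)
      rw [beq_eq h, K.val_one] at h1
      exact h1.symm

theorem exists_unit [Fintype ι] [DecidableEq ι] {a w : ℕ} (h : Nat.beq (K.mmul n a w) (K.msc n 1) = true) :
    ∃ g : GL ι F, (g : Matrix ι ι F) = K.toM e a := by
  have h1 : K.toM e a * K.toM e w = 1 := by rw [← toM_mmul, beq_eq h, toM_one]
  exact ⟨⟨K.toM e a, K.toM e w, h1, mul_eq_one_comm.1 h1⟩, rfl⟩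

/-- The model of `GL n`; the witness is the inverse. -/
noncomputable def mGL (n : ℕ) : Mdl (GL (Fin n) F) :=
  K.mdl (Equiv.refl _) (Units.coeHom _) Units.val_injective (fun a w => Nat.beq (K.mmul n a w) (K.msc n 1))
    fun _ _ h => K.exists_unit (Equiv.refl _) h

/-- the symplectic form -/
noncomputable def mJ (m : ℕ) : ℕ :=
  K.mk' (m + m) fun i j => bif Nat.beq (i + m) j then K.m1 else bif Nat.beq i (j + m) then 1 else 0

theorem beq_false {a b : ℕ} (h : a ≠ b) : Nat.beq a b = false := by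
  cases h2 : Nat.beq a b
  · rfl
  · exact absurd (beq_eq h2) h

theorem toM_mJ (m : ℕ) : K.toM finSumFinEquiv (K.mJ m) = Matrix.J (Fin m) F := by
  ext i j
  unfold mJ
  rw [toM_mk']
  unfold Matrix.J
  rcases i with i | i <;> rcases j with j | j
  · have hi := i.2
    have hj := j.2
    rw [finSumFinEquiv_apply_left, finSumFinEquiv_apply_left, Fin.val_castAdd, Fin.val_castAdd, beq_false (by omega),
      beq_false (by omega), cond_false, cond_false, K.val_zero]
    rfl
  · have hi := i.2
    rw [finSumFinEquiv_apply_left, finSumFinEquiv_apply_right, Fin.val_castAdd, Fin.val_natAdd,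
      Matrix.fromBlocks_apply₁₂, Matrix.neg_apply, Matrix.one_apply]
    by_cases h : i = j
    · rw [if_pos h, h, Nat.add_comm, Nat.beq_refl, cond_true, K.val_m1]
    · have h1 : (i : ℕ) ≠ j := fun h2 => h (Fin.ext h2)
      rw [if_neg h, beq_false (by omega), beq_false (by omega), cond_false, cond_false, K.val_zero, neg_zero]
  · have hj := j.2
    rw [finSumFinEquiv_apply_left, finSumFinEquiv_apply_right, Fin.val_castAdd, Fin.val_natAdd,
      Matrix.fromBlocks_apply₂₁, Matrix.one_apply, beq_false (by omega), cond_false]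
    by_cases h : i = j
    · rw [if_pos h, h, Nat.add_comm, Nat.beq_refl, cond_true, K.val_one]
    · have h1 : (i : ℕ) ≠ j := fun h2 => h (Fin.ext h2)
      rw [if_neg h, beq_false (by omega), cond_false, K.val_zero]
  · have hi := i.2
    have hj := j.2
    rw [finSumFinEquiv_apply_right, finSumFinEquiv_apply_right, Fin.val_natAdd, Fin.val_natAdd, beq_false (by omega),
      beq_false (by omega), cond_false, cond_false, K.val_zero]
    rfl

/-- The model of `Sp (2 m)`. -/
noncomputable def mSp (m : ℕ) : Mdl (Matrix.symplecticGroup (Fin m) F) :=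
  K.mdl finSumFinEquiv (Submonoid.subtype _) Subtype.val_injective
    (fun a _ => Nat.beq (K.mmul (m + m) (K.mmul (m + m) a (K.mJ m)) (K.mtr (m + m) a)) (K.mJ m)) fun a _ h => by
      refine ⟨⟨K.toM finSumFinEquiv a, ?_⟩, rfl⟩
      show K.toM finSumFinEquiv a * Matrix.J (Fin m) F * (K.toM finSumFinEquiv a)ᵀ = Matrix.J (Fin m) F
      rw [← toM_mJ, ← toM_mtr, ← toM_mmul, ← toM_mmul, beq_eq h]

end RM

end Cfsg.Agent.FS.Real
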