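import Cfsg.Agent.FS.Real.Tab
import Cfsg.Agent.FS.Real.Mat
import Cfsg.Agent.KFacts.J2.Basic
import Cfsg.Agent.KFacts.J3

/-!
# `J₂` and `J₃` (helper83, project FS, part C)
-/

set_option autoImplicit false

namespace Cfsg.Agent.FS.Real

open Subgroup Cfsg.Agent.J2Type.Model Cfsg.Agent.J2Type.CStruct Cfsg.Agent.J3Type.OneClass

/-- the generators -/
def jx {C : Type*} [Group C] (f g z : C) (v : Fin 5 → C) (i : ℕ) : C := [f, g, v 0, v 1, v 2, v 3, z].getD i 1

/-- first permutation -/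
def jf : SP := ⟨Equiv.swap 0 1 * Equiv.swap 2 3, fun _ => 0⟩

/-- second permutation -/
def jg : SP := ⟨Equiv.swap 0 2 * Equiv.swap 1 3, fun _ => 0⟩

theorem jan_rel {C : Type*} [Group C] {Q : Subgroup C} {z : C} {v : Fin 5 → C} {ρ : C →* SP} (M : IsModel Q z v ρ)
    {u : C} (hu : u * u = 1) (huQ : u ∉ Q) : ∃ f g : C, f ∉ Q ∧ f * f = 1 ∧ Rel dJ2 (jx f g z v) := by
  obtain ⟨f, hf⟩ := (M.range jf).2 (by decide +kernel)
  obtain ⟨g, hg⟩ := (M.range jg).2 (by decide +kernel)
  have ff : f * f = 1 := sq_of_rho_sq M hu huQ (by rw [hf]; decide +kernel) (by rw [hf]; decide +kernel)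
  have gg : g * g = 1 := sq_of_rho_sq M hu huQ (by rw [hg]; decide +kernel) (by rw [hg]; decide +kernel)
  have fg : f * g * (f * g) = 1 := sq_of_rho_sq M hu huQ (by rw [map_mul, hf, hg]; decide +kernel)
    (by rw [map_mul, hf, hg]; decide +kernel)
  have gf : g * f = f * g := by
    have h1 : f⁻¹ = f := inv_eq_of_mul_eq_one_right ff
    have h2 : g⁻¹ = g := inv_eq_of_mul_eq_one_right gg
    rw [← inv_eq_of_mul_eq_one_right fg, mul_inv_rev, h1, h2]
  have cf : ∀ i j, jf.σ i = j → v j * f = f * (1 * v i) := fun i j h => by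
    have h1 := M.conj f i
    rw [hf, h, show jf.s i = 0 from rfl, zp_zero, one_mul] at h1
    rw [← h1, inv_mul_cancel_right, one_mul]
  have cg : ∀ i j, jg.σ i = j → v j * g = g * (1 * v i) := fun i j h => by
    have h1 := M.conj g i
    rw [hg, h, show jg.s i = 0 from rfl, zp_zero, one_mul] at h1
    rw [← h1, inv_mul_cancel_right, one_mul]
  have vv : ∀ i j, j ≠ i → v j * v i = v i * (1 * v j * z) := fun i j h => by
    rw [M.v_anti j i h, one_mul, ← M.z_comm, mul_assoc]
  have zz : ∀ c, z * c = c * (1 * z) := fun c => by rw [one_mul, M.z_comm]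
  refine ⟨f, g, fun h => ?_, ff, fun i hi => ?_, fun i j hij hj => ?_⟩
  · rw [M.mem_Q, hf] at h
    exact absurd h (by decide +kernel)
  · have hi' : i < 7 := hi
    interval_cases i
    · exact ff
    · exact gg
    · exact M.v_sq 0
    · exact M.v_sq 1
    · exact M.v_sq 2
    · exact M.v_sq 3
    · exact M.z_sq
  · have hj' : j < 7 := hj
    interval_cases j <;> interval_cases i
    · exact gf.trans (congrArg (f * ·) (one_mul g).symm)
    · exact cf 1 0 (by decide)
    · exact cg 2 0 (by decide)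
    · exact cf 0 1 (by decide)
    · exact cg 3 1 (by decide)
    · exact vv 0 1 (by decide)
    · exact cf 3 2 (by decide)
    · exact cg 0 2 (by decide)
    · exact vv 0 2 (by decide)
    · exact vv 1 2 (by decide)
    · exact cf 2 3 (by decide)
    · exact cg 1 3 (by decide)
    · exact vv 0 3 (by decide)
    · exact vv 1 3 (by decide)
    · exact vv 2 3 (by decide)
    all_goals exact zz _

theorem Rel.map {G G' : Type*} [Group G] [Group G'] {D : PcD} {x : ℕ → G} (H : Rel D x) (φ : G →* G') :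
    Rel D fun i => φ (x i) :=
  ⟨fun i hi => by rw [← map_mul, H.sq i hi, map_el], fun i j hij hj => by
    rw [← map_mul, H.cj i j hij hj, map_mul, map_el]⟩

/-- The realisation in a group with an involution centralizer `2^{1+4}_- : A₅`. -/
theorem jan_rz {K : Type*} [Group K] [Finite K] [IsSimpleGroup K] {z : K} {Q : Subgroup (centralizer ({z} : Set K))}
    {v : Fin 5 → centralizer ({z} : Set K)} {ρ : centralizer ({z} : Set K) →* SP} (M : IsModel Q (zc z) v ρ)
    {u : centralizer ({z} : Set K)} (hu : u * u = 1) (huQ : u ∉ Q) {m : ℕ} (hm : Nat.card K = 2 ^ 7 * m)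
    (ho : ¬ 2 ∣ m) (h3 : 3 ∣ Nat.card K) (hv : ∀ i, IsConj z (v i : K)) :
    ∃ (x : ℕ → K) (S : Subgroup K) (f : centralizer ({z} : Set K)), Rz dJ2 K x ∧ Gen dJ2 S x ∧ z ∈ S ∧
      (f : K) ∈ S ∧ f ∉ Q ∧ f * f = 1 := by
  obtain ⟨f, g, h1, h2, hR⟩ := jan_rel M hu huQ
  have hR' := hR.map (centralizer ({z} : Set K)).subtype
  have e64 : el (fun i => (centralizer ({z} : Set K)).subtype (jx f g (zc z) v i)) dJ2.n 64 = z := one_mul z
  have e4 : el (fun i => (centralizer ({z} : Set K)).subtype (jx f g (zc z) v i)) dJ2.n 4 = v 0 := one_mul _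
  have e8 : el (fun i => (centralizer ({z} : Set K)).subtype (jx f g (zc z) v i)) dJ2.n 8 = v 1 := one_mul _
  have H := hR'.gen dJ2_ok fun w hw => by
    obtain rfl : w = 64 := List.mem_singleton.1 hw
    rw [e64]
    exact fun h => M.z_ne (Subtype.ext h)
  refine ⟨_, _, f, rz_of H hm ho (fun w hw => ?_) fun i _ => ?_, H, H.x_mem (i := 6) (by decide),
    H.x_mem (i := 0) (by decide), h1, h2⟩
  · obtain rfl : w = 64 := List.mem_singleton.1 hw
    refine ⟨4, 8, by decide, by decide, ?_, ?_, by decide +kernel⟩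
    · rw [e64, e4]
      exact hv 0
    · rw [e64, e8]
      exact hv 1
  · rw [pResidual_eq_top (r := 3) (by norm_num) (by norm_num) h3]
    exact Subgroup.mem_top _

theorem models_J2 : Models dJ2 2 := by
  obtain ⟨ω, hω⟩ := exists_omega
  let _ := Fintype.ofFinite (GaloisField 2 2)
  have h2 : (2 : GaloisField 2 2) = 0 := CharP.cast_eq_zero (GaloisField 2 2) 2
  obtain ⟨_, z, Q, v, ρ, n, u, H⟩ := KFacts.J3.exists_facts (K := Spor.J3 (GaloisField 2 2) ω)
    ⟨GaloisField 2 2, inferInstance, inferInstance, ω, by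
      rw [← Nat.card_eq_fintype_card]
      exact GaloisField.card 2 2 (by norm_num), by linear_combination hω + (ω + 1) * h2, ⟨MulEquiv.refl _⟩⟩
  have : Finite (Spor.J3 (GaloisField 2 2) ω) := Nat.finite_of_card_ne_zero (by rw [H.card_K]; norm_num)
  have hcl : ∀ a b : Spor.J3 (GaloisField 2 2) ω, a ≠ 1 → a * a = 1 → b ≠ 1 → b * b = 1 → IsConj a b :=
    fun a b a1 a2 b1 b2 => (isConj_iff.2 (H.one a a1 a2)).symm.trans (isConj_iff.2 (H.one b b1 b2))
  obtain ⟨x, S, -, r3, H3, -⟩ := jan_rz H.model H.u_sq H.u_not (m := 392445) H.card_K (by norm_num)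
    (by rw [H.card_K]; norm_num) fun i => isConj_iff.2 (H.one _ (fun h => v_ne_one H.model i 0 (by
      rw [zp_zero, one_mul]
      exact Subtype.ext h)) (congrArg Subtype.val (H.model.v_sq i)))
  obtain ⟨t, u', Q', v', ρ', D⟩ := KFacts.J2.Basic.exists_dat
  have : Finite Spor.J2 := Nat.finite_of_card_ne_zero (by rw [S1619.result.2.2.2]; norm_num)
  have := S1620.result.1
  obtain ⟨y, S', f, r2, H2, t1, f1, f2, f3⟩ := jan_rz D.M (u := ⟨u', D.u_mem⟩) (Subtype.ext D.uu) D.u_notMem (m := 4725)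
    D.card (by norm_num) (by rw [D.card]; norm_num) D.isConj_v
  refine models_two r3 r2 (sep_class H3 hcl H2 t1 f1 D.t_ne D.tt (fun h => f2 ?_) (congrArg Subtype.val f3) fun h =>
    D.F.nconj (h.trans (D.isConj_outer f3 f2).symm))
  rw [show f = 1 from Subtype.ext h]
  exact Q'.one_mem

end Cfsg.Agent.FS.Real
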