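import Cfsg.Agent.FS.Real.Inv

/-!
# Computable models of groups and the checkers (helper83, project FS, part C)

`Mdl G`: natural numbers code elements of `G`; products, equality and inequality can be computed on the codes.
-/

set_option autoImplicit false

namespace Cfsg.Agent.FS.Real

open Cfsg

/-- evaluate `n` before passing it on -/
noncomputable def force {α : Type} (n : ℕ) (f : ℕ → α) : α := Nat.rec (f 0) (fun k _ => f (Nat.succ k)) n

theorem force_eq {α : Type} (n : ℕ) (f : ℕ → α) : force n f = f n := by cases n <;> rfl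

/-- A computable model of `G`. -/
structure Mdl (G : Type) [Group G] where
  /-- the code `c` stands for `g` -/
  R : ℕ → G → Prop
  /-- product -/
  mul : ℕ → ℕ → ℕ
  /-- unit -/
  one : ℕ
  /-- equality -/
  eqv : ℕ → ℕ → Bool
  /-- inequality -/
  neq : ℕ → ℕ → Bool
  /-- existence, with a witness -/
  ok : ℕ → ℕ → Bool
  R_one : R one 1
  R_mul : ∀ {a b : ℕ} {g h : G}, R a g → R b h → R (mul a b) (g * h)
  eq_of : ∀ {a b : ℕ} {g h : G}, R a g → R b h → eqv a b = true → g = h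
  ne_of : ∀ {a b : ℕ} {g h : G}, R a g → R b h → neq a b = true → g ≠ h
  ex_of : ∀ {a w : ℕ}, ok a w = true → ∃ g, R a g

/-- certificate for the core: two non-commuting conjugates `a`, `b` of `z` -/
structure CoreC where
  z : ℕ
  a : ℕ
  b : ℕ
  ca : ℕ
  wa : ℕ
  cb : ℕ
  wb : ℕ

/-- certificate for the residual: `el a = u * v` with `u ^ m = 1 = v ^ k`, `m = m' + 1` and `k` odd -/
structure ResC where
  a : ℕ
  c : ℕ
  w : ℕ
  m' : ℕ
  k : ℕ

/-- products of known elements -/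
noncomputable def PcD.close (D : PcD) (l : List (ℕ × ℕ)) (M : ℕ) : ℕ :=
  List.rec (fun M => M) (fun p _ r M => force M fun M =>
    r (bif tb M p.1 && tb M p.2 && Nat.blt p.1 (2 ^ D.n) then M ||| 2 ^ D.mul p.1 p.2 else M)) l M

/-- the set of the seeds -/
noncomputable def seedM (l : List ℕ) : ℕ := List.rec 0 (fun a _ r => r ||| 2 ^ a) l

theorem seedM_spec {l : List ℕ} {a : ℕ} (h : tb (seedM l) a = true) : a ∈ l := by
  induction l with
  | nil =>
    rw [tb_eq] at h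
    exact absurd h (by rw [show seedM [] = 0 from rfl, Nat.zero_testBit]; simp)
  | cons b l ih =>
    rw [show seedM (b :: l) = seedM l ||| 2 ^ b from rfl, tb_eq, Nat.testBit_or, Bool.or_eq_true, Nat.testBit_two_pow,
      decide_eq_true_eq, ← tb_eq] at h
    rcases h with h | h
    · exact List.mem_cons_of_mem _ (ih h)
    · rw [h]
      exact List.mem_cons_self

theorem Gen.close {G : Type*} [Group G] {D : PcD} {S : Subgroup G} {x : ℕ → G} (H : Gen D S x) {K : Subgroup G}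
    (l : List (ℕ × ℕ)) : ∀ M : ℕ, (∀ a, tb M a = true → el x D.n a ∈ K) →
      ∀ a, tb (D.close l M) a = true → el x D.n a ∈ K := by
  induction l with
  | nil => exact fun M h => h
  | cons p l ih =>
    intro M h
    have h1 : D.close (p :: l) M = force M fun M => D.close l
      (bif tb M p.1 && tb M p.2 && Nat.blt p.1 (2 ^ D.n) then M ||| 2 ^ D.mul p.1 p.2 else M) := rfl
    rw [h1, force_eq]
    refine ih _ ?_
    cases hc : (tb M p.1 && tb M p.2 && Nat.blt p.1 (2 ^ D.n))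
    · exact h
    · simp only [Bool.and_eq_true] at hc
      intro a ha
      rw [cond_true, tb_eq, Nat.testBit_or, Bool.or_eq_true, Nat.testBit_two_pow, decide_eq_true_eq, ← tb_eq] at ha
      rcases ha with ha | ha
      · exact h a ha
      · rw [← ha, ← H.mul (blt_lt hc.2)]
        exact K.mul_mem (h _ hc.1.1) (h _ hc.1.2)

/-- check: the seeds generate -/
noncomputable def PcD.gens (D : PcD) (s : List ℕ) (l : List (ℕ × ℕ)) : Bool :=
  force (D.close l (seedM s)) fun M => allB D.n fun i => tb M (2 ^ i)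

theorem Gen.gens {G : Type*} [Group G] {D : PcD} {S : Subgroup G} {x : ℕ → G} (H : Gen D S x) {K : Subgroup G}
    {s : List ℕ} {l : List (ℕ × ℕ)} (h : D.gens s l = true) (hs : ∀ a ∈ s, el x D.n a ∈ K) {i : ℕ} (hi : i < D.n) :
    x i ∈ K := by
  unfold PcD.gens at h
  rw [force_eq] at h
  rw [← el_two_pow x _ hi]
  exact H.close l _ (fun a ha => hs a (seedM_spec ha)) _ (allB_spec h hi)

namespace Mdl

variable {G : Type} [Group G] (M : Mdl G)

/-- the group -/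
abbrev T (_ : Mdl G) : Type := G

/-- powers -/
noncomputable def pw (c m : ℕ) : ℕ := Nat.rec M.one (fun _ r => M.mul r c) m

/-- normal forms -/
noncomputable def elc (X : ℕ → ℕ) (n a : ℕ) : ℕ := Nat.rec M.one (fun k r => bif tb a k then M.mul r (X k) else r) n

/-- check: conjugation -/
noncomputable def act (D : PcD) (X : ℕ → ℕ) (c a b : ℕ) : Bool :=
  M.eqv (M.mul c (M.elc X D.n a)) (M.mul (M.elc X D.n b) c)

/-- check: action on an orbit -/
noncomputable def actO (D : PcD) (X : ℕ → ℕ) (c m A s : ℕ) : Bool :=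
  allB m fun k => M.act D X c (get 8 A k) (get 8 A (get 8 s k))

/-- check: existence of the generators -/
noncomputable def oks (X W : ℕ → ℕ) (n : ℕ) : Bool := allB n fun i => M.ok (X i) (W i)

/-- check: relations -/
noncomputable def rels (D : PcD) (X : ℕ → ℕ) : Bool :=
  (allB D.n fun i => M.eqv (M.mul (X i) (X i)) (M.elc X D.n (D.rel i i))) &&
  (allB D.n fun j => allB j fun i => M.eqv (M.mul (X j) (X i)) (M.mul (X i) (M.elc X D.n (D.rel j i)))) &&
  D.zl.all fun z => M.neq (M.elc X D.n z) M.one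

/-- check: trivial core -/
noncomputable def cores (D : PcD) (X : ℕ → ℕ) (l : List CoreC) : Bool :=
  D.zl.all fun z => l.any fun e => Nat.beq e.z z && Nat.blt e.a (2 ^ D.n) && Nat.blt e.b (2 ^ D.n) &&
    !Nat.beq (D.mul e.a e.b) (D.mul e.b e.a) && M.ok e.ca e.wa && M.ok e.cb e.wb &&
    M.act D X e.ca z e.a && M.act D X e.cb z e.b

/-- derivation: a step `(a, b, c)` is the product `a * b` if `c = 0`, and the conjugate `b` of `a` by `c` otherwise -/
noncomputable def der (D : PcD) (X : ℕ → ℕ) (l : List (ℕ × ℕ × ℕ)) (K : ℕ) : ℕ :=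
  List.rec (fun K => K) (fun p _ r K => force K fun K =>
    r (bif tb K p.1 then
      bif Nat.beq p.2.2 0 then (bif tb K p.2.1 && Nat.blt p.1 (2 ^ D.n) then K ||| 2 ^ D.mul p.1 p.2.1 else K)
      else (bif M.ok p.2.2 0 && M.act D X p.2.2 p.1 p.2.1 then K ||| 2 ^ p.2.1 else K)
    else K)) l K

/-- check: trivial core, by a derivation -/
noncomputable def cores' (D : PcD) (X : ℕ → ℕ) (l : List (ℕ × ℕ × ℕ)) (e : List (ℕ × ℕ)) : Bool :=
  D.zl.all fun z => force (M.der D X l (2 ^ z)) fun K => e.any fun p => tb K p.1 && tb K p.2 &&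
    Nat.blt p.1 (2 ^ D.n) && Nat.blt p.2 (2 ^ D.n) && !Nat.beq (D.mul p.1 p.2) (D.mul p.2 p.1)

/-- check: products of two elements of odd order -/
noncomputable def ress (D : PcD) (X : ℕ → ℕ) (l : List ResC) : Bool :=
  l.all fun e => Nat.beq (e.m' % 2) 0 && Nat.beq (e.k % 2) 1 && M.ok e.c e.w &&
    force (M.pw e.c e.m') fun v => M.eqv (M.mul v e.c) M.one &&
      force (M.mul v (M.elc X D.n e.a)) fun v' => M.eqv (M.pw v' e.k) M.one

/-- check: two elements acting on an orbit -/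
noncomputable def pos (D : PcD) (X : ℕ → ℕ) (m A s₁ s₂ z c₁ w₁ c₂ w₂ : ℕ) : Bool :=
  M.ok c₁ w₁ && M.ok c₂ w₂ && M.actO D X c₁ m A s₁ && M.actO D X c₂ m A s₂ && M.act D X c₁ z z && M.act D X c₂ z z

/-- check: many conjugates -/
noncomputable def conjs (z m : ℕ) (C T : ℕ → ℕ) : Bool :=
  allB m fun k => M.ok (C k) 0 && M.ok (T k) 0 && M.eqv (M.mul (C k) z) (M.mul (T k) (C k)) &&
    allB k fun j => M.neq (T j) (T k)

variable {M}

theorem R_pw {c : ℕ} {g : G} (h : M.R c g) : ∀ m, M.R (M.pw c m) (g ^ m)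
  | 0 => by
    rw [pow_zero]
    exact M.R_one
  | m + 1 => by
    rw [pow_succ]
    exact M.R_mul (R_pw h m) h

theorem R_elc {X : ℕ → ℕ} {x : ℕ → G} (a : ℕ) : ∀ n, (∀ i, i < n → M.R (X i) (x i)) → M.R (M.elc X n a) (el x n a)
  | 0, _ => M.R_one
  | n + 1, h => by
    have h1 := R_elc a n fun i hi => h i (Nat.lt_succ_of_lt hi)
    have h2 : M.elc X (n + 1) a = bif tb a n then M.mul (M.elc X n a) (X n) else M.elc X n a := rfl
    rw [h2, el_succ]
    cases tb a n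
    · exact h1
    · exact M.R_mul h1 (h n (Nat.lt_succ_self _))

/-- The codes `X` stand for the generators `x`. -/
def RX (M : Mdl G) (D : PcD) (X : ℕ → ℕ) (x : ℕ → G) : Prop := ∀ i, i < D.n → M.R (X i) (x i)

variable {D : PcD} {X : ℕ → ℕ} {x : ℕ → G}

theorem exists_RX {W : ℕ → ℕ} (h : M.oks X W D.n = true) : ∃ x, M.RX D X x := by
  have h1 : ∀ i, ∃ g, i < D.n → M.R (X i) g := fun i => by
    by_cases hi : i < D.n
    · obtain ⟨g, hg⟩ := M.ex_of (allB_spec h hi)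
      exact ⟨g, fun _ => hg⟩
    · exact ⟨1, fun h2 => absurd h2 hi⟩
  choose x hx using h1
  exact ⟨x, hx⟩

theorem RX.el (hx : M.RX D X x) (a : ℕ) : M.R (M.elc X D.n a) (el x D.n a) := R_elc a _ hx

theorem RX.act (hx : M.RX D X x) {c a b : ℕ} {g : G} (hg : M.R c g) (h : M.act D X c a b = true) : Act D x g a b :=
  M.eq_of (M.R_mul hg (hx.el a)) (M.R_mul (hx.el b) hg) h

theorem RX.actO (hx : M.RX D X x) {c m A s : ℕ} {g : G} (hg : M.R c g) (h : M.actO D X c m A s = true) :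
    ActO D x g m A s := fun _ hk => hx.act hg (allB_spec h hk)

theorem RX.gen (hx : M.RX D X x) (hD : D.Ok) (h : M.rels D X = true) : ∃ S, Gen D S x := by
  unfold rels at h
  simp only [Bool.and_eq_true, List.all_eq_true] at h
  obtain ⟨⟨h1, h2⟩, h3⟩ := h
  have hR : Rel D x := ⟨fun i hi => M.eq_of (M.R_mul (hx i hi) (hx i hi)) (hx.el _) (allB_spec h1 hi),
    fun i j hij hj => M.eq_of (M.R_mul (hx j hj) (hx i (hij.trans hj))) (M.R_mul (hx i (hij.trans hj)) (hx.el _))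
      (allB_spec (allB_spec h2 hj) hij)⟩
  exact ⟨_, hR.gen hD fun z hz => M.ne_of (hx.el z) M.R_one (h3 z hz)⟩

theorem RX.cores (hx : M.RX D X x) {l : List CoreC} (h : M.cores D X l = true) :
    ∀ z ∈ D.zl, ∃ a b, a < D.N ∧ b < D.N ∧ IsConj (Real.el x D.n z) (Real.el x D.n a) ∧
      IsConj (Real.el x D.n z) (Real.el x D.n b) ∧ D.mul a b ≠ D.mul b a := by
  intro z hz
  unfold Mdl.cores at h
  rw [List.all_eq_true] at h
  have h1 := h z hz
  simp only [List.any_eq_true, Bool.and_eq_true] at h1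
  obtain ⟨e, -, ⟨⟨⟨⟨⟨⟨-, h2⟩, h3⟩, h4⟩, h5⟩, h6⟩, h7⟩, h8⟩ := h1
  obtain ⟨g, hg⟩ := M.ex_of h5
  obtain ⟨k, hk⟩ := M.ex_of h6
  exact ⟨e.a, e.b, blt_lt h2, blt_lt h3, (hx.act hg h7).isConj, (hx.act hk h8).isConj, nbeq_ne h4⟩

theorem tb_or_two_pow {K a b : ℕ} (h : tb (K ||| 2 ^ b) a = true) : tb K a = true ∨ b = a := by
  rwa [tb_eq, Nat.testBit_or, Bool.or_eq_true, Nat.testBit_two_pow, decide_eq_true_eq, ← tb_eq] at h

theorem RX.der (hx : M.RX D X x) {S : Subgroup G} (H : Gen D S x) {Q : Subgroup G}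
    (hQ : ∀ a b, Real.el x D.n a ∈ Q → IsConj (Real.el x D.n a) (Real.el x D.n b) → Real.el x D.n b ∈ Q)
    (l : List (ℕ × ℕ × ℕ)) : ∀ K : ℕ, (∀ a, tb K a = true → Real.el x D.n a ∈ Q) →
      ∀ a, tb (M.der D X l K) a = true → Real.el x D.n a ∈ Q := by
  induction l with
  | nil => exact fun K h => h
  | cons p l ih =>
    intro K h
    have h1 : M.der D X (p :: l) K = force K fun K => M.der D X l (bif tb K p.1 then
      bif Nat.beq p.2.2 0 then (bif tb K p.2.1 && Nat.blt p.1 (2 ^ D.n) then K ||| 2 ^ D.mul p.1 p.2.1 else K)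
      else (bif M.ok p.2.2 0 && M.act D X p.2.2 p.1 p.2.1 then K ||| 2 ^ p.2.1 else K)
      else K) := rfl
    rw [h1, force_eq]
    refine ih _ ?_
    cases h2 : tb K p.1
    · exact h
    cases Nat.beq p.2.2 0
    · cases h3 : (M.ok p.2.2 0 && M.act D X p.2.2 p.1 p.2.1)
      · exact h
      · intro a ha
        rw [Bool.and_eq_true] at h3
        obtain ⟨g, hg⟩ := M.ex_of h3.1
        rcases tb_or_two_pow ha with ha | rfl
        · exact h a ha
        · exact hQ _ _ (h _ h2) (hx.act hg h3.2).isConj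
    · cases h3 : (tb K p.2.1 && Nat.blt p.1 (2 ^ D.n))
      · exact h
      · intro a ha
        rw [Bool.and_eq_true] at h3
        rcases tb_or_two_pow ha with ha | rfl
        · exact h a ha
        · rw [← H.mul (blt_lt h3.2)]
          exact Q.mul_mem (h _ h2) (h _ h3.1)

theorem RX.ress (hx : M.RX D X x) {l : List ResC} (h : M.ress D X l = true) :
    ∀ a ∈ l.map ResC.a, Real.el x D.n a ∈ pResidual 2 G := by
  intro a ha
  obtain ⟨e, he, rfl⟩ := List.mem_map.1 ha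
  unfold Mdl.ress at h
  rw [List.all_eq_true] at h
  have h1 := h e he
  simp only [force_eq, Bool.and_eq_true] at h1
  obtain ⟨⟨⟨h2, h3⟩, h4⟩, h5, h6⟩ := h1
  obtain ⟨g, hg⟩ := M.ex_of h4
  have h7 : g ^ e.m' * g = 1 := M.eq_of (M.R_mul (R_pw hg _) hg) M.R_one h5
  have h8 : (g ^ e.m' * Real.el x D.n e.a) ^ e.k = 1 := M.eq_of (R_pw (M.R_mul (R_pw hg _) (hx.el _)) _) M.R_one h6
  have h9 : Real.el x D.n e.a = g * (g ^ e.m' * Real.el x D.n e.a) := by
    rw [← mul_assoc, ← pow_succ', pow_succ, h7, one_mul]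
  rw [h9]
  refine Subgroup.mul_mem _ (mem_pResidual_of_pow (m := e.m' + 1) ?_ (by rw [pow_succ, h7]))
    (mem_pResidual_of_pow (beq_eq h3) h8)
  have := beq_eq h2
  omega

theorem RX.pos (hx : M.RX D X x) {m A s₁ s₂ z : ℕ} (c₁ w₁ c₂ w₂ : ℕ) (h : M.pos D X m A s₁ s₂ z c₁ w₁ c₂ w₂ = true) :
    Pos D x m A s₁ s₂ z := by
  unfold Mdl.pos at h
  simp only [Bool.and_eq_true] at h
  obtain ⟨⟨⟨⟨⟨h1, h2⟩, h3⟩, h4⟩, h5⟩, h6⟩ := h
  obtain ⟨g₁, k₁⟩ := M.ex_of h1
  obtain ⟨g₂, k₂⟩ := M.ex_of h2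
  exact ⟨g₁, g₂, hx.actO k₁ h3, hx.actO k₂ h4, hx.act k₁ h5, hx.act k₂ h6⟩

/-- **Realisation from certificates.** -/
theorem RX.rz [Finite G] (hx : M.RX D X x) (hD : D.Ok) {m : ℕ} (hm : Nat.card G = 2 ^ D.n * m) (ho : ¬ 2 ∣ m)
    (h1 : M.rels D X = true) {lc : List CoreC} (h2 : M.cores D X lc = true) {lr : List ResC}
    (h3 : M.ress D X lr = true) {l : List (ℕ × ℕ)} (h4 : D.gens (lr.map ResC.a) l = true) : Rz D G x := by
  obtain ⟨S, H⟩ := hx.gen hD h1
  exact rz_of H hm ho (hx.cores h2) fun i hi => H.gens h4 (hx.ress h3) hi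

theorem RX.rz' [Finite G] (hx : M.RX D X x) (hD : D.Ok) {m : ℕ} (hm : Nat.card G = 2 ^ D.n * m) (ho : ¬ 2 ∣ m)
    (h1 : M.rels D X = true) {lc : List (ℕ × ℕ × ℕ)} {e : List (ℕ × ℕ)} (h2 : M.cores' D X lc e = true)
    {lr : List ResC} (h3 : M.ress D X lr = true) {l : List (ℕ × ℕ)} (h4 : D.gens (lr.map ResC.a) l = true) :
    Rz D G x := by
  obtain ⟨S, H⟩ := hx.gen hD h1
  refine rz_of' H hm ho (fun z hz Q hQ hzQ => ?_) fun i hi => H.gens h4 (hx.ress h3) hi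
  unfold cores' at h2
  have h5 := List.all_eq_true.1 h2 z hz
  simp only [force_eq, List.any_eq_true, Bool.and_eq_true] at h5
  obtain ⟨p, -, ⟨⟨⟨h6, h7⟩, h8⟩, h9⟩, h10⟩ := h5
  have h11 := hx.der H hQ lc (2 ^ z) fun a ha => by
    rw [tb_eq, Nat.testBit_two_pow, decide_eq_true_eq] at ha
    rw [← ha]
    exact hzQ
  exact ⟨p.1, p.2, blt_lt h8, blt_lt h9, h11 _ h6, h11 _ h7, nbeq_ne h10⟩

theorem conjs_le [Finite G] {z m : ℕ} {C T : ℕ → ℕ} {g : G} (hg : M.R z g) (h : M.conjs z m C T = true) :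
    m * Nat.card (Subgroup.centralizer {g} : Subgroup G) ≤ Nat.card G := by
  have h1 : ∀ k, k < m → M.ok (C k) 0 = true ∧ M.ok (T k) 0 = true ∧
      M.eqv (M.mul (C k) z) (M.mul (T k) (C k)) = true ∧ ∀ j, j < k → M.neq (T j) (T k) = true := by
    intro k hk
    have h2 := allB_spec h hk
    simp only [Bool.and_eq_true] at h2
    exact ⟨h2.1.1.1, h2.1.1.2, h2.1.2, fun j hj => allB_spec h2.2 hj⟩
  have h2 : ∀ k, ∃ t, k < m → M.R (T k) t := fun k => by
    by_cases hk : k < m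
    · obtain ⟨t, ht⟩ := M.ex_of (h1 k hk).2.1
      exact ⟨t, fun _ => ht⟩
    · exact ⟨1, fun h2 => absurd h2 hk⟩
  choose t ht using h2
  refine conj_mul_le (t := t) (fun j k hj hk => M.ne_of (ht j (hj.trans hk)) (ht k hk) ((h1 k hk).2.2.2 j hj))
    fun k hk => ?_
  obtain ⟨c, hc⟩ := M.ex_of (h1 k hk).1
  refine isConj_iff.2 ⟨c, ?_⟩
  rw [M.eq_of (M.R_mul hc hg) (M.R_mul (ht k hk) hc) (h1 k hk).2.2.1, mul_inv_cancel_right]

/-! ### products -/

/-- The codes of products have at most `W` bits. -/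
def Bd (M : Mdl G) (W : ℕ) : Prop := M.one < 2 ^ W ∧ ∀ a b, M.mul a b < 2 ^ W

theorem pair_mod {W a : ℕ} (h : a < 2 ^ W) (b : ℕ) : (a + 2 ^ W * b) % 2 ^ W = a := by
  rw [Nat.add_mul_mod_self_left, Nat.mod_eq_of_lt h]

theorem pair_div {W a : ℕ} (h : a < 2 ^ W) (b : ℕ) : (a + 2 ^ W * b) >>> W = b := by
  rw [Nat.shiftRight_eq_div_pow, Nat.add_mul_div_left _ _ (Nat.two_pow_pos W), Nat.div_eq_of_lt h, Nat.zero_add]

/-- The model of a direct product: the first component takes the `W` low bits. -/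
noncomputable def prod {G₁ G₂ : Type} [Group G₁] [Group G₂] (M₁ : Mdl G₁) (M₂ : Mdl G₂) (W : ℕ) (hW : M₁.Bd W) :
    Mdl (G₁ × G₂) where
  R c g := M₁.R (c % 2 ^ W) g.1 ∧ M₂.R (c >>> W) g.2
  mul c d := force c fun c => force d fun d => M₁.mul (c % 2 ^ W) (d % 2 ^ W) + 2 ^ W * M₂.mul (c >>> W) (d >>> W)
  one := M₁.one + 2 ^ W * M₂.one
  eqv c d := force c fun c => force d fun d => M₁.eqv (c % 2 ^ W) (d % 2 ^ W) && M₂.eqv (c >>> W) (d >>> W)
  neq c d := force c fun c => force d fun d => M₁.neq (c % 2 ^ W) (d % 2 ^ W) || M₂.neq (c >>> W) (d >>> W)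
  ok c w := M₁.ok (c % 2 ^ W) (w % 2 ^ W) && M₂.ok (c >>> W) (w >>> W)
  R_one := by
    rw [pair_mod hW.1, pair_div hW.1]
    exact ⟨M₁.R_one, M₂.R_one⟩
  R_mul := by
    intro a b g h ha hb
    rw [force_eq, force_eq, pair_mod (hW.2 _ _), pair_div (hW.2 _ _)]
    exact ⟨M₁.R_mul ha.1 hb.1, M₂.R_mul ha.2 hb.2⟩
  eq_of := by
    intro a b g h ha hb he
    rw [force_eq, force_eq, Bool.and_eq_true] at he
    exact Prod.ext (M₁.eq_of ha.1 hb.1 he.1) (M₂.eq_of ha.2 hb.2 he.2)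
  ne_of := by
    intro a b g h ha hb he hgh
    rw [force_eq, force_eq, Bool.or_eq_true] at he
    rcases he with he | he
    · exact M₁.ne_of ha.1 hb.1 he (congrArg Prod.fst hgh)
    · exact M₂.ne_of ha.2 hb.2 he (congrArg Prod.snd hgh)
  ex_of := by
    intro a w h
    rw [Bool.and_eq_true] at h
    obtain ⟨g, hg⟩ := M₁.ex_of h.1
    obtain ⟨k, hk⟩ := M₂.ex_of h.2
    exact ⟨(g, k), hg, hk⟩

end Mdl

/-! ### central quotients -/

/-- A central element `ζ` of order `2 ^ (e + 1)` with the code `c`. -/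
structure CZ {G : Type} [Group G] (M : Mdl G) (c e : ℕ) where
  /-- the element -/
  ζ : G
  comm : ∀ g, ζ * g = g * ζ
  R : M.R c ζ
  pow : ζ ^ 2 ^ (e + 1) = 1
  ne : ζ ^ 2 ^ e ≠ 1

namespace CZ

variable {G : Type} [Group G] {M : Mdl G} {c e : ℕ} (Z : CZ M c e)

/-- the central subgroup -/
def sub : Subgroup G := Subgroup.zpowers Z.ζ

instance normal : Z.sub.Normal := ⟨by
  rintro _ ⟨k, rfl⟩ g
  have h : Commute Z.ζ g := Z.comm g
  show g * Z.ζ ^ k * g⁻¹ ∈ Z.sub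
  rw [← (h.zpow_left k).eq, mul_inv_cancel_right]
  exact ⟨k, rfl⟩⟩

theorem orderOf_eq : orderOf Z.ζ = 2 ^ (e + 1) :=
  haveI : Fact (Nat.Prime 2) := ⟨Nat.prime_two⟩
  orderOf_eq_prime_pow Z.ne Z.pow

theorem card : Nat.card (G ⧸ Z.sub) * 2 ^ (e + 1) = Nat.card G := by
  rw [Subgroup.card_eq_card_quotient_mul_card_subgroup Z.sub, ← Z.orderOf_eq, ← Nat.card_zpowers]
  rfl

theorem mk_pow_mul (k : ℕ) (g : G) : ((Z.ζ ^ k * g : G) : G ⧸ Z.sub) = g := by
  have h : ((Z.ζ ^ k : G) : G ⧸ Z.sub) = 1 :=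
    (QuotientGroup.eq_one_iff _).2 (Subgroup.pow_mem _ (Subgroup.mem_zpowers _) k)
  rw [QuotientGroup.mk_mul, h, one_mul]

theorem exists_pow {g h : G} (H : (g : G ⧸ Z.sub) = h) : ∃ k, k < 2 ^ (e + 1) ∧ g = Z.ζ ^ k * h := by
  have h1 : g * h⁻¹ ∈ Z.sub := by
    rw [← QuotientGroup.eq_one_iff, QuotientGroup.mk_mul, QuotientGroup.mk_inv, H, mul_inv_cancel]
  have h2 : IsOfFinOrder Z.ζ := by
    rw [← orderOf_pos_iff, Z.orderOf_eq]
    exact Nat.two_pow_pos _
  obtain ⟨k, hk⟩ := (h2.mem_powers_iff_mem_zpowers).2 h1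
  have hk' : Z.ζ ^ k = g * h⁻¹ := hk
  refine ⟨k % 2 ^ (e + 1), Nat.mod_lt _ (Nat.two_pow_pos _), ?_⟩
  rw [← Z.orderOf_eq, pow_mod_orderOf, hk', inv_mul_cancel_right]

/-- The model of the quotient. -/
noncomputable def mdl : Mdl (G ⧸ Z.sub) where
  R a g := ∃ h : G, M.R a h ∧ (h : G ⧸ Z.sub) = g
  mul := M.mul
  one := M.one
  eqv a b := force a fun a => force b fun b => anyB (2 ^ (e + 1)) fun k => M.eqv a (M.mul (M.pw c k) b)
  neq a b := force a fun a => force b fun b => allB (2 ^ (e + 1)) fun k => M.neq a (M.mul (M.pw c k) b)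
  ok := M.ok
  R_one := ⟨1, M.R_one, rfl⟩
  R_mul := by
    rintro a b _ _ ⟨g, hg, rfl⟩ ⟨h, hh, rfl⟩
    exact ⟨g * h, M.R_mul hg hh, rfl⟩
  eq_of := by
    rintro a b _ _ ⟨g, hg, rfl⟩ ⟨h, hh, rfl⟩ he
    rw [force_eq, force_eq] at he
    obtain ⟨k, -, hk⟩ := anyB_spec he
    rw [M.eq_of hg (M.R_mul (Mdl.R_pw Z.R k) hh) hk, Z.mk_pow_mul]
  ne_of := by
    rintro a b _ _ ⟨g, hg, rfl⟩ ⟨h, hh, rfl⟩ he hgh
    rw [force_eq, force_eq] at he
    obtain ⟨k, hk, h1⟩ := Z.exists_pow hgh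
    exact M.ne_of hg (M.R_mul (Mdl.R_pw Z.R k) hh) (allB_spec he hk) h1
  ex_of := by
    intro a w h
    obtain ⟨g, hg⟩ := M.ex_of h
    exact ⟨g, g, hg, rfl⟩

theorem bd {W : ℕ} (h : M.Bd W) : Z.mdl.Bd W := h

theorem card_eq {N m : ℕ} (h : Nat.card G = N) (hm : N = m * 2 ^ (e + 1)) : Nat.card (G ⧸ Z.sub) = m := by
  have h1 := Z.card
  rw [h, hm] at h1
  exact Nat.eq_of_mul_eq_mul_right (Nat.two_pow_pos _) h1

end CZ

/-- The central element from a check. -/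
noncomputable def Mdl.cz {G : Type} [Group G] (M : Mdl G) (c e : ℕ) (hc : ∀ g, M.R c g → ∀ h, g * h = h * g)
    (h : (M.ok c 0 && M.eqv (M.pw c (2 ^ (e + 1))) M.one && M.neq (M.pw c (2 ^ e)) M.one) = true) : CZ M c e :=
  have h1 : M.ok c 0 = true ∧ M.eqv (M.pw c (2 ^ (e + 1))) M.one = true ∧ M.neq (M.pw c (2 ^ e)) M.one = true := by
    simp only [Bool.and_eq_true] at h
    exact ⟨h.1.1, h.1.2, h.2⟩
  have h2 := Classical.choose_spec (M.ex_of h1.1)
  ⟨Classical.choose (M.ex_of h1.1), hc _ h2, h2, M.eq_of (Mdl.R_pw h2 _) M.R_one h1.2.1,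
    M.ne_of (Mdl.R_pw h2 _) M.R_one h1.2.2⟩

end Cfsg.Agent.FS.Real
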