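import Cfsg.Agent.FS.Real.Mat

/-!
# Permutation models (helper83, project FS, part C)
-/

set_option autoImplicit false

namespace Cfsg.Agent.FS.Real

/-- composition of packed maps -/
noncomputable def pmul (w n a b : ℕ) : ℕ := force a fun a => force b fun b => pack w n fun k => get w a (get w b k)

/-- the identity -/
noncomputable def pone (w n : ℕ) : ℕ := pack w n fun k => k % 2 ^ w

/-- inequality -/
noncomputable def pne (w n a b : ℕ) : Bool :=
  force a fun a => force b fun b => anyB n fun k => !Nat.beq (get w a k) (get w b k)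

theorem get_pmul {w n k : ℕ} (a b : ℕ) (hk : k < n) : get w (pmul w n a b) k = get w a (get w b k) := by
  unfold pmul
  rw [force_eq, force_eq, get_pack (fun _ => get_lt _ _ _) _ hk]

theorem get_pone {w n k : ℕ} (hn : n ≤ 2 ^ w) (hk : k < n) : get w (pone w n) k = k := by
  unfold pone
  rw [get_pack (fun _ => Nat.mod_lt _ (Nat.two_pow_pos _)) _ hk, Nat.mod_eq_of_lt (hk.trans_le hn)]

/-- The model of a group of permutations of `ι`, the points being numbered by `idx`. -/
noncomputable def pmdl {ι : Type} (w n : ℕ) (hn : n ≤ 2 ^ w) (idx : ι → ℕ) (hlt : ∀ p, idx p < n)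
    (hinj : Function.Injective idx) (hsurj : ∀ k, k < n → ∃ p, idx p = k) {G : Type} [Group G]
    (φ : G →* Equiv.Perm ι) (hφ : Function.Injective φ) (ok : ℕ → ℕ → Bool)
    (hok : ∀ a v, ok a v = true → ∃ g, ∀ p, idx (φ g p) = get w a (idx p)) : Mdl G where
  R c g := ∀ p, idx (φ g p) = get w c (idx p)
  mul := pmul w n
  one := pone w n
  eqv := Nat.beq
  neq := pne w n
  ok := ok
  R_one := fun p => by
    rw [map_one, get_pone hn (hlt p)]
    rfl
  R_mul := by
    intro a b g h ha hb p
    rw [map_mul, Equiv.Perm.mul_apply, ha, hb, get_pmul _ _ (hlt p)]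
  eq_of := by
    intro a b g h ha hb he
    refine hφ (Equiv.ext fun p => hinj ?_)
    rw [ha, hb, beq_eq he]
  ne_of := by
    intro a b g h ha hb he hgh
    unfold pne at he
    rw [force_eq, force_eq] at he
    obtain ⟨k, hk, h1⟩ := anyB_spec he
    obtain ⟨p, rfl⟩ := hsurj k hk
    exact nbeq_ne h1 (by rw [← ha, ← hb, hgh])
  ex_of := fun h => hok _ _ h

/-- check: a permutation -/
noncomputable def pok (w n a : ℕ) : Bool :=
  force a fun a => allB n fun k => Nat.blt (get w a k) n && allB k fun j => !Nat.beq (get w a j) (get w a k)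

theorem exists_perm {w n a : ℕ} (h : pok w n a = true) :
    ∃ g : Equiv.Perm (Fin n), ∀ p, ((g p : Fin n) : ℕ) = get w a p := by
  unfold pok at h
  rw [force_eq] at h
  have h1 : ∀ k, k < n → get w a k < n ∧ ∀ j, j < k → get w a j ≠ get w a k := by
    intro k hk
    have h2 := allB_spec h hk
    rw [Bool.and_eq_true] at h2
    exact ⟨blt_lt h2.1, fun j hj => nbeq_ne (allB_spec h2.2 hj)⟩
  let f : Fin n → Fin n := fun p => ⟨get w a p, (h1 p p.2).1⟩
  have hf : Function.Injective f := by
    intro p q hpq
    have h2 : get w a p = get w a q := congrArg Fin.val hpq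
    rcases lt_trichotomy (p : ℕ) q with h3 | h3 | h3
    · exact absurd h2 ((h1 q q.2).2 p h3)
    · exact Fin.ext h3
    · exact absurd h2.symm ((h1 p p.2).2 q h3)
  exact ⟨Equiv.ofBijective f (Finite.injective_iff_bijective.1 hf), fun _ => rfl⟩

/-- The model of the symmetric group. -/
noncomputable def mSym (w n : ℕ) (hn : n ≤ 2 ^ w) : Mdl (Equiv.Perm (Fin n)) :=
  pmdl w n hn Fin.val (fun p => p.2) Fin.val_injective (fun k hk => ⟨⟨k, hk⟩, rfl⟩) (MonoidHom.id _)
    Function.injective_id (fun a _ => pok w n a) fun _ _ h => exists_perm h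

/-- The model of the alternating group; the witness writes the element as a product of two squares. -/
noncomputable def mAlt (w n : ℕ) (hn : n ≤ 2 ^ w) : Mdl (alternatingGroup (Fin n)) :=
  pmdl w n hn Fin.val (fun p => p.2) Fin.val_injective (fun k hk => ⟨⟨k, hk⟩, rfl⟩) (Subgroup.subtype _)
    Subtype.val_injective (fun a v => force (get (w * n) v 0) fun b => force (get (w * n) v 1) fun c =>
      pok w n b && pok w n c && Nat.beq a (pmul w n (pmul w n b b) (pmul w n c c))) fun a v h => by
      rw [force_eq, force_eq, Bool.and_eq_true, Bool.and_eq_true] at h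
      obtain ⟨b, hb⟩ := exists_perm h.1.1
      obtain ⟨c, hc⟩ := exists_perm h.1.2
      refine ⟨⟨b * b * (c * c), ?_⟩, fun p => ?_⟩
      · rw [Equiv.Perm.mem_alternatingGroup, map_mul, map_mul, map_mul, Int.units_mul_self, Int.units_mul_self,
          one_mul]
      · have h1 := (mSym w n hn).R_mul ((mSym w n hn).R_mul (g := b) (h := b) hb hb)
          ((mSym w n hn).R_mul (g := c) (h := c) hc hc) p
        rw [beq_eq h.2]
        exact h1

theorem card_A10 : Nat.card (alternatingGroup (Fin 10)) = 1814400 := by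
  rw [nat_card_alternatingGroup, Nat.card_fin]
  rfl

/-- The centralizer in `A₁₀` of an involution with at most two fixed points. -/
theorem cent_A10 {t : alternatingGroup (Fin 10)} (h2 : t * t = 1)
    (h : ∀ p : Fin 10, (p : ℕ) < 8 → (t : Equiv.Perm (Fin 10)) p ≠ p) :
    ¬ 9 ∣ Nat.card (Subgroup.centralizer {t} : Subgroup (alternatingGroup (Fin 10))) := by
  intro h9
  have : Fact (Nat.Prime 2) := ⟨Nat.prime_two⟩
  have h1 : Nat.card (Subgroup.centralizer {t} : Subgroup (alternatingGroup (Fin 10))) ∣
      Nat.card (Subgroup.centralizer {(t : Equiv.Perm (Fin 10))} : Subgroup (Equiv.Perm (Fin 10))) := by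
    rw [← Subgroup.card_map_of_injective (f := (alternatingGroup (Fin 10)).subtype) Subtype.val_injective]
    refine Subgroup.card_dvd_of_le ?_
    rintro _ ⟨g, hg, rfl⟩
    rw [SetLike.mem_coe, Subgroup.mem_centralizer_singleton_iff] at hg
    exact Subgroup.mem_centralizer_singleton_iff.2 (congrArg Subtype.val hg)
  have h3 : (t : Equiv.Perm (Fin 10)) ^ 2 = 1 := by
    rw [pow_two]
    exact congrArg Subtype.val h2
  have h4 := Equiv.Perm.cycleType_of_pow_prime_eq_one h3
  have h5 := (t : Equiv.Perm (Fin 10)).sum_cycleType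
  have h6 : 8 ≤ (t : Equiv.Perm (Fin 10)).support.card := by
    have h7 : (Finset.univ.filter fun p : Fin 10 => (p : ℕ) < 8) ⊆ (t : Equiv.Perm (Fin 10)).support :=
      fun p hp => Equiv.Perm.mem_support.2 (h p (Finset.mem_filter.1 hp).2)
    exact (show 8 ≤ (Finset.univ.filter fun p : Fin 10 => (p : ℕ) < 8).card by decide).trans (Finset.card_le_card h7)
  have h7 : (t : Equiv.Perm (Fin 10)).support.card ≤ 10 := by
    have := Finset.card_le_univ (t : Equiv.Perm (Fin 10)).support
    rwa [Fintype.card_fin] at this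
  have h8 := h9.trans h1
  rw [Equiv.Perm.nat_card_centralizer, h4] at h8
  rw [h4, Multiset.sum_replicate, smul_eq_mul] at h5
  generalize (t : Equiv.Perm (Fin 10)).cycleType.card = k at h5 h8
  have h10 : k = 4 ∨ k = 5 := by omega
  rcases h10 with rfl | rfl <;> revert h8 <;> decide

end Cfsg.Agent.FS.Real
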