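import Cfsg.Agent.FS.Real.Pc
import Cfsg.Agent.FS.Th.Trans
import Cfsg.Agent.H781.Transport
import Cfsg.Agent.S5076
import Cfsg.Agent.S5089
import Cfsg.Agent.S5093

/-!
# Realisations, twisting, the pigeonhole glue (helper83, project FS, part C)

* `Rz D G x`: `x` generates a Sylow 2-subgroup `T` of the finite group `G` with the presentation `D`, and `F_T(G)` has (H).
* `Tw F F'`: the two systems over `⊤` differ by an automorphism.
* `Models D k`: over every group with the presentation `D` there are `k` realizable systems with (H), no two twisted.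
* `Models.realizable`: if the systems with (H) have at most `k` types, all of them are realizable.
-/

set_option autoImplicit false

namespace Cfsg.Agent.FS.Real

open Cfsg Cfsg.FusionSystem Cfsg.Agent.H752 Cfsg.Agent.H759 Cfsg.Agent.FS.Th

universe u

section tw

variable {A : Type u} [Group A]

/-- The two systems differ by an automorphism. -/
def Tw (F F' : FusionSystem (⊤ : Subgroup A)) : Prop :=
  ∃ θ : MulAut A, ∀ (P : Subgroup A) (a b : A → A), (∀ x ∈ P, b (θ x) = θ (a x)) →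
    (Mp F' (P.map θ.toMonoidHom) b ↔ Mp F P a)

/-- The maps of `F` are those induced by `G` along `f`. -/
def Ind (F : FusionSystem (⊤ : Subgroup A)) {G : Type*} [Group G] (f : A →* G) : Prop :=
  ∀ (P : Subgroup A) (a : A → A), Mp F P a ↔ ∃ g : G, ∀ x ∈ P, f (a x) = g * f x * g⁻¹

theorem Tw.symm {F F' : FusionSystem (⊤ : Subgroup A)} (h : Tw F F') : Tw F' F := by
  obtain ⟨θ, h⟩ := h
  refine ⟨θ⁻¹, fun P a b hab => ?_⟩
  have hP : (P.map (θ⁻¹ : MulAut A).toMonoidHom).map θ.toMonoidHom = P := by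
    rw [Subgroup.map_map]
    have : θ.toMonoidHom.comp (θ⁻¹ : MulAut A).toMonoidHom = MonoidHom.id _ := by
      ext x
      show θ (θ⁻¹ x) = x
      exact MulAut.apply_inv_self _ _ _
    rw [this, Subgroup.map_id]
  have h1 := h (P.map (θ⁻¹ : MulAut A).toMonoidHom) b a (by
    rintro _ ⟨x, hx, rfl⟩
    show a (θ (θ⁻¹ x)) = θ (b (θ⁻¹ x))
    rw [hab x hx, MulAut.apply_inv_self, MulAut.apply_inv_self])
  rw [hP] at h1
  exact h1.symm

theorem Tw.refl (F : FusionSystem (⊤ : Subgroup A)) : Tw F F := by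
  refine ⟨1, fun P a b hab => ?_⟩
  have hP : P.map (1 : MulAut A).toMonoidHom = P := Subgroup.map_id P
  rw [hP]
  exact ⟨fun h => h.congr fun x hx => (hab x hx).symm, fun h => h.congr fun x hx => hab x hx⟩

theorem Tw.trans {F F' F'' : FusionSystem (⊤ : Subgroup A)} (h : Tw F F') (h' : Tw F' F'') : Tw F F'' := by
  obtain ⟨θ, h⟩ := h
  obtain ⟨η, h'⟩ := h'
  refine ⟨η * θ, fun P a b hab => ?_⟩
  have hP : P.map (η * θ : MulAut A).toMonoidHom = (P.map θ.toMonoidHom).map η.toMonoidHom := by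
    rw [Subgroup.map_map]
    rfl
  rw [hP, h' _ (fun y => θ (a (θ⁻¹ y))) b (by
    rintro _ ⟨x, hx, rfl⟩
    show b (η (θ x)) = η (θ (a (θ⁻¹ (θ x))))
    rw [MulAut.inv_apply_self]
    exact hab x hx)]
  refine h P a _ fun x _ => ?_
  show θ (a (θ⁻¹ (θ x))) = _
  rw [MulAut.inv_apply_self]

theorem Tw.ind {F F' : FusionSystem (⊤ : Subgroup A)} (h : Tw F F') {G : Type*} [Group G] {f : A →* G}
    (hf : Ind F' f) : ∃ θ : MulAut A, Ind F (f.comp θ.toMonoidHom) := by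
  obtain ⟨θ, h⟩ := h
  refine ⟨θ, fun P a => ?_⟩
  rw [← h P a (fun y => θ (a (θ⁻¹ y))) (fun x _ => by
    show θ (a (θ⁻¹ (θ x))) = _
    rw [MulAut.inv_apply_self]), hf]
  refine exists_congr fun g => ⟨fun k x hx => ?_, ?_⟩
  · have h1 := k (θ x) ⟨x, hx, rfl⟩
    rw [MulAut.inv_apply_self] at h1
    exact h1
  · rintro k _ ⟨x, hx, rfl⟩
    show f (θ (a (θ⁻¹ (θ x)))) = _
    rw [MulAut.inv_apply_self]
    exact k x hx

theorem Ind.isRealizable {F : FusionSystem (⊤ : Subgroup A)} {G : Type*} [Group G] [Finite G] {f : A →* G}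
    (h : Ind F f) (hf : Function.Injective f) (T : Sylow 2 G) (hT : (T : Subgroup G) = f.range) :
    F.IsRealizable 2 := by
  refine H781.isRealizable_of_isRealizedBy (ι := f.comp (Subgroup.subtype ⊤))
    ⟨hf.comp (Subgroup.subtype_injective _), fun P _ φ _ => ?_⟩ T ?_
  · have h1 := h P (ex φ)
    constructor
    · intro hφ
      obtain ⟨g, hg⟩ := h1.1 (mp_ex hφ)
      refine ⟨g, fun x => ?_⟩
      have h2 := hg x x.2
      rw [ex_coe] at h2
      exact h2
    · rintro ⟨g, hg⟩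
      refine (h1.2 ⟨g, fun x hx => ?_⟩).mem_hom fun x hx => (ex_apply _ hx).symm
      rw [ex_apply _ hx]
      exact hg ⟨x, hx⟩
  · rw [hT]
    ext y
    exact ⟨fun ⟨x, hx⟩ => ⟨⟨x, Subgroup.mem_top x⟩, hx⟩, fun ⟨x, hx⟩ => ⟨x, hx⟩⟩

theorem ind_of_isRealizable {F : FusionSystem (⊤ : Subgroup A)} (h : F.IsRealizable 2) :
    ∃ (G : Type u) (_ : Group G) (_ : Finite G) (f : A →* G) (T : Sylow 2 G),
      Ind F f ∧ Function.Injective f ∧ (T : Subgroup G) = f.range := by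
  obtain ⟨G, _, _, ι, ⟨hι, hm⟩, T, hT⟩ := h
  refine ⟨G, inferInstance, inferInstance, ι.comp (Subgroup.topEquiv (G := A)).symm.toMonoidHom, T, fun P a => ⟨?_, ?_⟩,
    fun x y hxy => congrArg Subtype.val (@hι ⟨x, Subgroup.mem_top x⟩ ⟨y, Subgroup.mem_top y⟩ hxy), ?_⟩
  · rintro ⟨φ, hφ, h1⟩
    obtain ⟨g, hg⟩ := (hm P le_top φ fun _ => Subgroup.mem_top _).1 hφ
    refine ⟨g, fun x hx => ?_⟩
    rw [← h1 x hx]
    exact hg ⟨x, hx⟩
  · rintro ⟨g, hg⟩
    have hg' : ∀ x ∈ P, ι ⟨a x, Subgroup.mem_top _⟩ = g * ι ⟨x, Subgroup.mem_top _⟩ * g⁻¹ := hg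
    let φ : P →* A := MonoidHom.mk' (fun x => a x) fun x y => by
      have h2 : ι ⟨a (x * y : P), Subgroup.mem_top _⟩ =
          ι (⟨a x, Subgroup.mem_top _⟩ * ⟨a y, Subgroup.mem_top _⟩) := by
        have h3 : (⟨((x * y : P) : A), Subgroup.mem_top _⟩ : (⊤ : Subgroup A)) =
            ⟨x, Subgroup.mem_top _⟩ * ⟨y, Subgroup.mem_top _⟩ := rfl
        rw [map_mul, hg' _ (x * y).2, hg' _ x.2, hg' _ y.2, h3, map_mul]
        group
      exact congrArg Subtype.val (hι h2)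
    exact ⟨φ, (hm P le_top φ fun _ => Subgroup.mem_top _).2 ⟨g, fun x => hg' x x.2⟩, fun _ _ => rfl⟩
  · rw [hT]
    ext y
    exact ⟨fun ⟨x, hx⟩ => ⟨x, hx⟩, fun ⟨x, hx⟩ => ⟨_, hx⟩⟩

theorem range_comp_aut {G : Type*} [Group G] (f : A →* G) (θ : MulAut A) : (f.comp θ.toMonoidHom).range = f.range := by
  ext y
  refine ⟨fun ⟨x, hx⟩ => ⟨θ x, hx⟩, fun ⟨x, hx⟩ => ⟨θ⁻¹ x, ?_⟩⟩
  show f (θ (θ⁻¹ x)) = y
  rw [MulAut.apply_inv_self, hx]

theorem Tw.isRealizable {F F' : FusionSystem (⊤ : Subgroup A)} (h : Tw F F') (hr : F'.IsRealizable 2) :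
    F.IsRealizable 2 := by
  obtain ⟨G, _, _, f, T, h1, h2, h3⟩ := ind_of_isRealizable hr
  obtain ⟨θ, h4⟩ := h.ind h1
  exact h4.isRealizable (h2.comp θ.injective) T (by rw [range_comp_aut, h3])

end tw

/-- Over every group with the presentation `D` there are `k` realizable systems with (H), no two twisted. -/
def Models (D : PcD) (k : ℕ) : Prop :=
  ∀ (A : Type) [Group A] (x : ℕ → A), Gen D ⊤ x → ∃ M : Fin k → FusionSystem (⊤ : Subgroup A),
    (∀ i, Hyp (M i) ∧ (M i).IsRealizable 2) ∧ ∀ i j, Tw (M i) (M j) → i = j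

/-- **Pigeonhole.** -/
theorem Models.realizable {D : PcD} {k : ℕ} (h : Models D k) {A : Type} [Group A] {x : ℕ → A} (hx : Gen D ⊤ x)
    (ty : FusionSystem (⊤ : Subgroup A) → Fin k → Prop) (hex : ∀ F, Hyp F → ∃ t, ty F t)
    (huniq : ∀ F F' t, Hyp F → Hyp F' → ty F t → ty F' t → Tw F F') (F : FusionSystem (⊤ : Subgroup A))
    (hF : Hyp F) : F.IsRealizable 2 := by
  obtain ⟨M, h1, h2⟩ := h A x hx
  choose t ht using fun i => hex (M i) (h1 i).1
  have hinj : Function.Injective t := fun i j hij =>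
    h2 i j (huniq _ _ (t i) (h1 i).1 (h1 j).1 (ht i) (by rw [hij]; exact ht j))
  obtain ⟨s, hs⟩ := hex F hF
  obtain ⟨i, rfl⟩ := Finite.injective_iff_surjective.1 hinj s
  exact (huniq _ _ _ hF (h1 i).1 hs (ht i)).isRealizable (h1 i).2

section rz

variable {G G' : Type*} [Group G] [Group G'] {D : PcD}

/-- `x` generates a Sylow 2-subgroup `T` with the presentation `D`, and `F_T(G)` has (H). -/
def Rz (D : PcD) (G : Type*) [Group G] (x : ℕ → G) : Prop :=
  Finite G ∧ ∃ T : Sylow 2 G, Gen D T x ∧ Hyp (groupFusionSystem (T : Subgroup G))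

/-- Conjugation by `g` sends the normal form `a` to the normal form `b`. -/
def Act (D : PcD) (x : ℕ → G) (g : G) (a b : ℕ) : Prop := g * el x D.n a = el x D.n b * g

theorem Act.conj {x : ℕ → G} {g : G} {a b : ℕ} (h : Act D x g a b) : g * el x D.n a * g⁻¹ = el x D.n b := by
  rw [h, mul_inv_cancel_right]

theorem act_of_conj {x : ℕ → G} {g : G} {a b : ℕ} (h : g * el x D.n a * g⁻¹ = el x D.n b) : Act D x g a b := by
  unfold Act
  rw [← h, inv_mul_cancel_right]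

theorem Act.isConj {x : ℕ → G} {g : G} {a b : ℕ} (h : Act D x g a b) : IsConj (el x D.n a) (el x D.n b) :=
  isConj_iff.2 ⟨g, h.conj⟩

/-- The fusion of the normal forms in `x` also takes place for the normal forms in `y`. -/
def Tr (D : PcD) (x : ℕ → G) (y : ℕ → G') : Prop := ∀ g : G, ∃ g' : G', ∀ a b, Act D x g a b → Act D y g' a b

/-- The fusion of `x` does not take place in the group generated by `x'`, whatever its generators. -/
def Sep (D : PcD) (x : ℕ → G) (x' : ℕ → G') : Prop :=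
  ∀ (S' : Subgroup G') (y : ℕ → G'), Gen D S' x' → Gen D S' y → ¬ Tr D x y

/-- (H) from explicit elements. -/
theorem rz_of' [Finite G] {S : Subgroup G} {x : ℕ → G} (H : Gen D S x) {m : ℕ} (hm : Nat.card G = 2 ^ D.n * m)
    (ho : ¬ 2 ∣ m)
    (hc : ∀ z ∈ D.zl, ∀ Q : Subgroup G,
      (∀ a b, el x D.n a ∈ Q → IsConj (el x D.n a) (el x D.n b) → el x D.n b ∈ Q) → el x D.n z ∈ Q →
      ∃ a b, a < D.N ∧ b < D.N ∧ el x D.n a ∈ Q ∧ el x D.n b ∈ Q ∧ D.mul a b ≠ D.mul b a)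
    (hr : ∀ i, i < D.n → x i ∈ pResidual 2 G) : Rz D G x := by
  have : Fact (Nat.Prime 2) := ⟨Nat.prime_two⟩
  obtain ⟨T, rfl⟩ := H.exists_sylow hm ho
  refine ⟨inferInstance, T, H, S5076.result 2 T, ?_, ?_⟩
  · by_contra h0
    obtain ⟨Q, hQ0, hQc, hQS, hQ⟩ := (S5089.result 2 H.isPGroup _ (S5076.result 2 T)).1 h0
    have key : ∀ t ∈ Q, ∀ g : G, g * t * g⁻¹ ∈ (T : Subgroup G) → g * t * g⁻¹ ∈ Q := by
      intro t ht g hg
      have h1 : Subgroup.zpowers t ≤ Q := Subgroup.zpowers_le.2 ht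
      refine hQ _ h1 (conjHom _ g) ⟨h1.trans hQS, ?_, g, fun _ => rfl⟩ ⟨t, Subgroup.mem_zpowers t⟩
      rintro ⟨_, k, rfl⟩
      show g * t ^ k * g⁻¹ ∈ (T : Subgroup G)
      rw [← conj_zpow]
      exact Subgroup.zpow_mem _ hg k
    obtain ⟨z, hz, hzQ⟩ := H.exists_z hQS (fun s hs a ha => key a ha s
      ((T : Subgroup G).mul_mem ((T : Subgroup G).mul_mem hs (hQS ha)) ((T : Subgroup G).inv_mem hs))) hQ0
    obtain ⟨a, b, ha, hb, h1, h2, h3⟩ := hc z hz Q (fun a c ha hc => by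
      obtain ⟨g, hg⟩ := isConj_iff.1 hc
      rw [← hg]
      refine key _ ha g ?_
      rw [hg]
      exact H.el_mem' c) hzQ
    have h4 := congrArg Subtype.val (hQc.is_comm.comm ⟨_, h1⟩ ⟨_, h2⟩)
    have h5 : el x D.n a * el x D.n b = el x D.n b * el x D.n a := h4
    rw [H.mul ha, H.mul hb] at h5
    exact h3 (H.inj (D.mul_lt ha _) (D.mul_lt hb _) h5)
  · rw [S5093.result 2 T]
    exact inf_eq_left.2 (H.le_of hr)

theorem rz_of [Finite G] {S : Subgroup G} {x : ℕ → G} (H : Gen D S x) {m : ℕ} (hm : Nat.card G = 2 ^ D.n * m)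
    (ho : ¬ 2 ∣ m)
    (hc : ∀ z ∈ D.zl, ∃ a b, a < D.N ∧ b < D.N ∧ IsConj (el x D.n z) (el x D.n a) ∧ IsConj (el x D.n z) (el x D.n b) ∧
      D.mul a b ≠ D.mul b a)
    (hr : ∀ i, i < D.n → x i ∈ pResidual 2 G) : Rz D G x :=
  rz_of' H hm ho (fun z hz Q hQ hzQ => by
    obtain ⟨a, b, ha, hb, h1, h2, h3⟩ := hc z hz
    exact ⟨a, b, ha, hb, hQ _ _ hzQ h1, hQ _ _ hzQ h2, h3⟩) hr

/-- The system induced on a group with the presentation `D`. -/
theorem Rz.exists_model {x : ℕ → G} (h : Rz D G x) {A : Type u} [Group A] {y : ℕ → A} (hy : Gen D ⊤ y) :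
    ∃ (M : FusionSystem (⊤ : Subgroup A)) (f : A →* G), Hyp M ∧ M.IsRealizable 2 ∧ Ind M f ∧ Function.Injective f ∧
      (∀ a, f (el y D.n a) = el x D.n a) ∧ Gen D f.range x := by
  obtain ⟨_, T, H, hH⟩ := h
  obtain ⟨e, he⟩ := hy.exists_equiv H
  let f : A →* G := (T : Subgroup G).subtype.comp (e.toMonoidHom.comp Subgroup.topEquiv.symm.toMonoidHom)
  have hf : Function.Injective f :=
    (Subgroup.subtype_injective _).comp (e.injective.comp Subgroup.topEquiv.symm.injective)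
  have hT : (T : Subgroup G) = f.range := by
    ext g
    constructor
    · intro hg
      refine ⟨e.symm ⟨g, hg⟩, ?_⟩
      show ((e (e.symm ⟨g, hg⟩) : (T : Subgroup G)) : G) = g
      rw [e.apply_symm_apply]
    · rintro ⟨a, rfl⟩
      exact (e _).2
  have hT' : (T : Subgroup G) = (⊤ : Subgroup A).map f := by rw [hT, MonoidHom.range_eq_map]
  have : Finite (⊤ : Subgroup A) := hy.finite
  obtain ⟨M, hM⟩ := exists_pull' (hf := hf) hT' (groupFusionSystem (T : Subgroup G))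
  have hI : Ind M f := by
    intro P a
    have h1 := mp_push_iff hM (P := P) (a := a) (b := fun t => f (a (Function.invFun f t))) fun s _ => by
      show f (a (Function.invFun f (f s))) = _
      rw [Function.leftInverse_invFun hf s]
    rw [← h1]
    constructor
    · rintro ⟨φ, ⟨-, -, g, hg⟩, h2⟩
      refine ⟨g, fun s hs => ?_⟩
      have h3 : φ ⟨f s, s, hs, rfl⟩ = f (a (Function.invFun f (f s))) := h2 (f s) ⟨s, hs, rfl⟩
      rw [Function.leftInverse_invFun hf s] at h3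
      rw [← h3]
      exact hg ⟨f s, s, hs, rfl⟩
    · rintro ⟨g, hg⟩
      refine ⟨conjHom _ g, ⟨?_, ?_, g, fun _ => rfl⟩, ?_⟩
      · rw [hT]
        exact Subgroup.map_le_range f P
      · rintro ⟨_, s, hs, rfl⟩
        show g * f s * g⁻¹ ∈ (T : Subgroup G)
        rw [← hg s hs, hT]
        exact ⟨_, rfl⟩
      · rintro _ ⟨s, hs, rfl⟩
        show g * f s * g⁻¹ = f (a (Function.invFun f (f s)))
        rw [Function.leftInverse_invFun hf s, hg s hs]
  refine ⟨M, f, (hyp_push_iff hM).1 hH, hI.isRealizable hf T hT, hI, hf, he, ?_⟩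
  rw [← hT]
  exact H

theorem Gen.map {S : Subgroup G} {x : ℕ → G} (H : Gen D S x) (f : G →* G') (hf : Function.Injective f) :
    Gen D (S.map f) fun i => f (x i) := by
  refine ⟨H.ok, ⟨fun i hi => ?_, fun i j hij hj => ?_⟩, fun z hz h => ?_, fun g => ⟨?_, ?_⟩⟩
  · rw [← map_mul, H.rel.sq i hi, map_el]
  · rw [← map_mul, H.rel.cj i j hij hj, map_mul, map_el]
  · rw [← map_el] at h
    exact H.ne z hz (hf (h.trans (map_one f).symm))
  · rintro ⟨s, hs, rfl⟩
    obtain ⟨a, ha, rfl⟩ := (H.mem s).1 hs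
    exact ⟨a, ha, (map_el f x a _).symm⟩
  · rintro ⟨a, ha, rfl⟩
    exact ⟨_, H.el_mem ha, map_el f x a _⟩

/-- Two induced systems which are twisted contradict `Sep`. -/
theorem not_tw {x : ℕ → G} {x' : ℕ → G'} (hs : Sep D x x') {A : Type u} [Group A] {y : ℕ → A} (hy : Gen D ⊤ y)
    {M M' : FusionSystem (⊤ : Subgroup A)} {f : A →* G} {f' : A →* G'} (hI : Ind M f) (hf : Function.Injective f)
    (he : ∀ a, f (el y D.n a) = el x D.n a) (hI' : Ind M' f') (hf' : Function.Injective f') (H' : Gen D f'.range x') :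
    ¬ Tw M M' := by
  intro h
  obtain ⟨θ, h1⟩ := h.ind hI'
  have h2 := hy.map (f'.comp θ.toMonoidHom) (hf'.comp θ.injective)
  rw [← MonoidHom.range_eq_map, range_comp_aut] at h2
  refine hs _ _ H' h2 fun g => ?_
  let P : Subgroup A := (f.range.comap (MulAut.conj g).toMonoidHom).comap f
  have hP : ∀ s ∈ P, f (Function.invFun f (g * f s * g⁻¹)) = g * f s * g⁻¹ := fun s hs => Function.invFun_eq hs
  obtain ⟨g', hg'⟩ := (h1 P _).1 ((hI P fun s => Function.invFun f (g * f s * g⁻¹)).2 ⟨g, hP⟩)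
  refine ⟨g', fun a b hab => act_of_conj ?_⟩
  have h3 : g * f (el y D.n a) * g⁻¹ = f (el y D.n b) := by rw [he, he, hab.conj]
  have h4 : el y D.n a ∈ P := ⟨_, h3.symm⟩
  have h5 := hg' _ h4
  rw [h3, Function.leftInverse_invFun hf, map_el, map_el] at h5
  exact h5.symm

end rz

section models

variable {D : PcD} {G₁ G₂ G₃ G₄ : Type*} [Group G₁] [Group G₂] [Group G₃] [Group G₄] {x₁ : ℕ → G₁} {x₂ : ℕ → G₂}
  {x₃ : ℕ → G₃} {x₄ : ℕ → G₄}

theorem models_one (h : Rz D G₁ x₁) : Models D 1 := by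
  intro A _ y hy
  obtain ⟨M, f, h1, h2, -⟩ := h.exists_model hy
  exact ⟨fun _ => M, fun _ => ⟨h1, h2⟩, fun i j _ => Subsingleton.elim i j⟩

theorem models_two (h₁ : Rz D G₁ x₁) (h₂ : Rz D G₂ x₂) (s : Sep D x₁ x₂) : Models D 2 := by
  intro A _ y hy
  obtain ⟨M₁, f₁, a1, a2, a3, a4, a5, -⟩ := h₁.exists_model hy
  obtain ⟨M₂, f₂, b1, b2, b3, b4, -, b6⟩ := h₂.exists_model hy
  have n12 := not_tw s hy a3 a4 a5 b3 b4 b6
  refine ⟨![M₁, M₂], fun i => ?_, fun i j h => ?_⟩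
  · fin_cases i
    · exact ⟨a1, a2⟩
    · exact ⟨b1, b2⟩
  · fin_cases i <;> fin_cases j
    · rfl
    · exact absurd h n12
    · exact absurd h.symm n12
    · rfl

theorem models_four (h₁ : Rz D G₁ x₁) (h₂ : Rz D G₂ x₂) (h₃ : Rz D G₃ x₃) (h₄ : Rz D G₄ x₄) (s12 : Sep D x₁ x₂)
    (s13 : Sep D x₁ x₃) (s14 : Sep D x₁ x₄) (s23 : Sep D x₂ x₃) (s24 : Sep D x₂ x₄) (s34 : Sep D x₃ x₄) :
    Models D 4 := by
  intro A _ y hy
  obtain ⟨M₁, f₁, a1, a2, a3, a4, a5, -⟩ := h₁.exists_model hy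
  obtain ⟨M₂, f₂, b1, b2, b3, b4, b5, b6⟩ := h₂.exists_model hy
  obtain ⟨M₃, f₃, c1, c2, c3, c4, c5, c6⟩ := h₃.exists_model hy
  obtain ⟨M₄, f₄, d1, d2, d3, d4, -, d6⟩ := h₄.exists_model hy
  have n12 := not_tw s12 hy a3 a4 a5 b3 b4 b6
  have n13 := not_tw s13 hy a3 a4 a5 c3 c4 c6
  have n14 := not_tw s14 hy a3 a4 a5 d3 d4 d6
  have n23 := not_tw s23 hy b3 b4 b5 c3 c4 c6
  have n24 := not_tw s24 hy b3 b4 b5 d3 d4 d6
  have n34 := not_tw s34 hy c3 c4 c5 d3 d4 d6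
  refine ⟨![M₁, M₂, M₃, M₄], fun i => ?_, fun i j h => ?_⟩
  · fin_cases i
    · exact ⟨a1, a2⟩
    · exact ⟨b1, b2⟩
    · exact ⟨c1, c2⟩
    · exact ⟨d1, d2⟩
  · fin_cases i <;> fin_cases j <;> first
      | rfl
      | exact absurd h n12 | exact absurd h n13 | exact absurd h n14
      | exact absurd h n23 | exact absurd h n24 | exact absurd h n34
      | exact absurd h.symm n12 | exact absurd h.symm n13 | exact absurd h.symm n14
      | exact absurd h.symm n23 | exact absurd h.symm n24 | exact absurd h.symm n34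

end models

end Cfsg.Agent.FS.Real
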