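import Cfsg.Agent.FS.Real.Hyp
import Cfsg.Agent.Transfer.Residual

/-!
# Invariants which separate realisations (helper83, project FS, part C)
-/

set_option autoImplicit false

namespace Cfsg.Agent.FS.Real

open Cfsg

section group

variable {G : Type*} [Group G]

/-- The number of conjugates of `t` under `K` divides `|K|`. -/
theorem ncard_conj_mul (K : Subgroup G) (t : G) :
    Set.ncard {s | ∃ g ∈ K, g * t * g⁻¹ = s} * Nat.card (K ⊓ Subgroup.centralizer {t} : Subgroup G) = Nat.card K := by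
  let _ : MulAction K G := MulAction.compHom G (MulAut.conj.comp K.subtype)
  have h1 : MulAction.orbit K t = {s | ∃ g ∈ K, g * t * g⁻¹ = s} := by
    ext s
    exact ⟨fun ⟨g, hg⟩ => ⟨g, g.2, hg⟩, fun ⟨g, hg, h⟩ => ⟨⟨g, hg⟩, h⟩⟩
  have h2 : MulAction.stabilizer K t = (K ⊓ Subgroup.centralizer {t} : Subgroup G).subgroupOf K := by
    ext g
    rw [MulAction.mem_stabilizer_iff, Subgroup.mem_subgroupOf, Subgroup.mem_inf, Subgroup.mem_centralizer_singleton_iff]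
    show (g : G) * t * (g : G)⁻¹ = t ↔ _
    rw [mul_inv_eq_iff_eq_mul]
    exact ⟨fun h => ⟨g.2, h⟩, fun h => h.2⟩
  rw [← h1, ← MulAction.index_stabilizer, ← (MulAction.stabilizer K t).index_mul_card, h2,
    Nat.card_congr (Subgroup.subgroupOfEquivOfLe inf_le_left).toEquiv]

/-- An orbit of length `m` of two elements of `C`; `ζ` is central. -/
theorem orbit_dvd [Finite G] (C : Subgroup G) {ζ : G} (hζ : ∀ g, ζ * g = g * ζ) (hζC : ζ ∈ C) {g₁ g₂ : G}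
    (h₁ : g₁ ∈ C) (h₂ : g₂ ∈ C) {m : ℕ} (hm : 0 < m) {t : ℕ → G}
    {σ₁ σ₂ : ℕ → ℕ} (hinj : ∀ j k, j < k → k < m → t j ≠ t k)
    (a₁ : ∀ k, k < m → σ₁ k < m ∧ g₁ * t k * g₁⁻¹ = t (σ₁ k)) (a₂ : ∀ k, k < m → σ₂ k < m ∧ g₂ * t k * g₂⁻¹ = t (σ₂ k))
    (hr : ∀ k, 0 < k → k < m → ∃ j, j < k ∧ (σ₁ j = k ∨ σ₂ j = k)) : m * orderOf ζ ∣ Nat.card C := by
  have hpow : ∀ g : G, (∀ k, k < m → ∃ l, l < m ∧ g * t k * g⁻¹ = t l) →
      ∀ e k : ℕ, k < m → ∃ l, l < m ∧ g ^ e * t k * (g ^ e)⁻¹ = t l := by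
    intro g hg e
    induction e with
    | zero => exact fun k hk => ⟨k, hk, by simp⟩
    | succ e ih =>
      intro k hk
      obtain ⟨l, hl, h⟩ := ih k hk
      obtain ⟨l', hl', h'⟩ := hg l hl
      refine ⟨l', hl', ?_⟩
      rw [← h', ← h, pow_succ']
      group
  let K : Subgroup G :=
    { carrier := {g | g ∈ C ∧ ∀ k, k < m → ∃ l, l < m ∧ g * t k * g⁻¹ = t l}
      one_mem' := ⟨C.one_mem, fun k hk => ⟨k, hk, by simp⟩⟩
      mul_mem' := by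
        rintro a b ⟨ha, ha'⟩ ⟨hb, hb'⟩
        refine ⟨C.mul_mem ha hb, fun k hk => ?_⟩
        obtain ⟨l, hl, h⟩ := hb' k hk
        obtain ⟨l', hl', h'⟩ := ha' l hl
        refine ⟨l', hl', ?_⟩
        rw [← h', ← h]
        group
      inv_mem' := by
        rintro a ⟨ha, ha'⟩
        refine ⟨C.inv_mem ha, ?_⟩
        have h1 : a⁻¹ = a ^ (orderOf a - 1) := by
          rw [inv_eq_iff_mul_eq_one, ← pow_succ', Nat.sub_add_cancel (orderOf_pos a), pow_orderOf_eq_one]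
        rw [h1]
        exact hpow a ha' _ }
  have hK : K ≤ C := fun g hg => hg.1
  have k₁ : g₁ ∈ K := ⟨h₁, fun k hk => ⟨_, a₁ k hk⟩⟩
  have k₂ : g₂ ∈ K := ⟨h₂, fun k hk => ⟨_, a₂ k hk⟩⟩
  have h3 : {s | ∃ g ∈ K, g * t 0 * g⁻¹ = s} = t '' Set.Iio m := by
    ext s
    constructor
    · rintro ⟨g, hg, rfl⟩
      obtain ⟨l, hl, h⟩ := hg.2 0 hm
      exact ⟨l, hl, h.symm⟩
    · rintro ⟨k, hk, rfl⟩
      induction k using Nat.strong_induction_on with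
      | _ k ih =>
        rcases Nat.eq_zero_or_pos k with rfl | h0
        · exact ⟨1, K.one_mem, by simp⟩
        obtain ⟨j, hj, h⟩ := hr k h0 hk
        have hjm : j < m := hj.trans hk
        obtain ⟨g, hg, h4⟩ := ih j hj hjm
        rcases h with h | h
        · refine ⟨g₁ * g, K.mul_mem k₁ hg, ?_⟩
          rw [← h, ← (a₁ j hjm).2, ← h4]
          group
        · refine ⟨g₂ * g, K.mul_mem k₂ hg, ?_⟩
          rw [← h, ← (a₂ j hjm).2, ← h4]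
          group
  have h4 := ncard_conj_mul K (t 0)
  rw [h3, Set.InjOn.ncard_image (fun j hj k hk h => by
    rcases lt_trichotomy j k with h5 | h5 | h5
    · exact absurd h (hinj j k h5 hk)
    · exact h5
    · exact absurd h.symm (hinj k j h5 hj)), Set.ncard_Iio_nat] at h4
  have h5 : ζ ∈ (K ⊓ Subgroup.centralizer {t 0} : Subgroup G) :=
    ⟨⟨hζC, fun k hk => ⟨k, hk, by rw [hζ, mul_inv_cancel_right]⟩⟩, Subgroup.mem_centralizer_singleton_iff.2 (hζ _)⟩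
  refine Dvd.dvd.trans ?_ (Subgroup.card_dvd_of_le hK)
  rw [← h4]
  exact Nat.mul_dvd_mul_left _ (Subgroup.orderOf_dvd_natCard _ h5)

/-- Many conjugates: a small centralizer. -/
theorem conj_mul_le [Finite G] {z : G} {m : ℕ} {t : ℕ → G} (hinj : ∀ j k, j < k → k < m → t j ≠ t k)
    (hc : ∀ k, k < m → IsConj z (t k)) : m * Nat.card (Subgroup.centralizer {z} : Subgroup G) ≤ Nat.card G := by
  have h1 := ncard_conj_mul (⊤ : Subgroup G) z
  rw [top_inf_eq, Subgroup.card_top] at h1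
  rw [← h1]
  refine Nat.mul_le_mul_right _ ?_
  have h2 : t '' Set.Iio m ⊆ {s | ∃ g ∈ (⊤ : Subgroup G), g * z * g⁻¹ = s} := by
    rintro _ ⟨k, hk, rfl⟩
    obtain ⟨g, hg⟩ := isConj_iff.1 (hc k hk)
    exact ⟨g, Subgroup.mem_top g, hg⟩
  have h3 := Set.ncard_le_ncard h2 (Set.toFinite _)
  rwa [Set.InjOn.ncard_image (fun j hj k hk h => by
    rcases lt_trichotomy j k with h5 | h5 | h5
    · exact absurd h (hinj j k h5 hk)
    · exact h5
    · exact absurd h.symm (hinj k j h5 hj)), Set.ncard_Iio_nat] at h3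

theorem card_cent_of_isConj [Finite G] {a b : G} (h : IsConj a b) :
    Nat.card (Subgroup.centralizer {a} : Subgroup G) = Nat.card (Subgroup.centralizer {b} : Subgroup G) := by
  have h1 := ncard_conj_mul (⊤ : Subgroup G) a
  have h2 := ncard_conj_mul (⊤ : Subgroup G) b
  rw [top_inf_eq] at h1 h2
  obtain ⟨c, rfl⟩ := isConj_iff.1 h
  have h3 : {s | ∃ g ∈ (⊤ : Subgroup G), g * (c * a * c⁻¹) * g⁻¹ = s} = {s | ∃ g ∈ (⊤ : Subgroup G), g * a * g⁻¹ = s} := by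
    ext s
    constructor
    · rintro ⟨g, -, rfl⟩
      exact ⟨g * c, Subgroup.mem_top _, by group⟩
    · rintro ⟨g, -, rfl⟩
      exact ⟨g * c⁻¹, Subgroup.mem_top _, by group⟩
  rw [h3, ← h1] at h2
  refine (Nat.eq_of_mul_eq_mul_left ?_ h2).symm
  exact (Set.ncard_pos (Set.toFinite _)).2 ⟨a, 1, Subgroup.mem_top _, by simp⟩

theorem mem_pResidual_of_pow {g : G} {m : ℕ} (hm : m % 2 = 1) (h : g ^ m = 1) : g ∈ pResidual 2 G := by
  refine Transfer.Residual.mem_pResidual_of_coprime ?_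
  refine Nat.Coprime.coprime_dvd_left (orderOf_dvd_of_pow_eq_one h) ?_
  exact (Nat.coprime_two_right).2 (Nat.odd_iff.2 hm)

/-- A simple group whose order is not a power of two. -/
theorem pResidual_eq_top [Finite G] [IsSimpleGroup G] {r : ℕ} (hr : r.Prime) (h2 : r % 2 = 1) (h : r ∣ Nat.card G) :
    pResidual 2 G = ⊤ := by
  have : Fact r.Prime := ⟨hr⟩
  obtain ⟨g, hg⟩ := exists_prime_orderOf_dvd_card' r h
  have h3 : g ∈ pResidual 2 G := mem_pResidual_of_pow h2 (by rw [← hg, pow_orderOf_eq_one])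
  refine (Transfer.Residual.pResidual_normal (p := 2) (G := G)).eq_bot_or_eq_top.resolve_left fun h4 => ?_
  rw [h4, Subgroup.mem_bot] at h3
  rw [h3, orderOf_one] at hg
  exact hr.one_lt.ne hg

end group

/-- check: `z` is a central involution -/
noncomputable def PcD.cinv (D : PcD) (z : ℕ) : Bool :=
  Nat.blt z (2 ^ D.n) && !Nat.beq z 0 && Nat.beq (D.mul z z) 0 &&
    allB D.n fun i => Nat.beq (D.mul z (2 ^ i)) (D.mul (2 ^ i) z)

/-- check: the orbit `A` of length `m` with the two permutations `s₁`, `s₂` (entries of 8 bits) -/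
noncomputable def PcD.orb (D : PcD) (m A s₁ s₂ : ℕ) : Bool :=
  Nat.blt 0 m && (allB m fun k => Nat.blt (get 8 A k) (2 ^ D.n) && Nat.blt (get 8 s₁ k) m && Nat.blt (get 8 s₂ k) m &&
    (allB k fun j => !Nat.beq (get 8 A j) (get 8 A k)) &&
    (Nat.beq k 0 || anyB k fun j => Nat.beq (get 8 s₁ j) k || Nat.beq (get 8 s₂ j) k))

section sep

variable {G G' : Type*} [Group G] [Group G'] {D : PcD}

theorem Gen.cinv {S : Subgroup G} {x : ℕ → G} (H : Gen D S x) {z : ℕ} (hz : D.cinv z = true) :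
    el x D.n z ≠ 1 ∧ el x D.n z * el x D.n z = 1 ∧ ∀ s ∈ S, s * el x D.n z = el x D.n z * s := by
  unfold PcD.cinv at hz
  simp only [Bool.and_eq_true] at hz
  obtain ⟨⟨⟨h1, h2⟩, h3⟩, h4⟩ := hz
  have h5 : z < D.N := blt_lt h1
  refine ⟨fun h => nbeq_ne h2 (H.eq_zero h5 h), by rw [H.mul h5, beq_eq h3, el_nil], fun s hs => ?_⟩
  have h6 : S ≤ Subgroup.centralizer {el x D.n z} := H.le_of fun i hi => by
    rw [Subgroup.mem_centralizer_singleton_iff, ← el_two_pow x _ hi, H.mul h5, H.mul (D.two_pow_lt hi),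
      beq_eq (allB_spec h4 hi)]
  exact Subgroup.mem_centralizer_singleton_iff.1 (h6 hs)

/-- The action of `g` on the orbit. -/
def ActO (D : PcD) (x : ℕ → G) (g : G) (m A s : ℕ) : Prop :=
  ∀ k, k < m → Act D x g (get 8 A k) (get 8 A (get 8 s k))

theorem Gen.orb_dvd [Finite G] {S : Subgroup G} {y : ℕ → G} (H : Gen D S y) {m A s₁ s₂ : ℕ} (ho : D.orb m A s₁ s₂ = true)
    (C : Subgroup G) {ζ : G} (hζ : ∀ g, ζ * g = g * ζ) (hζC : ζ ∈ C) {g₁ g₂ : G} (h₁ : g₁ ∈ C) (h₂ : g₂ ∈ C)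
    (a₁ : ActO D y g₁ m A s₁) (a₂ : ActO D y g₂ m A s₂) : m * orderOf ζ ∣ Nat.card C := by
  unfold PcD.orb at ho
  rw [Bool.and_eq_true] at ho
  have h : ∀ k, k < m → get 8 A k < D.N ∧ get 8 s₁ k < m ∧ get 8 s₂ k < m ∧ (∀ j, j < k → get 8 A j ≠ get 8 A k) ∧
      (0 < k → ∃ j, j < k ∧ (get 8 s₁ j = k ∨ get 8 s₂ j = k)) := by
    intro k hk
    have h1 := allB_spec ho.2 hk
    simp only [Bool.and_eq_true, Bool.or_eq_true] at h1
    obtain ⟨⟨⟨⟨h2, h3⟩, h4⟩, h5⟩, h6⟩ := h1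
    refine ⟨blt_lt h2, blt_lt h3, blt_lt h4, fun j hj => nbeq_ne (allB_spec h5 hj), fun h0 => ?_⟩
    rcases h6 with h6 | h6
    · exact absurd (beq_eq h6) h0.ne'
    · obtain ⟨j, hj, h7⟩ := anyB_spec h6
      rw [Bool.or_eq_true] at h7
      exact ⟨j, hj, h7.imp beq_eq beq_eq⟩
  exact orbit_dvd C hζ hζC h₁ h₂ (blt_lt ho.1) (t := fun k => el y D.n (get 8 A k)) (σ₁ := get 8 s₁) (σ₂ := get 8 s₂)
    (fun j k hj hk h1 => (h k hk).2.2.2.1 j hj (H.inj (h j (hj.trans hk)).1 (h k hk).1 h1))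
    (fun k hk => ⟨(h k hk).2.1, (a₁ k hk).conj⟩) (fun k hk => ⟨(h k hk).2.2.1, (a₂ k hk).conj⟩)
    fun k h0 hk => (h k hk).2.2.2.2 h0

/-- An orbit whose length does not divide the order of the other group. -/
theorem sep_card [Finite G'] {x : ℕ → G} {x' : ℕ → G'} {m A s₁ s₂ : ℕ} (ho : D.orb m A s₁ s₂ = true) {g₁ g₂ : G}
    (a₁ : ActO D x g₁ m A s₁) (a₂ : ActO D x g₂ m A s₂) (hn : ¬ m ∣ Nat.card G') : Sep D x x' := by
  intro S' y _ H hT
  obtain ⟨k₁, b₁⟩ := hT g₁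
  obtain ⟨k₂, b₂⟩ := hT g₂
  have h := H.orb_dvd ho ⊤ (ζ := 1) (fun g => by rw [one_mul, mul_one]) (Subgroup.mem_top _) (Subgroup.mem_top k₁)
    (Subgroup.mem_top k₂) (fun k hk => b₁ _ _ (a₁ k hk)) fun k hk => b₂ _ _ (a₂ k hk)
  rw [Subgroup.card_top, orderOf_one, mul_one] at h
  exact hn h

/-- An orbit of elements fixing a central involution. -/
theorem sep_cent' [Finite G'] {ζ : G'} (hζ : ∀ g, ζ * g = g * ζ) {x : ℕ → G} {x' : ℕ → G'} {m A s₁ s₂ z : ℕ} (ho : D.orb m A s₁ s₂ = true)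
    (hz : D.cinv z = true) {g₁ g₂ : G} (a₁ : ActO D x g₁ m A s₁) (a₂ : ActO D x g₂ m A s₂) (z₁ : Act D x g₁ z z)
    (z₂ : Act D x g₂ z z)
    (hn : ∀ w ∈ D.zl, ¬ m * orderOf ζ ∣ Nat.card (Subgroup.centralizer {el x' D.n w} : Subgroup G')) :
    Sep D x x' := by
  intro S' y H' H hT
  obtain ⟨k₁, b₁⟩ := hT g₁
  obtain ⟨k₂, b₂⟩ := hT g₂
  obtain ⟨c1, c2, c3⟩ := H.cinv hz
  obtain ⟨w, hw, h1⟩ := H'.central (H.el_mem' z) c1 c2 c3
  refine hn w hw ?_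
  rw [h1]
  exact H.orb_dvd ho _ hζ (Subgroup.mem_centralizer_singleton_iff.2 (hζ _))
    (Subgroup.mem_centralizer_singleton_iff.2 (b₁ _ _ z₁))
    (Subgroup.mem_centralizer_singleton_iff.2 (b₂ _ _ z₂)) (fun k hk => b₁ _ _ (a₁ k hk)) fun k hk => b₂ _ _ (a₂ k hk)

theorem sep_cent [Finite G'] {x : ℕ → G} {x' : ℕ → G'} {m A s₁ s₂ z : ℕ} (ho : D.orb m A s₁ s₂ = true)
    (hz : D.cinv z = true) {g₁ g₂ : G} (a₁ : ActO D x g₁ m A s₁) (a₂ : ActO D x g₂ m A s₂) (z₁ : Act D x g₁ z z)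
    (z₂ : Act D x g₂ z z) (hn : ∀ w ∈ D.zl, ¬ m ∣ Nat.card (Subgroup.centralizer {el x' D.n w} : Subgroup G')) :
    Sep D x x' :=
  sep_cent' (ζ := 1) (fun g => by rw [one_mul, mul_one]) ho hz a₁ a₂ z₁ z₂ fun w hw => by
    rw [orderOf_one, mul_one]
    exact hn w hw

/-- Two elements fixing `z` act on the orbit. -/
def Pos (D : PcD) (x : ℕ → G) (m A s₁ s₂ z : ℕ) : Prop :=
  ∃ g₁ g₂ : G, ActO D x g₁ m A s₁ ∧ ActO D x g₂ m A s₂ ∧ Act D x g₁ z z ∧ Act D x g₂ z z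

theorem Pos.sep_card [Finite G'] {x : ℕ → G} {x' : ℕ → G'} {m A s₁ s₂ z : ℕ} (h : Pos D x m A s₁ s₂ z)
    (ho : D.orb m A s₁ s₂ = true) (hn : ¬ m ∣ Nat.card G') : Sep D x x' := by
  obtain ⟨g₁, g₂, a₁, a₂, -⟩ := h
  exact Real.sep_card ho a₁ a₂ hn

theorem Pos.sep_cent' [Finite G'] {ζ : G'} (hζ : ∀ g, ζ * g = g * ζ) {x : ℕ → G} {x' : ℕ → G'} {m A s₁ s₂ z : ℕ}
    (h : Pos D x m A s₁ s₂ z) (ho : D.orb m A s₁ s₂ = true) (hz : D.cinv z = true)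
    (hn : ∀ w ∈ D.zl, ¬ m * orderOf ζ ∣ Nat.card (Subgroup.centralizer {el x' D.n w} : Subgroup G')) :
    Sep D x x' := by
  obtain ⟨g₁, g₂, a₁, a₂, z₁, z₂⟩ := h
  exact Real.sep_cent' hζ ho hz a₁ a₂ z₁ z₂ hn

theorem Pos.sep_cent [Finite G'] {x : ℕ → G} {x' : ℕ → G'} {m A s₁ s₂ z : ℕ} (h : Pos D x m A s₁ s₂ z)
    (ho : D.orb m A s₁ s₂ = true) (hz : D.cinv z = true)
    (hn : ∀ w ∈ D.zl, ¬ m ∣ Nat.card (Subgroup.centralizer {el x' D.n w} : Subgroup G')) : Sep D x x' := by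
  obtain ⟨g₁, g₂, a₁, a₂, z₁, z₂⟩ := h
  exact Real.sep_cent ho hz a₁ a₂ z₁ z₂ hn

theorem Rz.orderOf_z {x : ℕ → G} (h : Rz D G x) (hz : D.zl.all D.cinv = true) {w : ℕ} (hw : w ∈ D.zl) :
    orderOf (el x D.n w) = 2 := by
  obtain ⟨-, T, H, -⟩ := h
  obtain ⟨c1, c2, -⟩ := H.cinv (List.all_eq_true.1 hz w hw)
  exact orderOf_eq_prime (by rw [pow_two, c2]) c1

/-- One class of involutions against two. -/
theorem sep_class {S : Subgroup G} {x : ℕ → G} {x' : ℕ → G'} (H : Gen D S x)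
    (h : ∀ a b : G, a ≠ 1 → a * a = 1 → b ≠ 1 → b * b = 1 → IsConj a b) {S' : Subgroup G'} (H' : Gen D S' x') {t u : G'}
    (ht : t ∈ S') (hu : u ∈ S') (t1 : t ≠ 1) (t2 : t * t = 1) (u1 : u ≠ 1) (u2 : u * u = 1) (hn : ¬ IsConj t u) :
    Sep D x x' := by
  intro S'' y H'' Hy hT
  have hS : S'' = S' := Subgroup.ext fun g => (H''.mem g).trans (H'.mem g).symm
  subst hS
  obtain ⟨a, ha, rfl⟩ := (Hy.mem t).1 ht
  obtain ⟨b, hb, rfl⟩ := (Hy.mem u).1 hu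
  have key : ∀ c, c < D.N → el y D.n c ≠ 1 → el y D.n c * el y D.n c = 1 →
      el x D.n c ≠ 1 ∧ el x D.n c * el x D.n c = 1 := by
    intro c hc h1 h2
    rw [Hy.mul hc] at h2
    refine ⟨fun h3 => h1 (by rw [H.eq_zero hc h3, el_nil]), ?_⟩
    rw [H.mul hc, Hy.eq_zero (D.mul_lt hc _) h2, el_nil]
  obtain ⟨g, hg⟩ := isConj_iff.1 (h _ _ (key a ha t1 t2).1 (key a ha t1 t2).2 (key b hb u1 u2).1 (key b hb u1 u2).2)
  obtain ⟨g', hg'⟩ := hT g
  exact hn (hg' _ _ (act_of_conj hg)).isConj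

/-- Many conjugates of a central involution. -/
theorem Gen.not_dvd_cent [Finite G] {S : Subgroup G} {x : ℕ → G} (H : Gen D S x) {z : ℕ} (hz : D.cinv z = true)
    {m r : ℕ} (hr : r % 2 = 1) (h1 : m * Nat.card (Subgroup.centralizer {el x D.n z} : Subgroup G) ≤ Nat.card G)
    (h2 : Nat.card G < m * (2 ^ D.n * r)) : ¬ r ∣ Nat.card (Subgroup.centralizer {el x D.n z} : Subgroup G) := by
  intro h3
  have h4 : 2 ^ D.n ∣ Nat.card (Subgroup.centralizer {el x D.n z} : Subgroup G) := by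
    rw [← H.card]
    exact Subgroup.card_dvd_of_le fun s hs => Subgroup.mem_centralizer_singleton_iff.2 ((H.cinv hz).2.2 s hs)
  have h5 : Nat.Coprime (2 ^ D.n) r := Nat.Coprime.pow_left _ ((Nat.coprime_two_left).2 (Nat.odd_iff.2 hr))
  have h6 := Nat.le_of_dvd Nat.card_pos (h5.mul_dvd_of_dvd_of_dvd h4 h3)
  have h7 := Nat.mul_le_mul_left m h6
  omega

/-- (H) for a group with one class of involutions. -/
theorem Gen.core_of_class {S : Subgroup G} {x : ℕ → G} (H : Gen D S x)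
    (h : ∀ a b : G, a ≠ 1 → a * a = 1 → b ≠ 1 → b * b = 1 → IsConj a b) {a b : ℕ}
    (hc : (D.zl.all D.cinv && Nat.blt a (2 ^ D.n) && Nat.blt b (2 ^ D.n) && Nat.beq (D.mul a a) 0 &&
      Nat.beq (D.mul b b) 0 && !Nat.beq (D.mul a b) (D.mul b a)) = true) :
    ∀ z ∈ D.zl, ∃ a b, a < D.N ∧ b < D.N ∧ IsConj (el x D.n z) (el x D.n a) ∧ IsConj (el x D.n z) (el x D.n b) ∧
      D.mul a b ≠ D.mul b a := by
  simp only [Bool.and_eq_true, List.all_eq_true] at hc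
  obtain ⟨⟨⟨⟨⟨h1, h2⟩, h3⟩, h4⟩, h5⟩, h6⟩ := hc
  have ha : a < D.N := blt_lt h2
  have hb : b < D.N := blt_lt h3
  have h7 : el x D.n a * el x D.n b ≠ el x D.n b * el x D.n a := fun h8 => by
    rw [H.mul ha, H.mul hb] at h8
    exact nbeq_ne h6 (H.inj (D.mul_lt ha _) (D.mul_lt hb _) h8)
  intro z hz
  obtain ⟨c1, c2, -⟩ := H.cinv (h1 z hz)
  refine ⟨a, b, ha, hb, h _ _ c1 c2 (fun h8 => h7 (by rw [h8, one_mul, mul_one])) ?_,
    h _ _ c1 c2 (fun h8 => h7 (by rw [h8, one_mul, mul_one])) ?_, nbeq_ne h6⟩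
  · rw [H.mul ha, beq_eq h4, el_nil]
  · rw [H.mul hb, beq_eq h5, el_nil]

end sep

end Cfsg.Agent.FS.Real
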