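import Mathlib

/-!
# Polycyclic presentations of 2-groups with verified tables (helper83, project FS, part C)

`PcD`: a presentation on `n` generators `x 0, …, x (n-1)` with relations `x i * x i = el (rel i i)`,
`x j * x i = x i * el (rel j i)` (`i < j`), where `el a` is the product of the `x i`, `i` a bit of `a`, in increasing
order, together with packed tables.  `PcD.ok` checks the tables.  `Gen D S x`: the relations hold and `S` is the set of
the `2 ^ n` distinct normal forms.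
-/

set_option autoImplicit false

namespace Cfsg.Agent.FS.Real

/-- bounded universal quantifier -/
noncomputable def allB (N : ℕ) (p : ℕ → Bool) : Bool := Nat.rec true (fun k r => p k && r) N

theorem allB_spec {N : ℕ} {p : ℕ → Bool} (h : allB N p = true) {k : ℕ} (hk : k < N) : p k = true := by
  induction N with
  | zero => omega
  | succ N ih =>
    have h1 : (p N && allB N p) = true := h
    rw [Bool.and_eq_true] at h1
    rcases Nat.lt_succ_iff_lt_or_eq.1 hk with h2 | h2
    · exact ih h1.2 h2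
    · rw [h2]
      exact h1.1

/-- bounded existential quantifier -/
noncomputable def anyB (N : ℕ) (p : ℕ → Bool) : Bool := Nat.rec false (fun k r => p k || r) N

theorem anyB_spec {N : ℕ} {p : ℕ → Bool} (h : anyB N p = true) : ∃ k, k < N ∧ p k = true := by
  induction N with
  | zero => cases h
  | succ N ih =>
    have h1 : (p N || anyB N p) = true := h
    rw [Bool.or_eq_true] at h1
    rcases h1 with h1 | h1
    · exact ⟨N, Nat.lt_succ_self _, h1⟩
    · obtain ⟨k, hk, h2⟩ := ih h1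
      exact ⟨k, Nat.lt_succ_of_lt hk, h2⟩

theorem beq_eq {a b : ℕ} (h : Nat.beq a b = true) : a = b := Nat.eq_of_beq_eq_true h

theorem blt_lt {a b : ℕ} (h : Nat.blt a b = true) : a < b := Eq.mp Nat.blt_eq h

theorem nbeq_ne {a b : ℕ} (h : (!Nat.beq a b) = true) : a ≠ b := by
  rintro rfl
  rw [Nat.beq_refl] at h
  cases h

/-- bit `k` of `a` -/
def tb (a k : ℕ) : Bool := Nat.beq ((a >>> k) % 2) 1

theorem tb_eq (a k : ℕ) : tb a k = a.testBit k := by
  unfold tb
  rw [Nat.testBit_eq_decide_div_mod_eq, Nat.shiftRight_eq_div_pow]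
  rcases Nat.mod_two_eq_zero_or_one (a / 2 ^ k) with h | h <;> rw [h] <;> rfl

/-- entry `k` of a packed table with entries of `w` bits -/
def get (w T k : ℕ) : ℕ := (T >>> (w * k)) % 2 ^ w

theorem get_lt (w T k : ℕ) : get w T k < 2 ^ w := Nat.mod_lt _ (Nat.two_pow_pos w)

section el

variable {G : Type*} [Monoid G]

/-- The product of the `x i`, `i < n` a bit of `a`, in increasing order. -/
noncomputable def el (x : ℕ → G) (n a : ℕ) : G := Nat.rec 1 (fun k r => bif tb a k then r * x k else r) n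

theorem el_zero (x : ℕ → G) (a : ℕ) : el x 0 a = 1 := rfl

theorem el_succ (x : ℕ → G) (n a : ℕ) : el x (n + 1) a = bif tb a n then el x n a * x n else el x n a := rfl

theorem el_congr (x : ℕ → G) {a b : ℕ} : ∀ n, (∀ k, k < n → a.testBit k = b.testBit k) → el x n a = el x n b
  | 0, _ => rfl
  | n + 1, h => by
    rw [el_succ, el_succ, tb_eq, tb_eq, h n (Nat.lt_succ_self _), el_congr x n fun k hk => h k (Nat.lt_succ_of_lt hk)]

theorem el_nil (x : ℕ → G) : ∀ n, el x n 0 = 1
  | 0 => rfl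
  | n + 1 => by rw [el_succ, tb_eq, Nat.zero_testBit, cond_false, el_nil x n]

theorem el_congr_x {x y : ℕ → G} (a : ℕ) : ∀ n, (∀ k, k < n → x k = y k) → el x n a = el y n a
  | 0, _ => rfl
  | n + 1, h => by
    rw [el_succ, el_succ, h n (Nat.lt_succ_self _), el_congr_x a n fun k hk => h k (Nat.lt_succ_of_lt hk)]

theorem map_el {H : Type*} [Monoid H] (f : G →* H) (x : ℕ → G) (a : ℕ) :
    ∀ n, f (el x n a) = el (fun i => f (x i)) n a
  | 0 => map_one f
  | n + 1 => by
    rw [el_succ, el_succ, ← map_el f x a n]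
    cases tb a n
    · rfl
    · exact map_mul f _ _

/-- concatenation of normal forms -/
theorem el_add (x : ℕ → G) {m a w : ℕ} (ha : a < 2 ^ m) (hw : w % 2 ^ m = 0) :
    ∀ n, el x n (a + w) = el x n a * el x n w
  | 0 => (mul_one _).symm
  | n + 1 => by
    obtain ⟨c, rfl⟩ : ∃ c, w = 2 ^ m * c := Nat.dvd_of_mod_eq_zero hw
    have h1 : ∀ k, (a + 2 ^ m * c).testBit k = if k < m then a.testBit k else c.testBit (k - m) := fun k => by
      rw [Nat.add_comm]
      exact Nat.testBit_two_pow_mul_add c ha k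
    have h2 : ∀ k, (2 ^ m * c).testBit k = if k < m then false else c.testBit (k - m) := fun k => by
      have := Nat.testBit_two_pow_mul_add c (Nat.two_pow_pos m) k
      rw [Nat.add_zero, Nat.zero_testBit] at this
      exact this
    rw [el_succ, el_succ, el_succ, tb_eq, tb_eq, tb_eq, h1, h2, el_add x ha hw n]
    by_cases hn : n < m
    · have h3 : el x n (2 ^ m * c) = 1 := by
        rw [← el_nil x n]
        refine el_congr x n fun k hk => ?_
        rw [h2, if_pos (hk.trans hn), Nat.zero_testBit]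
      rw [if_pos hn, if_pos hn, h3, cond_false, mul_one, mul_one]
    · have h3 : a.testBit n = false :=
        Nat.testBit_lt_two_pow (ha.trans_le (Nat.pow_le_pow_right (by norm_num) (by omega)))
      rw [if_neg hn, if_neg hn, h3, cond_false]
      cases c.testBit (n - m)
      · rfl
      · exact mul_assoc _ _ _

theorem el_two_pow (x : ℕ → G) {k : ℕ} : ∀ n, k < n → el x n (2 ^ k) = x k
  | 0, h => by omega
  | n + 1, h => by
    rw [el_succ, tb_eq, Nat.testBit_two_pow]
    rcases Nat.lt_succ_iff_lt_or_eq.1 h with h1 | h1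
    · rw [decide_eq_false h1.ne, cond_false, el_two_pow x n h1]
    · have h2 : el x n (2 ^ k) = 1 := by
        rw [← el_nil x n]
        refine el_congr x n fun j hj => ?_
        rw [Nat.testBit_two_pow, Nat.zero_testBit, decide_eq_false (by omega)]
      rw [decide_eq_true h1, cond_true, h2, one_mul, h1]

theorem el_add_two_pow (x : ℕ → G) {n k a : ℕ} (hk : k < n) (ha : a < 2 ^ k) :
    el x n (a + 2 ^ k) = el x n a * x k := by
  rw [el_add x ha (Nat.mod_self _), el_two_pow x n hk]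

theorem el_mem {G : Type*} [Group G] {x : ℕ → G} {A : Subgroup G} (a : ℕ) :
    ∀ n, (∀ i, i < n → x i ∈ A) → el x n a ∈ A
  | 0, _ => A.one_mem
  | n + 1, h => by
    have h1 := el_mem a n fun i hi => h i (Nat.lt_succ_of_lt hi)
    rw [el_succ]
    cases tb a n
    · exact h1
    · exact A.mul_mem h1 (h n (Nat.lt_succ_self _))

end el

/-- A presentation with tables. -/
structure PcD where
  /-- number of generators -/
  n : ℕ
  /-- relations -/
  rl : ℕ
  /-- right multiplication by the generators -/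
  rt : ℕ
  /-- right multiplication by the inverses of the generators -/
  lt : ℕ
  /-- descent to the centre -/
  nx : ℕ
  /-- the involutions of the centre -/
  zl : List ℕ

namespace PcD

variable (D : PcD)

/-- the order -/
def N : ℕ := 2 ^ D.n

/-- the right sides of the relations -/
def rel (j i : ℕ) : ℕ := get D.n D.rl (D.n * j + i)

/-- right multiplication by `x i` -/
def R (i a : ℕ) : ℕ := get D.n D.rt (2 ^ D.n * i + a)

/-- right multiplication by `(x i)⁻¹` -/
def L (i a : ℕ) : ℕ := get D.n D.lt (2 ^ D.n * i + a)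

/-- multiplication by the first `k` letters of `b` -/
noncomputable def mulA (a b k : ℕ) : ℕ := Nat.rec a (fun k r => bif tb b k then D.R k r else r) k

/-- multiplication -/
noncomputable def mul (a b : ℕ) : ℕ := D.mulA a b D.n

/-- division by the first `k` letters of `b` -/
noncomputable def divA (b k : ℕ) : ℕ → ℕ :=
  Nat.rec (fun a => a) (fun k r a => bif tb b k then r (D.L k a) else r a) k

/-- division -/
noncomputable def div (a b : ℕ) : ℕ := D.divA b D.n a

/-- conjugation `x i * a * (x i)⁻¹` -/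
noncomputable def cjg (i a : ℕ) : ℕ := D.L i (D.mul (2 ^ i) a)

/-- conjugation `s * a * s⁻¹` -/
noncomputable def cj (s a : ℕ) : ℕ := D.div (D.mul s a) s

/-- one step of the descent -/
noncomputable def nxt (a : ℕ) : ℕ :=
  bif Nat.blt (get 4 D.nx a) D.n then D.div (D.cjg (get 4 D.nx a) a) a
  else bif Nat.beq (get 4 D.nx a) 15 then a else D.mul a a

/-- the descent -/
noncomputable def desc (a k : ℕ) : ℕ := Nat.rec a (fun _ r => D.nxt r) k

/-- check: shape of the relations -/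
noncomputable def ok1 : Bool :=
  allB D.n fun j => allB (j + 1) fun i => Nat.beq (D.rel j i % 2 ^ (i + 1)) 0

/-- check: the table, low part -/
noncomputable def ok2 : Bool :=
  allB D.n fun i => allB (2 ^ i) fun a => Nat.beq (D.R i a) (a + 2 ^ i) && Nat.beq (D.R i (a + 2 ^ i)) (a + D.rel i i)

/-- check: the table, high part -/
noncomputable def ok3 : Bool :=
  allB D.n fun k => allB k fun i => allB (2 ^ k) fun a => Nat.beq (D.R i (a + 2 ^ k)) (D.mul (D.R i a) (D.rel k i))

/-- check: the table of the inverses -/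
noncomputable def ok4 : Bool := allB D.n fun i => allB (2 ^ D.n) fun a => Nat.beq (D.R i (D.L i a)) a

/-- check: the descent -/
noncomputable def ok5 : Bool :=
  (allB (2 ^ D.n) fun a => Nat.beq a 0 || D.zl.any fun z => Nat.beq z (D.desc a D.n)) &&
    D.zl.all fun z => Nat.blt z (2 ^ D.n) && !Nat.beq z 0

/-- all checks -/
noncomputable def ok : Bool := D.ok1 && D.ok2 && D.ok3 && D.ok4 && D.ok5

theorem N_pos : 0 < D.N := Nat.two_pow_pos _

theorem R_lt (i a : ℕ) : D.R i a < D.N := get_lt _ _ _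

theorem L_lt (i a : ℕ) : D.L i a < D.N := get_lt _ _ _

theorem rel_lt (j i : ℕ) : D.rel j i < D.N := get_lt _ _ _

theorem two_pow_lt {i : ℕ} (hi : i < D.n) : 2 ^ i < D.N := Nat.pow_lt_pow_right (by norm_num) hi

theorem mulA_succ (a b k : ℕ) : D.mulA a b (k + 1) = bif tb b k then D.R k (D.mulA a b k) else D.mulA a b k := rfl

theorem divA_succ (b k a : ℕ) : D.divA b (k + 1) a = bif tb b k then D.divA b k (D.L k a) else D.divA b k a := rfl

theorem mulA_lt {a : ℕ} (ha : a < D.N) (b : ℕ) : ∀ k, D.mulA a b k < D.N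
  | 0 => ha
  | k + 1 => by
    rw [mulA_succ]
    cases tb b k
    · exact mulA_lt ha b k
    · exact D.R_lt _ _

theorem mul_lt {a : ℕ} (ha : a < D.N) (b : ℕ) : D.mul a b < D.N := D.mulA_lt ha b _

theorem divA_lt (b : ℕ) : ∀ k {a : ℕ}, a < D.N → D.divA b k a < D.N
  | 0, _, ha => ha
  | k + 1, a, ha => by
    rw [divA_succ]
    cases tb b k
    · exact divA_lt b k ha
    · exact divA_lt b k (D.L_lt _ _)

theorem div_lt {a : ℕ} (ha : a < D.N) (b : ℕ) : D.div a b < D.N := D.divA_lt b _ ha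

theorem cjg_lt (i a : ℕ) : D.cjg i a < D.N := D.L_lt _ _

theorem cj_lt {s : ℕ} (hs : s < D.N) (a : ℕ) : D.cj s a < D.N := D.div_lt (D.mul_lt hs _) _

theorem nxt_lt {a : ℕ} (ha : a < D.N) : D.nxt a < D.N := by
  unfold nxt
  cases Nat.blt (get 4 D.nx a) D.n
  · cases Nat.beq (get 4 D.nx a) 15
    · exact D.mul_lt ha _
    · exact ha
  · exact D.div_lt (D.cjg_lt _ _) _

/-- The checks as propositions. -/
structure Ok : Prop where
  rel_mod : ∀ {i j : ℕ}, i ≤ j → j < D.n → D.rel j i % 2 ^ (i + 1) = 0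
  low : ∀ {i a : ℕ}, i < D.n → a < 2 ^ i → D.R i a = a + 2 ^ i
  mid : ∀ {i a : ℕ}, i < D.n → a < 2 ^ i → D.R i (a + 2 ^ i) = a + D.rel i i
  high : ∀ {i k a : ℕ}, i < k → k < D.n → a < 2 ^ k → D.R i (a + 2 ^ k) = D.mul (D.R i a) (D.rel k i)
  RL : ∀ {i a : ℕ}, i < D.n → a < D.N → D.R i (D.L i a) = a
  desc : ∀ {a : ℕ}, a < D.N → a ≠ 0 → D.desc a D.n ∈ D.zl
  z_lt : ∀ {z : ℕ}, z ∈ D.zl → z < D.N
  z_ne : ∀ {z : ℕ}, z ∈ D.zl → z ≠ 0

theorem ok_of (h1 : D.ok1 = true) (h2 : D.ok2 = true) (h3 : D.ok3 = true) (h4 : D.ok4 = true) (h5 : D.ok5 = true) :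
    D.Ok := by
  unfold ok5 at h5
  rw [Bool.and_eq_true, List.all_eq_true] at h5
  refine ⟨fun hi hj => beq_eq (allB_spec (allB_spec h1 hj) (Nat.lt_succ_of_le hi)), fun hi ha => ?_, fun hi ha => ?_,
    fun hi hk ha => beq_eq (allB_spec (allB_spec (allB_spec h3 hk) hi) ha),
    fun hi ha => beq_eq (allB_spec (allB_spec h4 hi) ha), fun {a} ha h0 => ?_, fun {z} hz => ?_, fun {z} hz => ?_⟩
  · have h := allB_spec (allB_spec h2 hi) ha
    rw [Bool.and_eq_true] at h
    exact beq_eq h.1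
  · have h := allB_spec (allB_spec h2 hi) ha
    rw [Bool.and_eq_true] at h
    exact beq_eq h.2
  · have h := allB_spec h5.1 ha
    rw [Bool.or_eq_true, List.any_eq_true] at h
    rcases h with h | ⟨z, hz, h⟩
    · exact absurd (beq_eq h) h0
    · rw [← beq_eq h]
      exact hz
  · have h := h5.2 z hz
    rw [Bool.and_eq_true] at h
    exact blt_lt h.1
  · have h := h5.2 z hz
    rw [Bool.and_eq_true] at h
    exact nbeq_ne h.2

theorem ok_spec (h : D.ok = true) : D.Ok := by
  unfold ok at h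
  simp only [Bool.and_eq_true] at h
  exact D.ok_of h.1.1.1.1 h.1.1.1.2 h.1.1.2 h.1.2 h.2

variable {D}

theorem Ok.mulA_divA (h : D.Ok) (b : ℕ) : ∀ k, k ≤ D.n → ∀ {a : ℕ}, a < D.N → D.mulA (D.divA b k a) b k = a
  | 0, _, _, _ => rfl
  | k + 1, hk, a, ha => by
    rw [divA_succ, mulA_succ]
    cases tb b k
    · exact h.mulA_divA b k (by omega) ha
    · rw [cond_true, cond_true, h.mulA_divA b k (by omega) (D.L_lt _ _), h.RL hk ha]

theorem Ok.mul_div (h : D.Ok) {a : ℕ} (ha : a < D.N) (b : ℕ) : D.mul (D.div a b) b = a := h.mulA_divA b _ le_rfl ha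

theorem Ok.zero_mulA (h : D.Ok) (b : ℕ) : ∀ k, k ≤ D.n → D.mulA 0 b k = b % 2 ^ k
  | 0, _ => by rw [pow_zero, Nat.mod_one]; rfl
  | k + 1, hk => by
    rw [mulA_succ, h.zero_mulA b k (by omega), Nat.mod_pow_succ, tb_eq, Nat.testBit_eq_decide_div_mod_eq]
    rcases Nat.mod_two_eq_zero_or_one (b / 2 ^ k) with h1 | h1
    · rw [h1]
      rfl
    · rw [h1, decide_eq_true rfl, cond_true, h.low hk (Nat.mod_lt _ (Nat.two_pow_pos k)), mul_one]

theorem Ok.zero_mul (h : D.Ok) {b : ℕ} (hb : b < D.N) : D.mul 0 b = b := by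
  unfold mul
  rw [h.zero_mulA b _ le_rfl]
  exact Nat.mod_eq_of_lt hb

end PcD

section sound

variable {G : Type*} [Group G] {D : PcD} {x : ℕ → G}

/-- The relations. -/
structure Rel (D : PcD) (x : ℕ → G) : Prop where
  sq : ∀ i, i < D.n → x i * x i = el x D.n (D.rel i i)
  cj : ∀ i j, i < j → j < D.n → x j * x i = x i * el x D.n (D.rel j i)

theorem mulA_sound {i : ℕ} (h : ∀ l, i ≤ l → l < D.n → ∀ r, r < D.N → el x D.n r * x l = el x D.n (D.R l r))
    {r w : ℕ} (hr : r < D.N) (hw : w % 2 ^ i = 0) :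
    ∀ k, k ≤ D.n → el x D.n r * el x k w = el x D.n (D.mulA r w k)
  | 0, _ => mul_one _
  | k + 1, hk => by
    have ih := mulA_sound h hr hw k (by omega)
    rw [el_succ, PcD.mulA_succ]
    cases hb : tb w k
    · exact ih
    · have hik : i ≤ k := by
        by_contra hik
        have h1 := Nat.testBit_mod_two_pow w i k
        rw [hw, Nat.zero_testBit, ← tb_eq, hb, decide_eq_true (show k < i by omega)] at h1
        cases h1
      rw [cond_true, cond_true, ← mul_assoc, ih, h k hik hk _ (D.mulA_lt hr _ _)]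

theorem Rel.R_aux (hD : D.Ok) (H : Rel D x) :
    ∀ m, m ≤ D.n → ∀ l, D.n - m ≤ l → l < D.n → ∀ r, r < D.N → el x D.n r * x l = el x D.n (D.R l r)
  | 0, _, l, h1, h2, _, _ => by omega
  | m + 1, hm, l, h1, h2, r, hr => by
    have ih := H.R_aux hD m (by omega)
    rcases Nat.lt_or_ge l (D.n - m) with h3 | h3
    swap
    · exact ih l h3 h2 r hr
    have ih' : ∀ l', l + 1 ≤ l' → l' < D.n → ∀ r, r < D.N → el x D.n r * x l' = el x D.n (D.R l' r) :=
      fun l' h4 h5 => ih l' (by omega) h5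
    have key : ∀ k, l + 1 + k ≤ D.n → ∀ a, a < 2 ^ (l + 1 + k) → el x D.n a * x l = el x D.n (D.R l a) := by
      intro k
      induction k with
      | zero =>
        intro _ a ha
        rcases Nat.lt_or_ge a (2 ^ l) with h4 | h4
        · rw [hD.low h2 h4, el_add_two_pow x h2 h4]
        · obtain ⟨b, rfl⟩ : ∃ b, a = b + 2 ^ l := ⟨a - 2 ^ l, by omega⟩
          have hb : b < 2 ^ l := by
            rw [Nat.add_zero, pow_succ] at ha
            omega
          have hb' : b < 2 ^ (l + 1) := by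
            rw [pow_succ]
            omega
          rw [hD.mid h2 hb, el_add_two_pow x h2 hb, mul_assoc, H.sq l h2, el_add x hb' (hD.rel_mod le_rfl h2)]
      | succ k ihk =>
        intro hk a ha
        rcases Nat.lt_or_ge a (2 ^ (l + 1 + k)) with h4 | h4
        · exact ihk (by omega) a h4
        · obtain ⟨b, rfl⟩ : ∃ b, a = b + 2 ^ (l + 1 + k) := ⟨a - 2 ^ (l + 1 + k), by omega⟩
          have hb : b < 2 ^ (l + 1 + k) := by
            rw [← Nat.add_assoc, pow_succ] at ha
            omega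
          have hk' : l + 1 + k < D.n := by omega
          rw [hD.high (by omega) hk' hb, el_add_two_pow x hk' hb, mul_assoc, H.cj l _ (by omega) hk', ← mul_assoc,
            ihk (by omega) b hb]
          exact mulA_sound ih' (D.R_lt _ _) (hD.rel_mod (by omega) hk') _ le_rfl
    refine key (D.n - (l + 1)) (by omega) r ?_
    rw [show l + 1 + (D.n - (l + 1)) = D.n by omega]
    exact hr

theorem Rel.R_sound (hD : D.Ok) (H : Rel D x) {i a : ℕ} (hi : i < D.n) (ha : a < D.N) :
    el x D.n a * x i = el x D.n (D.R i a) := H.R_aux hD D.n le_rfl i (by omega) hi a ha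

theorem Rel.mul_sound (hD : D.Ok) (H : Rel D x) {a : ℕ} (ha : a < D.N) (b : ℕ) :
    el x D.n a * el x D.n b = el x D.n (D.mul a b) :=
  mulA_sound (i := 0) (fun _ _ hl _ hr => H.R_sound hD hl hr) ha (Nat.mod_one _) _ le_rfl

theorem Rel.L_sound (hD : D.Ok) (H : Rel D x) {i a : ℕ} (hi : i < D.n) (ha : a < D.N) :
    el x D.n a * (x i)⁻¹ = el x D.n (D.L i a) := by
  rw [mul_inv_eq_iff_eq_mul, H.R_sound hD hi (D.L_lt _ _), hD.RL hi ha]

theorem Rel.div_sound (hD : D.Ok) (H : Rel D x) {a : ℕ} (ha : a < D.N) (b : ℕ) :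
    el x D.n a * (el x D.n b)⁻¹ = el x D.n (D.div a b) := by
  rw [mul_inv_eq_iff_eq_mul, H.mul_sound hD (D.div_lt ha _), hD.mul_div ha]

theorem Rel.cjg_sound (hD : D.Ok) (H : Rel D x) {i : ℕ} (hi : i < D.n) (a : ℕ) :
    x i * el x D.n a * (x i)⁻¹ = el x D.n (D.cjg i a) := by
  unfold PcD.cjg
  rw [← H.L_sound hD hi (D.mul_lt (D.two_pow_lt hi) _), ← H.mul_sound hD (D.two_pow_lt hi), el_two_pow x _ hi]

theorem Rel.cj_sound (hD : D.Ok) (H : Rel D x) {s : ℕ} (hs : s < D.N) (a : ℕ) :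
    el x D.n s * el x D.n a * (el x D.n s)⁻¹ = el x D.n (D.cj s a) := by
  unfold PcD.cj
  rw [← H.div_sound hD (D.mul_lt hs _), ← H.mul_sound hD hs]

/-- **Descent**: a subgroup normalized by the generators which contains a non-trivial normal form contains one of the
listed central involutions. -/
theorem Rel.descent (hD : D.Ok) (H : Rel D x) {A : Subgroup G}
    (hA : ∀ i, i < D.n → ∀ a, a < D.N → el x D.n a ∈ A → x i * el x D.n a * (x i)⁻¹ ∈ A) {a : ℕ} (ha : a < D.N)
    (h0 : a ≠ 0) (h : el x D.n a ∈ A) : ∃ z ∈ D.zl, el x D.n z ∈ A := by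
  have key : ∀ k, D.desc a k < D.N ∧ el x D.n (D.desc a k) ∈ A := by
    intro k
    induction k with
    | zero => exact ⟨ha, h⟩
    | succ k ih =>
      obtain ⟨h1, h2⟩ := ih
      have h3 : D.desc a (k + 1) = D.nxt (D.desc a k) := rfl
      rw [h3]
      refine ⟨D.nxt_lt h1, ?_⟩
      unfold PcD.nxt
      cases hc : Nat.blt (get 4 D.nx (D.desc a k)) D.n
      · cases Nat.beq (get 4 D.nx (D.desc a k)) 15
        · rw [cond_false, cond_false, ← H.mul_sound hD h1]
          exact A.mul_mem h2 h2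
        · exact h2
      · have hc' := blt_lt hc
        rw [cond_true, ← H.div_sound hD (D.cjg_lt _ _), ← H.cjg_sound hD hc']
        exact A.mul_mem (hA _ hc' _ h1 h2) (A.inv_mem h2)
  exact ⟨_, hD.desc ha h0, (key _).2⟩

/-- The set of the normal forms. -/
def Rel.sub (hD : D.Ok) (H : Rel D x) : Subgroup G where
  carrier := {g | ∃ a, a < D.N ∧ el x D.n a = g}
  one_mem' := ⟨0, D.N_pos, el_nil x _⟩
  mul_mem' := by
    rintro _ _ ⟨a, ha, rfl⟩ ⟨b, -, rfl⟩
    exact ⟨_, D.mul_lt ha b, (H.mul_sound hD ha b).symm⟩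
  inv_mem' := by
    rintro _ ⟨a, -, rfl⟩
    refine ⟨_, D.div_lt D.N_pos a, ?_⟩
    rw [← H.div_sound hD D.N_pos, el_nil, one_mul]

/-- `S` is the group of order `2 ^ n` with the presentation `D`, on the generators `x`. -/
structure Gen (D : PcD) (S : Subgroup G) (x : ℕ → G) : Prop where
  ok : D.Ok
  rel : Rel D x
  ne : ∀ z ∈ D.zl, el x D.n z ≠ 1
  mem : ∀ g, g ∈ S ↔ ∃ a, a < D.N ∧ el x D.n a = g

theorem Rel.gen (hD : D.Ok) (H : Rel D x) (hne : ∀ z ∈ D.zl, el x D.n z ≠ 1) : Gen D (H.sub hD) x :=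
  ⟨hD, H, hne, fun _ => Iff.rfl⟩

namespace Gen

variable {S : Subgroup G} (H : Gen D S x)
include H

theorem el_mem {a : ℕ} (ha : a < D.N) : el x D.n a ∈ S := (H.mem _).2 ⟨a, ha, rfl⟩

theorem x_mem {i : ℕ} (hi : i < D.n) : x i ∈ S := by
  rw [← el_two_pow x _ hi]
  exact H.el_mem (D.two_pow_lt hi)

theorem el_mem' (a : ℕ) : el x D.n a ∈ S := Real.el_mem a _ fun _ hi => H.x_mem hi

theorem le_of {A : Subgroup G} (h : ∀ i, i < D.n → x i ∈ A) : S ≤ A := by
  intro g hg
  obtain ⟨a, -, rfl⟩ := (H.mem g).1 hg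
  exact Real.el_mem a _ h

theorem mul {a : ℕ} (ha : a < D.N) (b : ℕ) : el x D.n a * el x D.n b = el x D.n (D.mul a b) :=
  H.rel.mul_sound H.ok ha b

theorem div {a : ℕ} (ha : a < D.N) (b : ℕ) : el x D.n a * (el x D.n b)⁻¹ = el x D.n (D.div a b) :=
  H.rel.div_sound H.ok ha b

theorem cj {s : ℕ} (hs : s < D.N) (a : ℕ) : el x D.n s * el x D.n a * (el x D.n s)⁻¹ = el x D.n (D.cj s a) :=
  H.rel.cj_sound H.ok hs a

theorem eq_zero {a : ℕ} (ha : a < D.N) (h : el x D.n a = 1) : a = 0 := by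
  by_contra h0
  obtain ⟨z, hz, h1⟩ := H.rel.descent H.ok (A := ⊥) (fun i _ b _ hb => by
    rw [Subgroup.mem_bot] at hb ⊢
    rw [hb, mul_one, mul_inv_cancel]) ha h0 (Subgroup.mem_bot.2 h)
  exact H.ne z hz (Subgroup.mem_bot.1 h1)

theorem inj {a b : ℕ} (ha : a < D.N) (hb : b < D.N) (h : el x D.n a = el x D.n b) : a = b := by
  have h1 : D.div a b = 0 := H.eq_zero (D.div_lt ha b) (by rw [← H.div ha, h, mul_inv_cancel])
  rw [← H.ok.mul_div ha b, h1, H.ok.zero_mul hb]

/-- the enumeration -/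
noncomputable def enum : Fin D.N ≃ S :=
  Equiv.ofBijective (fun a => ⟨el x D.n a, H.el_mem a.2⟩) ⟨fun a b h => Fin.ext (H.inj a.2 b.2 (congrArg Subtype.val h)), by
    rintro ⟨g, hg⟩
    obtain ⟨a, ha, rfl⟩ := (H.mem g).1 hg
    exact ⟨⟨a, ha⟩, rfl⟩⟩

theorem card : Nat.card S = 2 ^ D.n := by
  rw [← Nat.card_congr H.enum, Nat.card_eq_fintype_card, Fintype.card_fin]
  rfl

theorem finite : Finite S := Finite.of_equiv _ H.enum

theorem isPGroup : IsPGroup 2 S := IsPGroup.of_card H.card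

/-- a normal subgroup of `S` contains a listed involution -/
theorem exists_z {A : Subgroup G} (hA : A ≤ S) (hn : ∀ s ∈ S, ∀ a ∈ A, s * a * s⁻¹ ∈ A) (h0 : A ≠ ⊥) :
    ∃ z ∈ D.zl, el x D.n z ∈ A := by
  obtain ⟨⟨g, hg⟩, h1⟩ := (Subgroup.ne_bot_iff_exists_ne_one.1 h0)
  obtain ⟨a, ha, rfl⟩ := (H.mem g).1 (hA hg)
  refine H.rel.descent H.ok (fun i hi b _ hb => hn _ (H.x_mem hi) _ hb) ha ?_ hg
  rintro rfl
  exact h1 (Subtype.ext (el_nil x _))

/-- the central involutions are listed -/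
theorem central {t : G} (ht : t ∈ S) (h1 : t ≠ 1) (h2 : t * t = 1) (hc : ∀ s ∈ S, s * t = t * s) :
    ∃ z ∈ D.zl, el x D.n z = t := by
  have hz : ∀ a ∈ Subgroup.zpowers t, a = 1 ∨ a = t := by
    intro a ha
    have h3 : orderOf t = 2 := orderOf_eq_prime (by rw [pow_two, h2]) h1
    have h4 : IsOfFinOrder t := by
      rw [← orderOf_pos_iff, h3]
      norm_num
    obtain ⟨k, rfl⟩ := (h4.mem_powers_iff_mem_zpowers).2 ha
    show t ^ k = 1 ∨ t ^ k = t
    rw [← pow_mod_orderOf, h3]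
    rcases Nat.mod_two_eq_zero_or_one k with h5 | h5 <;> rw [h5]
    · exact Or.inl (pow_zero _)
    · exact Or.inr (pow_one _)
  obtain ⟨z, hzl, h3⟩ := H.exists_z (A := Subgroup.zpowers t) ((Subgroup.zpowers_le).2 ht) (fun s hs a ha => by
    rcases hz a ha with rfl | rfl
    · rw [mul_one, mul_inv_cancel]
      exact Subgroup.one_mem _
    · rw [hc s hs, mul_inv_cancel_right]
      exact ha) (by
    rw [Ne, Subgroup.zpowers_eq_bot]
    exact h1)
  exact ⟨z, hzl, (hz _ h3).resolve_left (H.ne z hzl)⟩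

/-- The isomorphism between two groups with the same presentation. -/
theorem exists_equiv {G' : Type*} [Group G'] {S' : Subgroup G'} {y : ℕ → G'} (H' : Gen D S' y) :
    ∃ e : S ≃* S', ∀ a, ((e ⟨el x D.n a, H.el_mem' a⟩ : S') : G') = el y D.n a := by
  have h1 : ∀ (a : ℕ) (ha : a < D.N), (H.enum.symm.trans H'.enum) ⟨el x D.n a, H.el_mem ha⟩ =
      ⟨el y D.n a, H'.el_mem ha⟩ := by
    intro a ha
    have h2 : (⟨el x D.n a, H.el_mem ha⟩ : S) = H.enum ⟨a, ha⟩ := rfl
    rw [h2, Equiv.trans_apply, Equiv.symm_apply_apply]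
    rfl
  refine ⟨{ H.enum.symm.trans H'.enum with map_mul' := ?_ }, fun a => ?_⟩
  · rintro ⟨g, hg⟩ ⟨k, hk⟩
    obtain ⟨a, ha, rfl⟩ := (H.mem g).1 hg
    obtain ⟨b, hb, rfl⟩ := (H.mem k).1 hk
    have h2 : (⟨el x D.n a, hg⟩ * ⟨el x D.n b, hk⟩ : S) = ⟨el x D.n (D.mul a b), H.el_mem (D.mul_lt ha b)⟩ :=
      Subtype.ext (H.mul ha b)
    show (H.enum.symm.trans H'.enum) _ = (H.enum.symm.trans H'.enum) _ * (H.enum.symm.trans H'.enum) _
    rw [h2, h1 _ (D.mul_lt ha b), h1 a ha, h1 b hb]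
    exact Subtype.ext (H'.mul ha b).symm
  · have h2 : (⟨el x D.n a, H.el_mem' a⟩ : S) = ⟨el x D.n (D.mul 0 a), H.el_mem (D.mul_lt D.N_pos a)⟩ :=
      Subtype.ext (show el x D.n a = el x D.n (D.mul 0 a) by rw [← H.mul D.N_pos, el_nil, one_mul])
    show (((H.enum.symm.trans H'.enum) _ : S') : G') = _
    rw [h2, h1 _ (D.mul_lt D.N_pos a)]
    show el y D.n (D.mul 0 a) = _
    rw [← H'.mul D.N_pos, el_nil, one_mul]

/-- The Sylow subgroup. -/
theorem exists_sylow [Finite G] {m : ℕ} (hm : Nat.card G = 2 ^ D.n * m) (ho : ¬ 2 ∣ m) :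
    ∃ T : Sylow 2 G, (T : Subgroup G) = S := by
  have : Fact (Nat.Prime 2) := ⟨Nat.prime_two⟩
  have h1 := S.card_mul_index
  rw [H.card, hm] at h1
  have h2 : S.index = m := Nat.eq_of_mul_eq_mul_left (Nat.two_pow_pos _) h1
  exact ⟨H.isPGroup.toSylow (by rw [h2]; exact ho), rfl⟩

end Gen

/-! ### change of the presentation -/

/-- the index of a normal form in new generators -/
noncomputable def PcD.img (D : PcD) (w : ℕ → ℕ) (n a : ℕ) : ℕ :=
  Nat.rec 0 (fun k r => bif tb a k then D.mul r (w k) else r) n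

theorem PcD.img_succ (D : PcD) (w : ℕ → ℕ) (n a : ℕ) :
    D.img w (n + 1) a = bif tb a n then D.mul (D.img w n a) (w n) else D.img w n a := rfl

theorem PcD.img_lt (D : PcD) (w : ℕ → ℕ) (a : ℕ) : ∀ n, D.img w n a < D.N
  | 0 => D.N_pos
  | n + 1 => by
    rw [PcD.img_succ]
    cases tb a n
    · exact D.img_lt w a n
    · exact D.mul_lt (D.img_lt w a n) _

theorem Gen.el_img {S : Subgroup G} (H : Gen D S x) (w : ℕ → ℕ) (a : ℕ) :
    ∀ n, el (fun i => el x D.n (w i)) n a = el x D.n (D.img w n a)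
  | 0 => (el_nil x _).symm
  | n + 1 => by
    rw [el_succ, PcD.img_succ, H.el_img w a n]
    cases tb a n
    · rfl
    · exact H.mul (D.img_lt w a n) _

/-- check for a change of the presentation; `W` packs the new generators -/
noncomputable def PcD.chg (D E : PcD) (W : ℕ) : Bool :=
  Nat.beq E.n D.n &&
  (allB E.n fun i => Nat.beq (D.mul (get D.n W i) (get D.n W i)) (D.img (get D.n W) E.n (E.rel i i))) &&
  (allB E.n fun j => allB j fun i => Nat.beq (D.mul (get D.n W j) (get D.n W i))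
    (D.mul (get D.n W i) (D.img (get D.n W) E.n (E.rel j i)))) &&
  E.zl.all fun z => !Nat.beq (D.img (get D.n W) E.n z) 0

theorem Gen.change {S : Subgroup G} (H : Gen D S x) {E : PcD} (hE : E.Ok) {W : ℕ} (h : D.chg E W = true) :
    Gen E S fun i => el x D.n (get D.n W i) := by
  unfold PcD.chg at h
  simp only [Bool.and_eq_true, List.all_eq_true] at h
  obtain ⟨⟨⟨h1, h2⟩, h3⟩, h4⟩ := h
  have hR : Rel E fun i => el x D.n (get D.n W i) := by
    refine ⟨fun i hi => ?_, fun i j hij hj => ?_⟩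
    · rw [H.el_img, H.mul (get_lt _ _ _), beq_eq (allB_spec h2 hi)]
    · rw [H.el_img, H.mul (get_lt _ _ _), H.mul (get_lt _ _ _), beq_eq (allB_spec (allB_spec h3 hj) hij)]
  have hG := hR.gen hE fun z hz h5 => by
    rw [H.el_img] at h5
    exact nbeq_ne (h4 z hz) (H.eq_zero (D.img_lt _ _ _) h5)
  have h5 : hR.sub hE = S := by
    have := H.finite
    refine Subgroup.eq_of_le_of_card_ge (hG.le_of fun i _ => H.el_mem' _) ?_
    rw [hG.card, H.card, beq_eq h1]
  rw [← h5]
  exact hG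

end sound

end Cfsg.Agent.FS.Real
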