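import Cfsg.Agent.FS.Real.Tab
import Cfsg.Agent.FS.Real.Grp

/-!
# Direct products (helper83, project FS, part C; generated)
-/

set_option autoImplicit false

namespace Cfsg.Agent.FS.Real

namespace PD8D8

/-- the model -/
noncomputable def M := (k2.mSL 3).prod (k2.mSL 3) 9 bd32

/-- the codes of the generators -/
def X : ℕ → ℕ := get 18 0x9744615116b446235188e462319

theorem ex : ∃ x, (M).RX dD8D8 X x := Mdl.exists_RX (W := get 1 0x0) (by decide +kernel)

/-- the generators -/
noncomputable def x := Classical.choose ex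

theorem hx : (M).RX dD8D8 X x := Classical.choose_spec ex

theorem rels : (M).rels dD8D8 X = true := by decide +kernel

theorem cores : (M).cores dD8D8 X [⟨4, 1, 2, 0x222b9, 0, 0x2238b, 0⟩,
    ⟨32, 8, 16, 0x34b11, 0, 0x26311, 0⟩,
    ⟨36, 9, 10, 0x334f1, 0, 0xc54a, 0⟩] = true := by decide +kernel

theorem ress : (M).ress dD8D8 X [⟨1, 0x223e1, 0, 2, 3⟩,
    ⟨2, 0x2234b, 0, 2, 3⟩,
    ⟨8, 0x34b11, 0, 2, 3⟩,
    ⟨16, 0x34f11, 0, 2, 3⟩] = true := by decide +kernel

theorem card : Nat.card (M).T = 28224 := card_prod_eq card_SL32 card_SL32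

theorem fin : Finite (M).T :=  Nat.finite_of_card_ne_zero (by rw [card]; norm_num)

theorem rz : Rz dD8D8 _ x :=
  haveI := fin
  hx.rz dD8D8_ok (m := 441) card (by norm_num) rels cores ress (l := [(1, 2), (2, 3), (8, 16), (16, 24), (1, 5), (8, 40)]) (by decide +kernel)

end PD8D8

theorem models_D8D8 : Models dD8D8 1 := models_one PD8D8.rz

namespace PD8D16

/-- the model -/
noncomputable def M := (k2.mSL 3).prod (zL217.mdl) 9 bd32

/-- the codes of the generators -/
def X : ℕ → ℕ := get 29 0x24234444e34922300bc311814618884000f4420006141000391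

theorem ex : ∃ x, (M).RX dD8D16 X x := Mdl.exists_RX (W := get 1 0x0) (by decide +kernel)

/-- the generators -/
noncomputable def x := Classical.choose ex

theorem hx : (M).RX dD8D16 X x := Classical.choose_spec ex

theorem rels : (M).rels dD8D16 X = true := by decide +kernel

theorem cores : (M).cores dD8D16 X [⟨4, 1, 2, 0x10003da, 0, 0x100027c, 0⟩,
    ⟨64, 8, 40, 0x120f11, 0, 0x82a0711, 0⟩,
    ⟨68, 9, 41, 0x14003d9, 0, 0x1053c5d9, 0⟩] = true := by decide +kernel

theorem ress : (M).ress dD8D16 X [⟨1, 0x10003d6, 0, 2, 3⟩,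
    ⟨2, 0x10003d6, 0, 2, 3⟩,
    ⟨8, 0xc71c911, 0, 2, 3⟩,
    ⟨16, 0xb5a8f11, 0, 2, 3⟩] = true := by decide +kernel

theorem card : Nat.card (M).T = 411264 := card_prod_eq card_SL32 card_L217

theorem fin : Finite (M).T :=  Nat.finite_of_card_ne_zero (by rw [card]; norm_num)

theorem rz : Rz dD8D16 _ x :=
  haveI := fin
  hx.rz dD8D16_ok (m := 3213) card (by norm_num) rels cores ress (l := [(1, 2), (1, 8), (1, 16), (2, 8), (2, 16), (2, 3), (8, 16), (8, 18), (16, 24), (16, 26), (1, 5), (8, 40), (8, 42), (16, 34), (9, 50), (17, 59), (10, 74)]) (by decide +kernel)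

end PD8D16

theorem models_D8D16 : Models dD8D16 1 := models_one PD8D16.rz

namespace PD8Q16

/-- the model -/
noncomputable def M := (k2.mSL 3).prod (k3.mSL 3) 9 bd32

/-- the codes of the generators -/
def X : ℕ → ℕ := get 27 0x102c1446115188c25031109442228080e4d01012a2020391

theorem ex : ∃ x, (M).RX dD8Q16 X x := Mdl.exists_RX (W := get 1 0x0) (by decide +kernel)

/-- the generators -/
noncomputable def x := Classical.choose ex

theorem hx : (M).RX dD8Q16 X x := Classical.choose_spec ex

theorem rels : (M).rels dD8Q16 X = true := by decide +kernel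

theorem cores : (M).cores dD8Q16 X [⟨4, 1, 2, 0x2020395, 0, 0x20202f9, 0⟩,
    ⟨64, 16, 112, 0x54a4b11, 0, 0x3415511, 0⟩,
    ⟨68, 17, 113, 0x32b4b95, 0, 0x3503395, 0⟩] = true := by decide +kernel

theorem ress : (M).ress dD8Q16 X [⟨1, 0x20203da, 0, 2, 3⟩,
    ⟨2, 0x20203da, 0, 2, 3⟩,
    ⟨16, 0xcb4511, 0, 2, 3⟩,
    ⟨8, 0x4ca4911, 0, 2, 3⟩] = true := by decide +kernel

theorem card : Nat.card (M).T = 943488 := card_prod_eq card_SL32 card_SL33

theorem fin : Finite (M).T :=  Nat.finite_of_card_ne_zero (by rw [card]; norm_num)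

theorem rz : Rz dD8Q16 _ x :=
  haveI := fin
  hx.rz dD8Q16_ok (m := 7371) card (by norm_num) rels cores ress (l := [(1, 2), (2, 3), (16, 8), (8, 8), (8, 120), (1, 5), (16, 48)]) (by decide +kernel)

end PD8Q16

theorem models_D8Q16 : Models dD8Q16 1 := models_one PD8Q16.rz

namespace PD8D32

/-- the model -/
noncomputable def M := (k2.mSL 3).prod (zL231.mdl) 9 bd32

/-- the codes of the generators -/
def X : ℕ → ℕ := get 29 0xea16288ec2d64445463223e2b03118582f8884000c5420006621000313

theorem ex : ∃ x, (M).RX dD8D32 X x := Mdl.exists_RX (W := get 1 0x0) (by decide +kernel)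

/-- the generators -/
noncomputable def x := Classical.choose ex

theorem hx : (M).RX dD8D32 X x := Classical.choose_spec ex

theorem rels : (M).rels dD8D32 X = true := by decide +kernel

theorem cores : (M).cores dD8D32 X [⟨4, 1, 2, 0x10002a7, 0, 0x100031a, 0⟩,
    ⟨128, 8, 168, 0x60f1511, 0, 0x156e1311, 0⟩,
    ⟨132, 9, 169, 0xa2454a7, 0, 0x128488a7, 0⟩] = true := by decide +kernel

theorem ress : (M).ress dD8D32 X [⟨1, 0x10002d5, 0, 2, 3⟩,
    ⟨2, 0x1000275, 0, 2, 3⟩,
    ⟨8, 0x13329b11, 0, 2, 5⟩,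
    ⟨16, 0x181b1111, 0, 2, 5⟩] = true := by decide +kernel

theorem card : Nat.card (M).T = 2499840 := card_prod_eq card_SL32 card_L231

theorem fin : Finite (M).T :=  Nat.finite_of_card_ne_zero (by rw [card]; norm_num)

theorem rz : Rz dD8D32 _ x :=
  haveI := fin
  hx.rz dD8D32_ok (m := 9765) card (by norm_num) rels cores ress (l := [(1, 2), (1, 8), (1, 16), (2, 8), (2, 16), (2, 3), (2, 9), (2, 17), (8, 16), (8, 17), (8, 18), (8, 5), (8, 23), (16, 15), (16, 26), (16, 31), (1, 5), (1, 175), (2, 174), (8, 127), (8, 170), (8, 172), (16, 119), (16, 162), (16, 164), (9, 103), (9, 178), (9, 180), (17, 110), (17, 187), (17, 189), (10, 223), (10, 74), (10, 76), (18, 209), (18, 70), (15, 199), (15, 84), (24, 204), (24, 91), (25, 52), (25, 227), (26, 250), (13, 45)]) (by decide +kernel)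

end PD8D32

theorem models_D8D32 : Models dD8D32 1 := models_one PD8D32.rz

namespace PD8Q32

/-- the model -/
noncomputable def M := (k2.mSL 3).prod (k7.mSL 3) 9 bd32

/-- the codes of the generators -/
def X : ℕ → ℕ := get 36 0xbaeb52711422ad5311962688b11675535311719b931112002003d120020030a200200391

theorem ex : ∃ x, (M).RX dD8Q32 X x := Mdl.exists_RX (W := get 1 0x0) (by decide +kernel)

/-- the generators -/
noncomputable def x := Classical.choose ex

theorem hx : (M).RX dD8Q32 X x := Classical.choose_spec ex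

theorem rels : (M).rels dD8Q32 X = true := by decide +kernel

theorem cores : (M).cores dD8Q32 X [⟨4, 1, 2, 0x200200319, 0, 0x2002002bc, 0⟩,
    ⟨128, 16, 240, 0x65821b311, 0, 0x8a86b5d11, 0⟩,
    ⟨132, 17, 241, 0x26b2349da, 0, 0xb734657da, 0⟩] = true := by decide +kernel

theorem ress : (M).ress dD8Q32 X [⟨1, 0x2002003d6, 0, 2, 3⟩,
    ⟨2, 0x2002003cd, 0, 2, 3⟩,
    ⟨16, 0x801c59911, 0, 2, 3⟩,
    ⟨8, 0xb95b8a911, 0, 2, 3⟩] = true := by decide +kernel

theorem card : Nat.card (M).T = 945955584 := card_prod_eq card_SL32 card_SL37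

theorem fin : Finite (M).T :=  Nat.finite_of_card_ne_zero (by rw [card]; norm_num)

theorem rz : Rz dD8Q32 _ x :=
  haveI := fin
  hx.rz dD8Q32_ok (m := 3695139) card (by norm_num) rels cores ress (l := [(1, 2), (1, 16), (1, 8), (2, 16), (2, 8), (2, 3), (8, 16), (8, 8), (1, 5), (16, 24), (16, 128), (8, 40), (8, 144), (17, 160), (17, 152), (9, 177), (9, 169), (18, 184), (10, 202)]) (by decide +kernel)

end PD8Q32

theorem models_D8Q32 : Models dD8Q32 1 := models_one PD8Q32.rz

namespace PD8W32

/-- the model -/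
noncomputable def M := (k2.mSL 3).prod (k5.mSL 3) 9 bd32

/-- the codes of the generators -/
def X : ℕ → ℕ := get 36 0x3092ca5114588237119098ca1118601041114e0614111200200351200200391200200319

theorem ex : ∃ x, (M).RX dD8W32 X x := Mdl.exists_RX (W := get 1 0x0) (by decide +kernel)

/-- the generators -/
noncomputable def x := Classical.choose ex

theorem hx : (M).RX dD8W32 X x := Classical.choose_spec ex

theorem rels : (M).rels dD8W32 X = true := by decide +kernel

theorem cores : (M).cores dD8W32 X [⟨4, 1, 2, 0x2002002f1, 0, 0x20020038b, 0⟩,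
    ⟨128, 16, 112, 0xc44c9911, 0, 0x24230c511, 0⟩,
    ⟨132, 17, 113, 0x4541116a1, 0, 0x85a0820a1, 0⟩] = true := by decide +kernel

theorem ress : (M).ress dD8W32 X [⟨1, 0x2002003e9, 0, 2, 3⟩,
    ⟨2, 0x2002003d4, 0, 2, 3⟩,
    ⟨16, 0x2c12e3711, 0, 2, 3⟩,
    ⟨8, 0x2469a511, 0, 2, 5⟩] = true := by decide +kernel

theorem card : Nat.card (M).T = 62496000 := card_prod_eq card_SL32 card_SL35

theorem fin : Finite (M).T :=  Nat.finite_of_card_ne_zero (by rw [card]; norm_num)

theorem rz : Rz dD8W32 _ x :=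
  haveI := fin
  hx.rz dD8W32_ok (m := 244125) card (by norm_num) rels cores ress (l := [(1, 2), (1, 16), (1, 8), (2, 3), (16, 8), (8, 8), (8, 248), (1, 5), (16, 48), (8, 48), (17, 56), (9, 201)]) (by decide +kernel)

end PD8W32

theorem models_D8W32 : Models dD8W32 1 := models_one PD8W32.rz

namespace PD16D16

/-- the model -/
noncomputable def M := (zL217.mdl).prod (zL217.mdl) 20 bd217

/-- the codes of the generators -/
def X : ℕ → ℕ := get 40 0x70d0308001321450800173ca3080016b80408001080016816408001480220800181ce108001710c3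

theorem ex : ∃ x, (M).RX dD16D16 X x := Mdl.exists_RX (W := get 1 0x0) (by decide +kernel)

/-- the generators -/
noncomputable def x := Classical.choose ex

theorem hx : (M).RX dD16D16 X x := Classical.choose_spec ex

theorem rels : (M).rels dD16D16 X = true := by decide +kernel

theorem cores : (M).cores dD16D16 X [⟨8, 1, 5, 0x800151c88, 0, 0x80010bcc6, 0⟩,
    ⟨128, 16, 80, 0x680e408001, 0, 0x1220508001, 0⟩,
    ⟨136, 17, 21, 0x1b844715e3, 0, 0x1b84434164, 0⟩] = true := by decide +kernel

theorem ress : (M).ress dD16D16 X [⟨1, 0x800154126, 0, 2, 3⟩,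
    ⟨2, 0x80010a040, 0, 2, 3⟩,
    ⟨16, 0x908008001, 0, 2, 3⟩,
    ⟨32, 0x2c6108001, 0, 2, 3⟩] = true := by decide +kernel

theorem card : Nat.card (M).T = 5992704 := card_prod_eq card_L217 card_L217

theorem fin : Finite (M).T :=  Nat.finite_of_card_ne_zero (by rw [card]; norm_num)

theorem rz : Rz dD16D16 _ x :=
  haveI := fin
  hx.rz dD16D16_ok (m := 23409) card (by norm_num) rels cores ress (l := [(1, 2), (1, 16), (1, 32), (2, 1), (2, 16), (2, 32), (2, 3), (16, 32), (16, 34), (32, 48), (32, 50), (1, 15), (1, 5), (16, 80), (16, 82), (32, 66), (3, 14), (17, 98), (33, 115), (18, 146), (5, 13)]) (by decide +kernel)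

end PD16D16

theorem models_D16D16 : Models dD16D16 1 := models_one PD16D16.rz

namespace PD16Q16

/-- the model -/
noncomputable def M := (zL217.mdl).prod (k3.mSL 3) 20 bd217

/-- the codes of the generators -/
def X : ℕ → ℕ := get 38 0x8022020005a49808001941102000558a808001404054331d010152421404040e301010168804

theorem ex : ∃ x, (M).RX dD16Q16 X x := Mdl.exists_RX (W := get 1 0x0) (by decide +kernel)

/-- the generators -/
noncomputable def x := Classical.choose ex

theorem hx : (M).RX dD16Q16 X x := Classical.choose_spec ex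

theorem rels : (M).rels dD16Q16 X = true := by decide +kernel

theorem cores : (M).cores dD16Q16 X [⟨8, 1, 5, 0x1010179c41, 0, 0x101015b8a8, 0⟩,
    ⟨128, 32, 224, 0x2620108001, 0, 0x2061108001, 0⟩,
    ⟨136, 33, 37, 0x2210211945, 0, 0x2210220982, 0⟩] = true := by decide +kernel

theorem ress : (M).ress dD16Q16 X [⟨1, 0x101016b8e5, 0, 2, 3⟩,
    ⟨2, 0x1010160946, 0, 2, 3⟩,
    ⟨32, 0x2482508001, 0, 2, 3⟩,
    ⟨16, 0x526108001, 0, 2, 3⟩] = true := by decide +kernel

theorem card : Nat.card (M).T = 13747968 := card_prod_eq card_L217 card_SL33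

theorem fin : Finite (M).T :=  Nat.finite_of_card_ne_zero (by rw [card]; norm_num)

theorem rz : Rz dD16Q16 _ x :=
  haveI := fin
  hx.rz dD16Q16_ok (m := 53703) card (by norm_num) rels cores ress (l := [(1, 2), (2, 1), (2, 3), (32, 16), (16, 16), (16, 240), (1, 15), (1, 5), (32, 96), (3, 14), (5, 13)]) (by decide +kernel)

end PD16Q16

theorem models_D16Q16 : Models dD16Q16 1 := models_one PD16Q16.rz

namespace PQ16Q16

/-- the model -/
noncomputable def M := (k3.mSL 3).prod (k3.mSL 3) 18 bd33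

/-- the codes of the generators -/
def X : ℕ → ℕ := get 36 0x9a810101566190101059410101989510101404042a6040406a298404041650404056804

theorem ex : ∃ x, (M).RX dQ16Q16 X x := Mdl.exists_RX (W := get 1 0x0) (by decide +kernel)

/-- the generators -/
noncomputable def x := Classical.choose ex

theorem hx : (M).RX dQ16Q16 X x := Classical.choose_spec ex

theorem rels : (M).rels dQ16Q16 X = true := by decide +kernel

theorem cores : (M).cores dQ16Q16 X [⟨8, 2, 14, 0x404045919, 0, 0x4040502a4, 0⟩,
    ⟨128, 32, 224, 0x194a90101, 0, 0x996690101, 0⟩,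
    ⟨136, 34, 46, 0x4682660a, 0, 0x46804658, 0⟩] = true := by decide +kernel

theorem ress : (M).ress dQ16Q16 X [⟨2, 0x404064809, 0, 2, 3⟩,
    ⟨32, 0x584150101, 0, 2, 3⟩,
    ⟨1, 0x404045a41, 0, 2, 3⟩,
    ⟨16, 0xa10050101, 0, 2, 3⟩] = true := by decide +kernel

theorem card : Nat.card (M).T = 31539456 := card_prod_eq card_SL33 card_SL33

theorem fin : Finite (M).T :=  Nat.finite_of_card_ne_zero (by rw [card]; norm_num)

theorem rz : Rz dQ16Q16 _ x :=
  haveI := fin
  hx.rz dQ16Q16_ok (m := 123201) card (by norm_num) rels cores ress (l := [(2, 1), (32, 16), (1, 1), (1, 15), (16, 16), (16, 240), (2, 6), (32, 96)]) (by decide +kernel)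

end PQ16Q16

theorem models_Q16Q16 : Models dQ16Q16 1 := models_one PQ16Q16.rz

end Cfsg.Agent.FS.Real
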