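import Cfsg.Agent.FS.Real.Tab
import Cfsg.Agent.FS.Real.Grp

/-!
# `GL₃(4)` and `SL₃(4)` (helper83, project FS, part C; generated)
-/

set_option autoImplicit false

namespace Cfsg.Agent.FS.Real

namespace GGL34

/-- the codes of the generators -/
def X : ℕ → ℕ := get 18 0x44423132055401990144509118

theorem ex : ∃ x, (rmF4.mGL 3).RX dU34 X x := Mdl.exists_RX (W := get 18 0x44423132055401990144509118) (by decide +kernel)

/-- the generators -/
noncomputable def x := Classical.choose ex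

theorem hx : (rmF4.mGL 3).RX dU34 X x := Classical.choose_spec ex

theorem rels : (rmF4.mGL 3).rels dU34 X = true := by decide +kernel

theorem cores : (rmF4.mGL 3).cores dU34 X [⟨16, 1, 4, 0x2dbb8, 0x1f9a8, 0x364c5, 0x3f71d⟩,
    ⟨32, 1, 4, 0x1020d, 0x10309, 0x2a60, 0x3bf0⟩,
    ⟨48, 1, 4, 0x23767, 0x3e449, 0x31a42, 0x21bc3⟩] = true := by decide +kernel

theorem ress : (rmF4.mGL 3).ress dU34 X [⟨1, 0x3da6e, 0x976c, 4, 3⟩,
    ⟨2, 0xc7eb, 0x3a837, 2, 5⟩,
    ⟨4, 0x27776, 0x9a98, 2, 3⟩,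
    ⟨8, 0x2593, 0x21d70, 2, 3⟩] = true := by decide +kernel

theorem card : Nat.card (rmF4.mGL 3).T = 181440 := card_GL34

theorem fin : Finite (rmF4.mGL 3).T :=  Nat.finite_of_card_ne_zero (by rw [card]; norm_num)

theorem rz : Rz dU34 _ x :=
  haveI := fin
  hx.rz dU34_ok (m := 2835) card (by norm_num) rels cores ress (l := [(1, 4), (2, 8), (4, 5), (8, 10), (1, 17), (2, 34)]) (by decide +kernel)

theorem pos : Pos dU34 x 3 0x323301 0x201 0x201 16 :=
  hx.pos 0x20982 0x30543 0x20982 0x30543 (by decide +kernel)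

end GGL34

namespace GSL34

/-- the codes of the generators -/
def X : ℕ → ℕ := get 18 0x405050181444053101414050d01

theorem ex : ∃ x, (rmF4.mSL 3).RX dU34 X x := Mdl.exists_RX (W := get 1 0x0) (by decide +kernel)

/-- the generators -/
noncomputable def x := Classical.choose ex

theorem hx : (rmF4.mSL 3).RX dU34 X x := Classical.choose_spec ex

theorem rels : (rmF4.mSL 3).rels dU34 X = true := by decide +kernel

theorem cores : (rmF4.mSL 3).cores dU34 X [⟨16, 1, 4, 0x2711, 0, 0x2e442, 0⟩,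
    ⟨32, 1, 4, 0x2d71, 0, 0x17cc2, 0⟩,
    ⟨48, 1, 4, 0x1553, 0, 0x2ecc3, 0⟩] = true := by decide +kernel

theorem ress : (rmF4.mSL 3).ress dU34 X [⟨1, 0x3c235, 0, 2, 5⟩,
    ⟨2, 0x303b4, 0, 2, 3⟩,
    ⟨4, 0x2a2c4, 0, 2, 3⟩,
    ⟨8, 0x21bc1, 0, 2, 3⟩] = true := by decide +kernel

theorem card : Nat.card (rmF4.mSL 3).T = 60480 := card_SL34

theorem fin : Finite (rmF4.mSL 3).T :=  Nat.finite_of_card_ne_zero (by rw [card]; norm_num)

theorem rz : Rz dU34 _ x :=
  haveI := fin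
  hx.rz dU34_ok (m := 945) card (by norm_num) rels cores ress (l := [(1, 4), (2, 8), (4, 5), (8, 10), (1, 17), (2, 34)]) (by decide +kernel)

theorem le : 106 * Nat.card (Subgroup.centralizer {el x dU34.n 16} : Subgroup _) ≤ 60480 :=
  haveI := fin
  (Mdl.conjs_le (hx.el 16) (C := get 18 0xf82e1605354a1aac8c5ad44580cdf4e358cf7b6353243caafb6a5de84298194a5f1b35ae6d1d43d0ec46414df2ed4493758f35a48578da21815d094df7306a04c84f6ea44366ba0481fed8ffc6a6fce2d3f6f63f34ea4f9f4fb0a790e6d160587681bffa551d94bc2ed397f163571d2033c492b96afa3d6a87b4b26befde532ab5b5c384f5212239dfb01f25c860cc3fca724df45f9cb8558e8d5112fbc86ef1d09135b90dc23a17bcfddff3eb44d913b21232669d524cd23584069601b815ed633ddf75b932675ee423645fc6144be46dbdc331b04a7a81aa315a3187f62a8cec6a883f878e7061af0a894c25879)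
    (T := get 18 0x7042581016c928f1242b1073113b3857f11bff1b90141403205bbe78d3eb8a799fb10a5a844890d214250474c19ea0507f78568adbfc9c4d90901bada1010d414047ebf40414443d40929538b17bafc7016cf1da38bbd1ae6a41445066cb74344715f38974a862540a18c801f1cd52141d3ce639b2d44ef6127404d44415c44ce4a2da18e50d812df6905419dd63a12b41dbe2d92f69b025b042bb902ce431d1c101ddae1610192866e4ffb38f79b4188449089c9716f6fc14860531c1504248c0154b3bd7c1230679ea8427050119d9971a1016440521c1184f32de32e9dc7128eef06d12aac4ea57b4417043120) (by decide +kernel)).trans_eq card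

theorem exz : ∃ ζ : Matrix.SpecialLinearGroup (Fin 3) (GaloisField 2 2), (∀ g, ζ * g = g * ζ) ∧ orderOf ζ = 3 := by
  obtain ⟨ζ, hζ⟩ := (rmF4.mSL 3).ex_of (a := 131586) (w := 0) (by decide +kernel)
  have : Fact (Nat.Prime 3) := ⟨Nat.prime_three⟩
  exact ⟨ζ, rmF4.mdl_comm _ _ _ _ _ (s := 2) (by decide +kernel) ζ hζ, orderOf_eq_prime
    ((rmF4.mSL 3).eq_of (Mdl.R_pw hζ 3) (rmF4.mSL 3).R_one (by decide +kernel))
    ((rmF4.mSL 3).ne_of hζ (rmF4.mSL 3).R_one (by decide +kernel))⟩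

theorem neg : ∀ w ∈ dU34.zl, ¬ 3 * 3 ∣ Nat.card (Subgroup.centralizer {el x dU34.n w} : Subgroup _) := by
  have := fin
  obtain ⟨S, H⟩ := hx.gen dU34_ok rels
  have h0 : ¬ 3 * 3 ∣ Nat.card (Subgroup.centralizer {el x dU34.n 16} : Subgroup _) :=
    H.not_dvd_cent (m := 106) (by decide +kernel) (by norm_num) (le.trans_eq card.symm) (by rw [card]; decide)
  have key : ∀ c w, ((rmF4.mSL 3).ok c 0 && (rmF4.mSL 3).act dU34 X c 16 w) = true →
      ¬ 3 * 3 ∣ Nat.card (Subgroup.centralizer {el x dU34.n w} : Subgroup _) := by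
    intro c w h
    rw [Bool.and_eq_true] at h
    obtain ⟨g, hg⟩ := (rmF4.mSL 3).ex_of h.1
    rw [← card_cent_of_isConj (hx.act hg h.2).isConj]
    exact h0
  intro w hw
  have h1 : w = 16 ∨ w = 32 ∨ w = 48 := by simpa [dU34] using hw
  rcases h1 with rfl | rfl | rfl
  · exact key 65793 _ (by decide +kernel)
  · exact key 200962 _ (by decide +kernel)
  · exact key 204481 _ (by decide +kernel)

end GSL34

theorem models_U34 : Models dU34 2 := by
  have := GSL34.fin
  obtain ⟨ζ, h1, h2⟩ := GSL34.exz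
  exact models_two GGL34.rz GSL34.rz (GGL34.pos.sep_cent' h1 (by decide +kernel) (by decide +kernel)
    (by rw [h2]; exact GSL34.neg))

end Cfsg.Agent.FS.Real
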